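import Groth.Agent.Lib.VB17.Sub
import Groth.Agent.Lib.SmoothReg17.Basic
import Groth.Agent.Lib.DVRVal.Curve
import Groth.Agent.Lib.VarDim.Top
import Mathlib.AlgebraicGeometry.Geometrically.Connected
import Mathlib.Topology.Sober

/-!
# Smooth connected curves over a field are regular integral curves
-/

set_option linter.style.haveILetI false
set_option autoImplicit false

universe u

open CategoryTheory TopologicalSpace CategoryTheory.Limits AlgebraicGeometry

namespace Groth.Agent.VB17

variable {X : Scheme.{u}}

theorem eq_fromSpecStalk_bot {x : X} [IsDomain (X.presheaf.stalk x)] {g : X}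
    (hg : g ∈ genericPoints X) (hx : g ⤳ x) :
    g = X.fromSpecStalk x ⟨⊥, Ideal.isPrime_bot⟩ := by
  obtain ⟨p, rfl⟩ : g ∈ Set.range (X.fromSpecStalk x) := by
    rw [Scheme.range_fromSpecStalk]; exact hx
  have hs : X.fromSpecStalk x ⟨⊥, Ideal.isPrime_bot⟩ ⤳ X.fromSpecStalk x p :=
    ((PrimeSpectrum.le_iff_specializes ⟨⊥, Ideal.isPrime_bot⟩ p).1 bot_le).map
      (X.fromSpecStalk x).continuous
  have hC : closure ({X.fromSpecStalk x p} : Set X) ∈ irreducibleComponents X := hg
  have h1 := hC.2 (show IsIrreducible (closure ({X.fromSpecStalk x ⟨⊥, Ideal.isPrime_bot⟩} : Set X)) from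
      isIrreducible_singleton.closure)
    (closure_minimal (Set.singleton_subset_iff.2 (specializes_iff_mem_closure.1 hs)) isClosed_closure)
  exact ((specializes_iff_mem_closure.2 (h1 (subset_closure rfl))).antisymm hs).eq

/-- Connected Noetherian reduced schemes with domains as local rings are integral. -/
theorem isIntegral_of_connected [IsNoetherian X] [ConnectedSpace X] (h : ∀ x : X, IsDomain (X.presheaf.stalk x)) :
    IsIntegral X := by
  haveI : ∀ x : X, _root_.IsReduced (X.presheaf.stalk x) := fun x => by haveI := h x; infer_instance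
  haveI : IsReduced X := isReduced_of_isReduced_stalk X
  have huniq : ∀ (x : X) (C D : irreducibleComponents X), x ∈ C.1 → x ∈ D.1 → C = D := by
    intro x C D hC hD
    haveI := h x
    have key : ∀ E : irreducibleComponents X, x ∈ E.1 →
        (genericPoints.ofComponent E).1 = X.fromSpecStalk x ⟨⊥, Ideal.isPrime_bot⟩ := fun E hE => by
      refine eq_fromSpecStalk_bot (genericPoints.ofComponent E).2 ?_
      exact ((genericPoints.isGenericPoint_ofComponent E).specializes hE)
    exact genericPoints.equiv.symm.injective (Subtype.ext ((key C hC).trans (key D hD).symm))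
  obtain ⟨x⟩ := (inferInstance : Nonempty X)
  have hfin : (irreducibleComponents X).Finite :=
    TopologicalSpace.NoetherianSpace.finite_irreducibleComponents
  let C : irreducibleComponents X := ⟨irreducibleComponent x, irreducibleComponent_mem_irreducibleComponents x⟩
  have hopen : IsOpen C.1 := by
    have : C.1 = (⋃ D ∈ irreducibleComponents X \ {C.1}, D)ᶜ := by
      ext y
      refine ⟨fun hy hy' => ?_, fun hy => ?_⟩
      · obtain ⟨D, ⟨hD, hne⟩, hyD⟩ := Set.mem_iUnion₂.1 hy'
        exact hne (congrArg Subtype.val (huniq y ⟨D, hD⟩ C hyD hy))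
      · by_contra hyC
        exact hy (Set.mem_iUnion₂.2 ⟨irreducibleComponent y,
          ⟨irreducibleComponent_mem_irreducibleComponents y,
            fun he => hyC ((Set.mem_singleton_iff.1 he) ▸ mem_irreducibleComponent)⟩, mem_irreducibleComponent⟩)
    rw [this]
    exact ((hfin.subset Set.sdiff_subset).isClosed_biUnion fun D hD =>
      isClosed_of_mem_irreducibleComponents D hD.1).isOpen_compl
  have hu : C.1 = Set.univ :=
    IsClopen.eq_univ ⟨isClosed_irreducibleComponent, hopen⟩ ⟨x, mem_irreducibleComponent⟩
  haveI : IrreducibleSpace X :=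
    (irreducibleSpace_def X).2 (show IsIrreducible (Set.univ : Set X) by
      rw [← hu]; exact isIrreducible_irreducibleComponent)
  exact isIntegral_of_irreducibleSpace_of_isReduced X

theorem ringKrullDim_stalk_le_topologicalKrullDim (x : X) :
    ringKrullDim (X.presheaf.stalk x) ≤ topologicalKrullDim X := by
  rw [ringKrullDim_stalk_eq_coheight]
  refine (Order.coheight_le_krullDim x).trans ?_
  rw [Order.krullDim_eq_iSup_height, VarDim.scheme_dim_eq_iSup_height]

variable {k : Type u} [Field k] [X.Over (Spec (CommRingCat.of k))]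

theorem pid_stalk [Smooth (X ↘ Spec (CommRingCat.of k))] (hdim : topologicalKrullDim X ≤ 1) (x : X) :
    IsPrincipalIdealRing (X.presheaf.stalk x) := by
  haveI := SmoothReg17.isRegularLocalRing_stalk (X ↘ Spec (CommRingCat.of k)) x
  haveI := SmoothReg17.isDomain_stalk (X ↘ Spec (CommRingCat.of k)) x
  haveI := SmoothReg17.isIntegrallyClosed_stalk (X ↘ Spec (CommRingCat.of k)) x
  haveI := DVRVal.valuationRing_of_normal (X.presheaf.stalk x)
    ((ringKrullDim_stalk_le_topologicalKrullDim x).trans hdim)
  have e : IsNoetherianRing (X.presheaf.stalk x) ↔ IsPrincipalIdealRing (X.presheaf.stalk x) :=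
    (IsBezout.TFAE (R := X.presheaf.stalk x)).out 0 1
  exact e.1 inferInstance

theorem isNoetherian_of_over [LocallyOfFiniteType (X ↘ Spec (CommRingCat.of k))]
    [QuasiCompact (X ↘ Spec (CommRingCat.of k))] : IsNoetherian X :=
  haveI := LocallyOfFiniteType.isLocallyNoetherian (X ↘ Spec (CommRingCat.of k))
  haveI : CompactSpace X := QuasiCompact.compactSpace_of_compactSpace (X ↘ Spec (CommRingCat.of k))
  {}

theorem isSeparated_of_over [IsSeparated (X ↘ Spec (CommRingCat.of k))] : X.IsSeparated :=
  (X.isSeparated_iff).2 (by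
    rw [← Limits.terminal.comp_from (X ↘ Spec (CommRingCat.of k))]
    infer_instance)

theorem connectedSpace_of_geometricallyConnected [GeometricallyConnected (X ↘ Spec (CommRingCat.of k))] :
    ConnectedSpace X :=
  GeometricallyConnected.connectedSpace_of_subsingleton (X ↘ Spec (CommRingCat.of k))

theorem isIntegral_of_smooth [IsProper (X ↘ Spec (CommRingCat.of k))] [Smooth (X ↘ Spec (CommRingCat.of k))]
    [GeometricallyConnected (X ↘ Spec (CommRingCat.of k))] : IsIntegral X :=
  haveI := isNoetherian_of_over (k := k) (X := X)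
  haveI := connectedSpace_of_geometricallyConnected (k := k) (X := X)
  isIntegral_of_connected fun x => SmoothReg17.isDomain_stalk (X ↘ Spec (CommRingCat.of k)) x

/-- A smooth proper integral curve, given finiteness of coherent cohomology. -/
theorem regCurve_of [IsIntegral X] [IsProper (X ↘ Spec (CommRingCat.of k))] [Smooth (X ↘ Spec (CommRingCat.of k))]
    (hdim : topologicalKrullDim X = 1)
    (hfin : ∀ M : X.Modules, Coh.IsCoh M → ∀ n, Module.Finite k (Coh.HH X M n)) : RegCurve k X where
  like := ⟨isNoetherian_of_over (k := k), isSeparated_of_over (k := k), hdim.le, hfin⟩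
  integral := inferInstance
  pid := pid_stalk (k := k) hdim.le

end Groth.Agent.VB17
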