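import Groth.Agent.Lib.CurveCoh17.Section
import Groth.Agent.Lib.RankFree12.Scheme
import Groth.Agent.Lib.ModM1.Coh
import Groth.Agent.Lib.ModM1.LocFree
import Mathlib.LinearAlgebra.Dimension.RankNullity
import Mathlib.LinearAlgebra.FreeModule.PID

/-!
# Locally free modules on a regular integral curve: submodules, images, ranks, degree comparison
-/

set_option linter.style.haveILetI false
set_option autoImplicit false
set_option maxHeartbeats 800000

universe u

open CategoryTheory TopologicalSpace Opposite CategoryTheory.Limits AlgebraicGeometry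

namespace Groth.Agent.VB17

open Groth.Agent.M1 Groth.Agent.M2 Groth.Agent.CurveCoh17

/-- A regular integral curve over a field with finite-dimensional cohomology of coherent modules. -/
structure RegCurve (k : Type u) [Field k] (X : Scheme.{u}) [X.Over (Spec (CommRingCat.of k))] : Prop where
  like : CurveLike k X
  integral : IsIntegral X
  pid : ∀ x : X, IsPrincipalIdealRing (X.presheaf.stalk x)

variable {X : Scheme.{u}} [IsIntegral X]

theorem finrank_stalk {r : ℕ} {E : X.Modules} (hE : FlatMod.IsFinLocFreeOfRank r E) (x : X) :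
    Module.finrank (X.presheaf.stalk x) (E.presheaf.stalk x) = r := by
  obtain ⟨e⟩ := nonempty_stalk_equiv hE x
  rw [e.finrank_eq, Module.finrank_fin_fun]

theorem rank_unique {r r' : ℕ} {E : X.Modules} (h : FlatMod.IsFinLocFreeOfRank r E)
    (h' : FlatMod.IsFinLocFreeOfRank r' E) : r = r' :=
  (finrank_stalk h (genericPoint X)).symm.trans (finrank_stalk h' (genericPoint X))

theorem isZero_of_stalk {M : X.Modules} (h : ∀ x, ∀ a : M.presheaf.stalk x, a = 0) : IsZero M := by
  rw [IsZero.iff_id_eq_zero]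
  refine Scheme.Modules.hom_ext _ _ fun U => ?_
  ext a
  exact M1.section_ext _ _ fun x hx => ((h x) _).trans ((h x) _).symm

theorem isZero_of_rank_zero {E : X.Modules} (hE : FlatMod.IsFinLocFreeOfRank 0 E) : IsZero E :=
  isZero_of_stalk fun x a => by
    obtain ⟨e⟩ := nonempty_stalk_equiv hE x
    exact e.injective (Subsingleton.elim _ _)

theorem free_stalk_of_mono [IsNoetherian X] {r : ℕ} {E G : X.Modules} (hE : FlatMod.IsFinLocFreeOfRank r E)
    (hG : Coh.IsCoh G) (g : G ⟶ E) [Mono g] (x : X) (hx : IsPrincipalIdealRing (X.presheaf.stalk x)) :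
    Module.Free (X.presheaf.stalk x) (G.presheaf.stalk x) ∧
      Module.finrank (X.presheaf.stalk x) (G.presheaf.stalk x) ≤ r := by
  haveI := hx
  obtain ⟨e⟩ := nonempty_stalk_equiv hE x
  haveI : Module.Finite (X.presheaf.stalk x) (G.presheaf.stalk x) :=
    finite_stalk hG.1 hG.2 x
  let j : G.presheaf.stalk x →ₗ[X.presheaf.stalk x] (Fin r → X.presheaf.stalk x) :=
    e.toLinearMap.comp (stalkLin g x)
  have hj : Function.Injective j := e.injective.comp ((mono_iff_stalk g).1 inferInstance x)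
  haveI : Module.IsTorsionFree (X.presheaf.stalk x) (G.presheaf.stalk x) :=
    hj.moduleIsTorsionFree _ (map_smul j)
  refine ⟨Module.free_of_finite_type_torsion_free', ?_⟩
  exact (LinearMap.finrank_le_finrank_of_injective hj).trans (Module.finrank_fin_fun _).le

/-- Coherent submodules of locally free modules are locally free, of smaller rank. -/
theorem exists_rank_of_mono [IsNoetherian X] (hpid : ∀ x : X, IsPrincipalIdealRing (X.presheaf.stalk x))
    {r : ℕ} {E G : X.Modules} (hE : FlatMod.IsFinLocFreeOfRank r E) (hG : Coh.IsCoh G) (g : G ⟶ E) [Mono g] :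
    ∃ r' ≤ r, FlatMod.IsFinLocFreeOfRank r' G := by
  have hlf : FlatMod.IsFinLocFree G :=
    (isFinLocFree_iff G).2 ⟨isFP_of_isCoh hG, fun x => (free_stalk_of_mono hE hG g x (hpid x)).1⟩
  have key : ∀ (U : X.Opens) (n : ℕ), Nonempty U →
      Nonempty (G.restrict U.ι ≅ FlatMod.freeMod (U : Scheme.{u}) n) →
      RankFree12.rk G (genericPoint X) = n := fun U n hne ⟨e⟩ =>
    RankFree12.rk_of_freeMod hG.1 e
      (((genericPoint_spec X).mem_open_set_iff U.2).2 (by
        obtain ⟨y⟩ := hne
        exact ⟨y.1, Set.mem_univ _, y.2⟩))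
  have hG' : FlatMod.IsFinLocFreeOfRank (RankFree12.rk G (genericPoint X)) G := fun x => by
    obtain ⟨U, n, hxU, he⟩ := hlf x
    exact ⟨U, hxU, by rw [key U n ⟨⟨x, hxU⟩⟩ he]; exact he⟩
  refine ⟨_, ?_, hG'⟩
  have := (free_stalk_of_mono hE hG g (genericPoint X) (hpid _)).2
  rwa [finrank_stalk hG'] at this

theorem rank_add {S : ShortComplex X.Modules} (hS : S.ShortExact) {r₁ r₂ r₃ : ℕ}
    (h₁ : FlatMod.IsFinLocFreeOfRank r₁ S.X₁) (h₂ : FlatMod.IsFinLocFreeOfRank r₂ S.X₂)
    (h₃ : FlatMod.IsFinLocFreeOfRank r₃ S.X₃) : r₂ = r₁ + r₃ := by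
  set η := genericPoint X
  obtain ⟨e₂⟩ := nonempty_stalk_equiv h₂ η
  haveI : Module.Finite (X.presheaf.stalk η) (S.X₂.presheaf.stalk η) := Module.Finite.equiv e₂.symm
  haveI := hS.mono_f
  haveI := hS.epi_g
  have hinj : Function.Injective (stalkLin S.f η) := (mono_iff_stalk S.f).1 hS.mono_f η
  have hsurj : Function.Surjective (stalkLin S.g η) := (epi_iff_stalk S.g).1 hS.epi_g η
  have hex : LinearMap.range (stalkLin S.f η) = LinearMap.ker (stalkLin S.g η) := by
    ext b
    rw [LinearMap.mem_range, LinearMap.mem_ker]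
    refine ⟨?_, fun hb => (exact_iff_stalk_eq_zero S).1 hS.exact η b hb⟩
    rintro ⟨a, rfl⟩
    rw [← stalkLin_comp, S.zero]
    show (stalkAb η).map (0 : S.X₁ ⟶ S.X₃) a = 0
    rw [Functor.map_zero]
    rfl
  have h := Submodule.finrank_quotient_add_finrank (LinearMap.ker (stalkLin S.g η))
  rw [((stalkLin S.g η).quotKerEquivOfSurjective hsurj).finrank_eq, ← hex,
    LinearMap.finrank_range_of_inj hinj, finrank_stalk h₁, finrank_stalk h₂, finrank_stalk h₃] at h
  omega

/-- The kernel and image of a map between locally free modules. -/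
theorem exists_image [IsNoetherian X] (hpid : ∀ x : X, IsPrincipalIdealRing (X.presheaf.stalk x))
    {r s : ℕ} {E F : X.Modules} (hE : FlatMod.IsFinLocFreeOfRank r E) (hF : FlatMod.IsFinLocFreeOfRank s F)
    (f : E ⟶ F) :
    ∃ rK rI : ℕ, FlatMod.IsFinLocFreeOfRank rK (kernel f) ∧
      FlatMod.IsFinLocFreeOfRank rI (Abelian.image f) ∧ r = rK + rI ∧ rI ≤ s ∧
      (rI = 0 ↔ f = 0) ∧ (rK = 0 ↔ Mono f) := by
  have hcE := isCoh_of_ofRank hE
  have hcF := isCoh_of_ofRank hF
  obtain ⟨rI, hle, hI⟩ := exists_rank_of_mono hpid hF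
    (isCoh_of_mono (Abelian.image.ι f) hcF (isQCoh_kernel hcF.1 (isCoh_cokernel hcE.1 hcF f).1 _))
    (Abelian.image.ι f)
  obtain ⟨rK, -, hK⟩ := exists_rank_of_mono hpid hE (CurveCoh17.isCoh_kernel hcE hcF.1 f) (kernel.ι f)
  refine ⟨rK, rI, hK, hI, rank_add (kerSC_shortExact f) hK hE hI, hle, ⟨?_, ?_⟩, ⟨?_, ?_⟩⟩
  · rintro rfl
    rw [← Abelian.image.fac f, (isZero_of_rank_zero hI).eq_of_src (Abelian.image.ι f) 0, comp_zero]
  · intro hf
    have h0 : Abelian.image.ι f = 0 := by
      rw [← cancel_epi (Abelian.factorThruImage f), Abelian.image.fac, comp_zero, hf]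
    have hz : IsZero (Abelian.image f) := by
      rw [IsZero.iff_id_eq_zero, ← cancel_mono (Abelian.image.ι f), zero_comp, h0, comp_zero]
    obtain ⟨e⟩ := nonempty_stalk_equiv hI (genericPoint X)
    have hsub : ∀ a : (Abelian.image f).presheaf.stalk (genericPoint X), a = 0 := fun a => by
      have h1 : stalkLin (𝟙 (Abelian.image f)) (genericPoint X) a = a := by
        show (stalkAb _).map (𝟙 (Abelian.image f)) a = a
        rw [CategoryTheory.Functor.map_id]
        rfl
      rw [← h1, hz.eq_of_src (𝟙 _) 0]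
      show (stalkAb _).map (0 : Abelian.image f ⟶ Abelian.image f) a = 0
      rw [Functor.map_zero]
      rfl
    rcases Nat.eq_zero_or_pos rI with h | h
    · exact h
    · exact absurd (congrFun (congrArg e (hsub (e.symm (fun _ => 1)))) ⟨0, h⟩) (by simp)
  · rintro rfl
    exact Preadditive.mono_of_kernel_zero ((isZero_of_rank_zero hK).eq_of_src _ _)
  · intro hf
    have hι : kernel.ι f = 0 := kernel.ι_of_mono f
    have hinj := (mono_iff_stalk (kernel.ι f)).1 inferInstance (genericPoint X)
    obtain ⟨e⟩ := nonempty_stalk_equiv hK (genericPoint X)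
    rcases Nat.eq_zero_or_pos rK with h | h
    · exact h
    · have : e.symm (fun _ => 1) = 0 := hinj (by
        show (stalkAb (genericPoint X)).map (kernel.ι f) (e.symm fun _ => 1)
          = (stalkAb (genericPoint X)).map (kernel.ι f) 0
        rw [hι, Functor.map_zero]
        rfl)
      exact absurd (congrFun (congrArg e this) ⟨0, h⟩) (by simp)

section Deg

variable {k : Type u} [Field k] [X.Over (Spec (CommRingCat.of k))]

theorem deg_add (hX : CurveLike k X) {S : ShortComplex X.Modules} (hS : S.ShortExact) {r₁ r₂ r₃ : ℕ}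
    (h₁ : FlatMod.IsFinLocFreeOfRank r₁ S.X₁) (h₂ : FlatMod.IsFinLocFreeOfRank r₂ S.X₂)
    (h₃ : FlatMod.IsFinLocFreeOfRank r₃ S.X₃) :
    Curv2.deg k X S.X₂ r₂ = Curv2.deg k X S.X₁ r₁ + Curv2.deg k X S.X₃ r₃ := by
  rw [rank_add hS h₁ h₂ h₃, hX.deg_shortExact hS h₁ h₃]

theorem suppIn_empty_of_isZero {M : X.Modules} (h : ∀ x, ∀ a : M.presheaf.stalk x, a = 0) :
    SuppIn M (∅ : Finset X) :=
  ⟨fun x hx => absurd hx (Finset.notMem_empty x), fun x _ => h x⟩

theorem finrank_h0_of_empty {M : X.Modules} (h : SuppIn M (∅ : Finset X)) :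
    Subsingleton (Coh.HH X M 0) :=
  ⟨fun a b => (hh0 M).injective (h.section_ext _ _ fun _ hx => absurd hx (Finset.notMem_empty _))⟩

theorem deg_rank_zero (hX : CurveLike k X) {E : X.Modules} (hE : FlatMod.IsFinLocFreeOfRank 0 E) :
    Curv2.deg k X E 0 = 0 := by
  have h := suppIn_empty_of_isZero (M := E) fun x a => by
    obtain ⟨e⟩ := nonempty_stalk_equiv hE x
    exact e.injective (Subsingleton.elim _ _)
  haveI := finrank_h0_of_empty h
  rw [Curv2.deg, h.euler_eq (hX.fin _ (isCoh_of_ofRank hE) 0), Module.finrank_zero_of_subsingleton]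
  simp

/-- A submodule of full rank has smaller degree, with equality only if it is everything. -/
theorem deg_le_of_mono (hX : CurveLike k X) {r : ℕ} {G E : X.Modules}
    (hG : FlatMod.IsFinLocFreeOfRank r G) (hE : FlatMod.IsFinLocFreeOfRank r E) (g : G ⟶ E) [Mono g] :
    Curv2.deg k X G r ≤ Curv2.deg k X E r ∧ (Curv2.deg k X G r = Curv2.deg k X E r → IsIso g) := by
  haveI := hX.noetherian
  have hinj := (mono_iff_stalk g).1 inferInstance
  obtain ⟨S, hS⟩ := exists_suppIn_of_maximal hX.dim
    (isCoh_cokernel (isCoh_of_ofRank hG).1 (isCoh_of_ofRank hE) g) fun x hx =>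
      eq_genericPoint_of_maximal hx ▸ eq_zero_stalk_cokernel g _
        (surjective_stalkLin_genericPoint (nonempty_stalk_equiv hG _) (nonempty_stalk_equiv hE _) g
          (hinj _))
  have hK0 : ∀ x, ∀ a : (kernel g).presheaf.stalk x, a = 0 := fun x => eq_zero_stalk_kernel g x (hinj x)
  have hK : SuppIn (kernel g) S := ⟨hS.closed, fun x _ => hK0 x⟩
  obtain ⟨hk, hc, he⟩ := euler_sub g (hX.adm (isCoh_of_ofRank hG)) (hX.adm (isCoh_of_ofRank hE)) hK hS
  haveI := finrank_h0_of_empty (suppIn_empty_of_isZero hK0)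
  rw [Module.finrank_zero_of_subsingleton (M := Coh.HH X (kernel g) 0)] at he
  refine ⟨by rw [Curv2.deg, Curv2.deg]; omega, fun heq => ?_⟩
  have hc0 : Module.finrank k (Coh.HH X (cokernel g) 0) = 0 := by
    rw [Curv2.deg, Curv2.deg] at heq; omega
  haveI := hc
  haveI : Subsingleton (Coh.HH X (cokernel g) 0) := Module.finrank_zero_iff.1 hc0
  haveI : Subsingleton Γ(cokernel g, (⊤ : X.Opens)) := (hh0 (cokernel g)).symm.injective.subsingleton
  have hC0 : ∀ x, ∀ a : (cokernel g).presheaf.stalk x, a = 0 := by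
    intro x a
    by_cases hxS : x ∈ S
    · classical
      obtain ⟨s, hs⟩ := hS.exists_section ⊤ fun y => if h : y = x then h ▸ a else 0
      have h1 := hs x hxS (Opens.mem_top x)
      rw [dif_pos rfl] at h1
      exact h1.symm.trans (by rw [Subsingleton.elim s 0, map_zero])
    · exact hS.zero x hxS a
  haveI : Epi g := Preadditive.epi_of_cokernel_zero
    ((isZero_of_stalk hC0).eq_of_tgt _ _)
  exact isIso_of_mono_of_epi g

end Deg

end Groth.Agent.VB17
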