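import Groth.Agent.Lib.VB17.Slope
import Groth.Agent.Lib.ModM1.FibreProd

/-!
# Boundedness of degrees of subsheaves, maximal slope, extensions of semistable modules
-/

set_option linter.style.haveILetI false
set_option autoImplicit false
set_option maxHeartbeats 800000

universe u

open CategoryTheory TopologicalSpace CategoryTheory.Limits AlgebraicGeometry

namespace Groth.Agent.VB17

open Groth.Agent.M1 Groth.Agent.M2 Groth.Agent.CurveCoh17

variable {k : Type u} [Field k] {X : Scheme.{u}} [X.Over (Spec (CommRingCat.of k))]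
variable {r : ℕ} {E : X.Modules}
variable (hX : RegCurve k X)
include hX

theorem deg_sub_le (hE : FlatMod.IsFinLocFreeOfRank r E) {G : X.Modules} {r' : ℕ}
    (hG : FlatMod.IsFinLocFreeOfRank r' G) (i : G ⟶ E) [Mono i] :
    Curv2.deg k X G r' ≤
      (Module.finrank k (Coh.HH X E 0) : ℤ) + r' * (Curv2.genus k X : ℤ) := by
  haveI := hX.like.fin E (isCoh_of_ofRank hE) 0
  have hinj : Function.Injective (hmap k i 0) :=
    hmap_f_injective k (S := ShortComplex.mk i (cokernel.π i) (cokernel.condition i))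
      { exact := ShortComplex.exact_of_g_is_cokernel _ (cokernelIsCokernel _) }
  have h1 : Module.finrank k (Coh.HH X G 0) ≤ Module.finrank k (Coh.HH X E 0) :=
    LinearMap.finrank_le_finrank_of_injective hinj
  rw [Curv2.deg, hX.like.euler_structureModule, (hX.like.adm (isCoh_of_ofRank hG)).euler_eq, mul_sub]
  nlinarith [show (0 : ℤ) ≤ (r' : ℤ) * (Module.finrank k (Coh.HH X (Coh.structureModule X) 0) : ℤ) by positivity,
    show (Module.finrank k (Coh.HH X G 0) : ℤ) ≤ Module.finrank k (Coh.HH X E 0) by exact_mod_cast h1,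
    Int.natCast_nonneg (Module.finrank k (Coh.HH X G 1))]

theorem deg_sub_bdd (hE : FlatMod.IsFinLocFreeOfRank r E) :
    ∃ N : ℤ, ∀ (G : X.Modules) (r' : ℕ) (i : G ⟶ E), Mono i → FlatMod.IsFinLocFreeOfRank r' G →
      Curv2.deg k X G r' ≤ N := by
  refine ⟨(Module.finrank k (Coh.HH X E 0) : ℤ) + r * (Curv2.genus k X : ℤ), fun G r' i hi hG => ?_⟩
  haveI := hi
  refine (deg_sub_le hX hE hG i).trans (add_le_add le_rfl ?_)
  exact mul_le_mul_of_nonneg_right (by exact_mod_cast rank_le_of_mono hX hE hG i) (by positivity)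

/-- A submodule of maximal slope and, among those, of maximal rank. -/
theorem exists_max_slope (hr : 0 < r) (hE : FlatMod.IsFinLocFreeOfRank r E) :
    ∃ (E₁ : X.Modules) (r₁ : ℕ) (i₁ : E₁ ⟶ E), Mono i₁ ∧ 0 < r₁ ∧ FlatMod.IsFinLocFreeOfRank r₁ E₁ ∧
      (∀ (G : X.Modules) (r' : ℕ) (j : G ⟶ E), Mono j → 0 < r' → FlatMod.IsFinLocFreeOfRank r' G →
        Curv2.deg k X G r' * (r₁ : ℤ) ≤ Curv2.deg k X E₁ r₁ * (r' : ℤ)) ∧
      (∀ (G : X.Modules) (r' : ℕ) (j : G ⟶ E), Mono j → 0 < r' → FlatMod.IsFinLocFreeOfRank r' G →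
        Curv2.deg k X G r' * (r₁ : ℤ) = Curv2.deg k X E₁ r₁ * (r' : ℤ) → r' ≤ r₁) ∧
      SS k E₁ r₁ := by
  classical
  obtain ⟨N, hN⟩ := deg_sub_bdd hX hE
  let Q : ℕ → ℤ → Prop := fun r' d => 0 < r' ∧ ∃ (G : X.Modules) (j : G ⟶ E), Mono j ∧
    FlatMod.IsFinLocFreeOfRank r' G ∧ Curv2.deg k X G r' = d
  have key : ∀ r', (∃ d, Q r' d) → ∃ d, Q r' d ∧ ∀ e, Q r' e → e ≤ d := fun r' hne => by
    obtain ⟨d, hd, hmax⟩ := Int.exists_greatest_of_bdd (P := Q r')
      ⟨N, fun z hz => by obtain ⟨-, G, j, hj, hG, rfl⟩ := hz; exact hN G r' j hj hG⟩ hne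
    exact ⟨d, hd, hmax⟩
  have hmemr : ∀ r' d, Q r' d → r' ∈ Finset.range (r + 1) := fun r' d ⟨_, G, j, hj, hG, _⟩ =>
    Finset.mem_range.2 (Nat.lt_succ_of_le (haveI := hj; rank_le_of_mono hX hE hG j))
  let S : Finset ℕ := (Finset.range (r + 1)).filter fun r' => ∃ d, Q r' d
  let D : ℕ → ℤ := fun r' => if h : ∃ d, Q r' d then (key r' h).choose else 0
  have hD : ∀ r', (∃ d, Q r' d) → Q r' (D r') ∧ ∀ e, Q r' e → e ≤ D r' := fun r' h => by
    simp only [D, dif_pos h]; exact (key r' h).choose_spec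
  have hSne : S.Nonempty := ⟨r, Finset.mem_filter.2 ⟨Finset.self_mem_range_succ r,
    Curv2.deg k X E r, hr, E, 𝟙 E, inferInstance, hE, rfl⟩⟩
  let μ : ℕ → ℚ := fun r' => (D r' : ℚ) / r'
  obtain ⟨a, haS, ha⟩ := S.exists_max_image μ hSne
  let T := S.filter fun r' => μ r' = μ a
  obtain ⟨r₁, hr₁T, hr₁⟩ := T.exists_max_image id ⟨a, Finset.mem_filter.2 ⟨haS, rfl⟩⟩
  obtain ⟨hr₁S, hμ⟩ := Finset.mem_filter.1 hr₁T
  obtain ⟨⟨hpos, E₁, i₁, hi₁, hE₁, hdE₁⟩, -⟩ := hD r₁ (Finset.mem_filter.1 hr₁S).2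
  have hq1 : (0 : ℚ) < r₁ := by exact_mod_cast hpos
  have main : ∀ (G : X.Modules) (r' : ℕ) (j : G ⟶ E), Mono j → 0 < r' → FlatMod.IsFinLocFreeOfRank r' G →
      Curv2.deg k X G r' * (r₁ : ℤ) ≤ Curv2.deg k X E₁ r₁ * (r' : ℤ) ∧
      (Curv2.deg k X G r' * (r₁ : ℤ) = Curv2.deg k X E₁ r₁ * (r' : ℤ) → r' ≤ r₁) := by
    intro G r' j hj h0 hG
    have hQ : Q r' (Curv2.deg k X G r') := ⟨h0, G, j, hj, hG, rfl⟩
    have hle := (hD r' ⟨_, hQ⟩).2 _ hQ
    have hS' : r' ∈ S := Finset.mem_filter.2 ⟨hmemr _ _ hQ, _, hQ⟩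
    have hq : (0 : ℚ) < r' := by exact_mod_cast h0
    have h1 : (D r' : ℚ) / r' ≤ (D r₁ : ℚ) / r₁ := (ha r' hS').trans_eq hμ.symm
    rw [hdE₁]
    have h2 : (D r' : ℚ) * r₁ ≤ (D r₁ : ℚ) * r' := (div_le_div_iff₀ hq hq1).1 h1
    have h3 : D r' * (r₁ : ℤ) ≤ D r₁ * (r' : ℤ) := by exact_mod_cast h2
    have h4 : Curv2.deg k X G r' * (r₁ : ℤ) ≤ D r' * (r₁ : ℤ) :=
      mul_le_mul_of_nonneg_right hle (by positivity)
    refine ⟨h4.trans h3, fun heq => hr₁ r' (Finset.mem_filter.2 ⟨hS', ?_⟩)⟩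
    have h5 : D r' * (r₁ : ℤ) = D r₁ * (r' : ℤ) := le_antisymm h3 (heq ▸ h4)
    rw [← hμ]
    exact (div_eq_div_iff hq.ne' hq1.ne').2 (by exact_mod_cast h5)
  refine ⟨E₁, r₁, i₁, hi₁, hpos, hE₁, fun G r' j hj h0 hG => (main G r' j hj h0 hG).1,
    fun G r' j hj h0 hG => (main G r' j hj h0 hG).2, fun G r' i hi h0 hG => ?_⟩
  exact (main G r' (i ≫ i₁) (by haveI := hi; haveI := hi₁; exact mono_comp _ _) h0 hG).1

/-- A submodule of a middle term: bounded by the slopes of submodules of the two ends. -/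
theorem deg_le_of_shortExact {S : ShortComplex X.Modules} (hS : S.ShortExact) {r₁ r₂ r₃ : ℕ}
    (h₁ : FlatMod.IsFinLocFreeOfRank r₁ S.X₁) (h₂ : FlatMod.IsFinLocFreeOfRank r₂ S.X₂)
    (h₃ : FlatMod.IsFinLocFreeOfRank r₃ S.X₃) (M : ℚ)
    (hA : ∀ (G : X.Modules) (r' : ℕ) (i : G ⟶ S.X₁), Mono i → 0 < r' → FlatMod.IsFinLocFreeOfRank r' G →
      (Curv2.deg k X G r' : ℚ) / r' ≤ M)
    (hB : ∀ (G : X.Modules) (r' : ℕ) (i : G ⟶ S.X₃), Mono i → 0 < r' → FlatMod.IsFinLocFreeOfRank r' G →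
      (Curv2.deg k X G r' : ℚ) / r' ≤ M)
    {G : X.Modules} {r' : ℕ} (hG : FlatMod.IsFinLocFreeOfRank r' G) (i : G ⟶ S.X₂) [Mono i] :
    (Curv2.deg k X G r' : ℚ) ≤ M * r' := by
  haveI := hS.mono_f
  obtain ⟨rK, rI, dK, dI, hK, hI, hdK, hdI, hd, hr, -, -, -, hK0, hI0, -⟩ := map_data hX hG h₃ (i ≫ S.g)
  have eK : (dK : ℚ) ≤ M * rK := by
    rcases Nat.eq_zero_or_pos rK with h | h
    · rw [hK0 h, h]; simp
    · let l := hS.exact.lift (kernel.ι (i ≫ S.g) ≫ i) (by rw [Category.assoc, kernel.condition])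
      haveI : Mono l := by
        haveI : Mono (l ≫ S.f) := by rw [hS.exact.lift_f]; exact mono_comp _ _
        exact mono_of_mono l S.f
      have := hA _ rK l inferInstance h hK
      rwa [div_le_iff₀ (by exact_mod_cast h), ← hdK] at this
  have eI : (dI : ℚ) ≤ M * rI := by
    rcases Nat.eq_zero_or_pos rI with h | h
    · rw [hI0 h, h]; simp
    · have := hB _ rI (Abelian.image.ι (i ≫ S.g)) inferInstance h hI
      rwa [div_le_iff₀ (by exact_mod_cast h), ← hdI] at this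
  rw [hd, hr]
  push_cast
  linarith

/-- Extensions and semistability, all three slopes being equal. -/
theorem ss_extension_iff {S : ShortComplex X.Modules} (hS : S.ShortExact) {r₁ r₂ r₃ : ℕ}
    (hr₁ : 0 < r₁) (hr₂ : 0 < r₂) (hr₃ : 0 < r₃)
    (h₁ : FlatMod.IsFinLocFreeOfRank r₁ S.X₁) (h₂ : FlatMod.IsFinLocFreeOfRank r₂ S.X₂)
    (h₃ : FlatMod.IsFinLocFreeOfRank r₃ S.X₃)
    (hμ₁ : Curv2.deg k X S.X₁ r₁ * (r₂ : ℤ) = Curv2.deg k X S.X₂ r₂ * (r₁ : ℤ))
    (hμ₃ : Curv2.deg k X S.X₃ r₃ * (r₂ : ℤ) = Curv2.deg k X S.X₂ r₂ * (r₃ : ℤ)) :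
    SS k S.X₂ r₂ ↔ SS k S.X₁ r₁ ∧ SS k S.X₃ r₃ := by
  haveI := hX.integral; haveI := hX.like.noetherian
  haveI := hS.mono_f
  haveI := hS.epi_g
  have hp₂ : (0 : ℤ) < r₂ := by exact_mod_cast hr₂
  constructor
  · intro hss
    refine ⟨fun G r' i hi h0 hG => ?_, fun G r' i hi h0 hG => ?_⟩
    · haveI := hi
      have h := hss G r' (i ≫ S.f) (mono_comp _ _) h0 hG
      refine le_of_mul_le_mul_right ?_ hp₂
      have h' := mul_le_mul_of_nonneg_right h (show (0 : ℤ) ≤ r₁ by positivity)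
      have e := congrArg (· * (r' : ℤ)) hμ₁
      linarith
    · haveI := hi
      obtain ⟨rP, -, hP⟩ := exists_rank_of_mono hX.pid h₂
        (isCoh_fibreProd (isCoh_of_ofRank h₂) (isCoh_of_ofRank hG) (isCoh_of_ofRank h₃).1 S.g i) (pullback.fst S.g i)
      let T : ShortComplex X.Modules :=
        ShortComplex.mk (pullback.lift S.f (0 : S.X₁ ⟶ G) (by rw [S.zero, zero_comp]))
          (pullback.snd S.g i) (pullback.lift_snd _ _ _)
      haveI : Mono T.f := by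
        haveI : Mono (T.f ≫ pullback.fst S.g i) := by
          rw [show T.f ≫ pullback.fst S.g i = S.f from pullback.lift_fst _ _ _]; infer_instance
        exact mono_of_mono T.f (pullback.fst S.g i)
      have hT : T.ShortExact :=
        { exact := ShortComplex.exact_of_f_is_kernel _ <| KernelFork.IsLimit.ofι' _ _ fun {A} a ha =>
            ⟨hS.exact.lift (a ≫ pullback.fst S.g i) (by
                rw [Category.assoc, pullback.condition, ← Category.assoc, ha, zero_comp]), by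
              apply pullback.hom_ext
              · rw [Category.assoc, pullback.lift_fst, hS.exact.lift_f]
              · rw [Category.assoc, pullback.lift_snd, comp_zero, ha]⟩
          mono_f := inferInstance
          epi_g := Abelian.epi_pullback_of_epi_f S.g i }
      have hd := deg_add hX.like hT h₁ hP hG
      have hr := rank_add hT h₁ hP hG
      have h := hss _ rP (pullback.fst S.g i) inferInstance (by omega) hP
      rw [hd, hr] at h
      push_cast at h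
      refine le_of_mul_le_mul_right ?_ hp₂
      have hle : Curv2.deg k X G r' * (r₂ : ℤ) ≤ Curv2.deg k X S.X₂ r₂ * (r' : ℤ) := by linarith
      have h' := mul_le_mul_of_nonneg_right hle (show (0 : ℤ) ≤ r₃ by positivity)
      have e := congrArg (· * (r' : ℤ)) hμ₃
      linarith
  · rintro ⟨hA, hB⟩ G r' i hi h0 hG
    haveI := hi
    have hq₂ : (0 : ℚ) < r₂ := by exact_mod_cast hr₂
    have conv : ∀ (F : X.Modules) (s : ℕ), 0 < s → SS k F s →
        Curv2.deg k X F s * (r₂ : ℤ) = Curv2.deg k X S.X₂ r₂ * (s : ℤ) →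
        ∀ (G : X.Modules) (r' : ℕ) (i : G ⟶ F), Mono i → 0 < r' → FlatMod.IsFinLocFreeOfRank r' G →
          (Curv2.deg k X G r' : ℚ) / r' ≤ (Curv2.deg k X S.X₂ r₂ : ℚ) / r₂ := by
      intro F s hs hss hμ G r' i hi h0 hG
      have h : (Curv2.deg k X G r' : ℚ) * s ≤ (Curv2.deg k X F s : ℚ) * r' := by
        exact_mod_cast hss G r' i hi h0 hG
      have e : (Curv2.deg k X F s : ℚ) * r₂ = (Curv2.deg k X S.X₂ r₂ : ℚ) * s := by exact_mod_cast hμ
      rw [div_le_div_iff₀ (by exact_mod_cast h0) hq₂]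
      refine le_of_mul_le_mul_right ?_ (show (0 : ℚ) < s by exact_mod_cast hs)
      have h' := mul_le_mul_of_nonneg_right h hq₂.le
      have e' := congrArg (· * (r' : ℚ)) e
      linarith
    have h := deg_le_of_shortExact hX hS h₁ h₂ h₃ _ (conv _ _ hr₁ hA hμ₁) (conv _ _ hr₃ hB hμ₃) hG i
    rw [div_mul_eq_mul_div, le_div_iff₀ hq₂] at h
    exact_mod_cast h

end Groth.Agent.VB17
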