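import Groth.Agent.Lib.VB17.Bound
import Groth.Agent.Lib.CurveCoh17.Twist

/-!
# Saturation: a torsion element in a quotient gives a bigger submodule of the same rank
-/

set_option linter.style.haveILetI false
set_option autoImplicit false
set_option maxHeartbeats 800000

universe u

open CategoryTheory TopologicalSpace Opposite CategoryTheory.Limits AlgebraicGeometry

namespace Groth.Agent.VB17

open Groth.Agent.M1 Groth.Agent.M2 Groth.Agent.CurveCoh17

variable {X : Scheme.{u}} [IsIntegral X]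

theorem exists_section_of_torsion [IsNoetherian X] (hd : topologicalKrullDim X ≤ 1) (Q : X.Modules)
    {x : X} {a : Q.presheaf.stalk x} (ha : a ≠ 0) {c : X.presheaf.stalk x} (hc : c ≠ 0) (hca : c • a = 0) :
    ∃ t : Γ(Q, (⊤ : X.Opens)), t ≠ 0 ∧
      Q.presheaf.germ ⊤ (genericPoint X) trivial t = 0 := by
  classical
  obtain ⟨U₀, hU₀, s₀, rfl⟩ := Q.presheaf.exists_germ_eq a
  obtain ⟨V₀, hV₀, c₀, rfl⟩ := X.presheaf.exists_germ_eq c
  obtain ⟨U, hxU, iU, iV⟩ : ∃ (U : X.Opens) (_ : x ∈ U), U ≤ U₀ ∧ U ≤ V₀ :=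
    ⟨U₀ ⊓ V₀, ⟨hU₀, hV₀⟩, inf_le_left, inf_le_right⟩
  let s : Γ(Q, U) := mres Q iU s₀
  let c' : Γ(X, U) := ores iV c₀
  have hs : Q.presheaf.germ U x hxU s = Q.presheaf.germ U₀ x hU₀ s₀ := germ_mres Q iU hxU s₀
  have hc' : X.presheaf.germ U x hxU c' = X.presheaf.germ V₀ x hV₀ c₀ :=
    X.presheaf.germ_res_apply (homOfLE iV) x hxU c₀
  rw [← hs] at ha hca
  rw [← hc'] at hc hca
  rw [← Groth.Agent.M1.germ_smul Q hxU c' s] at hca
  obtain ⟨W, hxW, i₁, i₂, he⟩ := Q.presheaf.germ_eq x hxU hxU (c' • s) 0 (hca.trans (map_zero _).symm)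
  rw [map_zero] at he
  set η := genericPoint X
  have hηU : η ∈ U := ((genericPoint_spec X).mem_open_set_iff U.2).2 ⟨x, Set.mem_univ _, hxU⟩
  have hηW : η ∈ W := ((genericPoint_spec X).mem_open_set_iff W.2).2 ⟨x, Set.mem_univ _, hxW⟩
  have h1 : X.presheaf.germ U η hηU c' • Q.presheaf.germ U η hηU s = 0 := by
    rw [← Groth.Agent.M1.germ_smul Q hηU c' s, ← Q.presheaf.germ_res_apply i₁ η hηW, he, map_zero]
  haveI : Nonempty U := ⟨⟨x, hxU⟩⟩
  have hcη : X.presheaf.germ U η hηU c' ≠ 0 := fun h => hc (by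
    have := (map_eq_zero_iff _ (X.germToFunctionField_injective U)).1 (show X.germToFunctionField U c' = 0 from h)
    rw [this, map_zero])
  have hsη : Q.presheaf.germ U η hηU s = 0 := by
    have hu : IsUnit (X.presheaf.germ U η hηU c') :=
      Ne.isUnit (G₀ := X.functionField) hcη
    exact hu.smul_eq_zero.1 h1
  obtain ⟨W', hηW', j₁, j₂, he'⟩ := Q.presheaf.germ_eq η hηU hηU s 0 (hsη.trans (map_zero _).symm)
  rw [map_zero] at he'
  obtain ⟨S, hS, hScl⟩ := exists_finset_closedPoints hd (C := (W' : Set X)ᶜ) W'.isOpen.isClosed_compl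
    fun g hg hgC => hgC (eq_genericPoint_of_maximal hg ▸ hηW')
  have hxS : x ∈ S := by
    by_contra hxS
    have hxW' : x ∈ W' := by
      by_contra h
      exact hxS (Finset.mem_coe.1 (hS.symm ▸ h))
    exact ha (by rw [← Q.presheaf.germ_res_apply j₁ x hxW', he', map_zero])
  have hxcl : IsClosed ({x} : Set X) := hScl x hxS
  let U₁ : X.Opens := U ⊓ ⟨(((S.erase x : Finset X) : Set X))ᶜ, by
    refine (IsClosed.isOpen_compl (self := ?_))
    rw [← Set.biUnion_of_singleton ((S.erase x : Finset X) : Set X)]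
    exact (S.erase x).finite_toSet.isClosed_biUnion fun p hp => hScl p (Finset.mem_of_mem_erase hp)⟩
  have hxU₁ : x ∈ U₁ := ⟨hxU, fun h => (Finset.mem_erase.1 h).1 rfl⟩
  let U₂ : X.Opens := ⟨({x} : Set X)ᶜ, hxcl.isOpen_compl⟩
  let V : Bool → X.Opens := fun b => bif b then U₁ else U₂
  let sf : ∀ b : Bool, Γ(Q, V b) := fun b =>
    match b with
    | true => mres Q (inf_le_left : U₁ ≤ U) s
    | false => 0
  have hover : ∀ y (hy₁ : y ∈ U₁) (_ : y ∈ U₂), Q.presheaf.germ U₁ y hy₁ (mres Q (inf_le_left : U₁ ≤ U) s) = 0 := by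
    intro y hy₁ hy₂
    have hyW : y ∈ W' := by
      by_contra h
      exact hy₁.2 (Finset.mem_erase.2 ⟨hy₂, Finset.mem_coe.1 (hS.symm ▸ h)⟩)
    rw [germ_mres Q (inf_le_left : U₁ ≤ U) hy₁ s, ← Q.presheaf.germ_res_apply j₁ y hyW, he', map_zero]
  obtain ⟨t, ht, -⟩ := TopCat.Sheaf.existsUnique_gluing' ⟨_, Q.isSheaf⟩ V ⊤ (fun b => homOfLE le_top)
    (fun y _ => Opens.mem_iSup.2 (by
      by_cases h : y = x
      · exact ⟨true, h ▸ hxU₁⟩
      · exact ⟨false, h⟩)) sf fun b b' => by
    refine M1.section_ext _ _ fun y hy => ?_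
    refine (Q.presheaf.germ_res_apply (homOfLE (inf_le_left : V b ⊓ V b' ≤ V b)) y hy (sf b)).trans
      (Eq.trans ?_ (Q.presheaf.germ_res_apply (homOfLE (inf_le_right : V b ⊓ V b' ≤ V b')) y hy (sf b')).symm)
    cases b <;> cases b'
    · rfl
    · exact (map_zero _).trans (hover y hy.2 hy.1).symm
    · exact (hover y hy.1 hy.2).trans (map_zero _).symm
    · rfl
  have hgerm : ∀ y (hy : y ∈ U₁), Q.presheaf.germ ⊤ y trivial t = Q.presheaf.germ U y hy.1 s := by
    intro y hy
    rw [← Q.presheaf.germ_res_apply (homOfLE (le_top : U₁ ≤ ⊤)) y hy t, ← germ_mres Q (inf_le_left : U₁ ≤ U) hy s]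
    exact congrArg (Q.presheaf.germ U₁ y hy) (ht true)
  refine ⟨t, fun h => ha ?_, ?_⟩
  · rw [← hgerm x hxU₁, h, map_zero]
  · have hη₁ : η ∈ U₁ := ((genericPoint_spec X).mem_open_set_iff U₁.2).2 ⟨x, Set.mem_univ _, hxU₁⟩
    exact (hgerm η hη₁).trans hsη

variable {k : Type u} [Field k] [X.Over (Spec (CommRingCat.of k))]

/-- A torsion element of a quotient gives a bigger submodule of the same rank. -/
theorem exists_bigger_factor (hX : RegCurve k X) {r r' : ℕ} {E G : X.Modules} (hE : FlatMod.IsFinLocFreeOfRank r E)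
    (hG : FlatMod.IsFinLocFreeOfRank r' G) (i : G ⟶ E) [Mono i] {x : X}
    {a : (cokernel i).presheaf.stalk x} (ha : a ≠ 0) {c : X.presheaf.stalk x} (hc : c ≠ 0) (hca : c • a = 0) :
    ∃ (P : X.Modules) (j : P ⟶ E), Mono j ∧ FlatMod.IsFinLocFreeOfRank r' P ∧
      Curv2.deg k X G r' < Curv2.deg k X P r' ∧ ∃ u : G ⟶ P, u ≫ j = i := by
  haveI := hX.like.noetherian
  obtain ⟨t, ht, htη⟩ := exists_section_of_torsion hX.like.dim (cokernel i) ha hc hca
  have hcE := isCoh_of_ofRank hE
  have hcG := isCoh_of_ofRank hG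
  have hcQ : Coh.IsCoh (cokernel i) := M1.isCoh_cokernel hcG.1 hcE i
  let I := Abelian.image (secHom t)
  have hcI : Coh.IsCoh I := isCoh_of_mono (Abelian.image.ι (secHom t)) hcQ
    (isQCoh_kernel hcQ.1 (M1.isCoh_cokernel (CurveCoh17.isCoh_structureModule (X := X)).1 hcQ (secHom t)).1 _)
  have hφη : ∀ b, stalkLin (secHom t) (genericPoint X) b = 0 := fun b => by
    obtain ⟨d, -, hd⟩ := stalkLin_secHom t (genericPoint X) b
    rw [hd, htη, smul_zero]
  have hIη : ∀ b : I.presheaf.stalk (genericPoint X), b = 0 := fun b => by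
    obtain ⟨d, rfl⟩ := (epi_iff_stalk (Abelian.factorThruImage (secHom t))).1 inferInstance (genericPoint X) b
    apply (mono_iff_stalk (Abelian.image.ι (secHom t))).1 inferInstance (genericPoint X)
    refine Eq.trans ?_ (map_zero _).symm
    show stalkLin (Abelian.image.ι (secHom t)) (genericPoint X)
      (stalkLin (Abelian.factorThruImage (secHom t)) (genericPoint X) d) = 0
    rw [← stalkLin_comp, Abelian.image.fac, hφη]
  obtain ⟨S, hS⟩ := exists_suppIn_of_maximal hX.like.dim hcI fun g hg =>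
    eq_genericPoint_of_maximal hg ▸ hIη
  haveI := hX.like.fin I hcI 0
  have hpos : 0 < Module.finrank k (Coh.HH X I 0) := by
    refine Module.finrank_pos_iff.2 ⟨(hh0 I).symm ((Abelian.factorThruImage (secHom t)).app ⊤ (one ⊤)), 0, fun h => ht ?_⟩
    have h' : (Abelian.factorThruImage (secHom t)).app ⊤ (one ⊤) = 0 := by
      have := congrArg (hh0 I) h
      rwa [AddEquiv.apply_symm_apply, map_zero] at this
    rw [← secHom_app_one t, ← Abelian.image.fac (secHom t), Scheme.Modules.Hom.comp_app, CategoryTheory.comp_apply,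
      h', map_zero]
  let P := pullback (cokernel.π i) (Abelian.image.ι (secHom t))
  obtain ⟨rP, -, hP⟩ := exists_rank_of_mono hX.pid hE
    (isCoh_fibreProd hcE hcI hcQ.1 (cokernel.π i) (Abelian.image.ι (secHom t))) (pullback.fst _ _)
  let T : ShortComplex X.Modules :=
    ShortComplex.mk (pullback.lift i (0 : G ⟶ I) (by rw [cokernel.condition, zero_comp]) : G ⟶ P)
      (pullback.snd _ _) (pullback.lift_snd _ _ _)
  haveI : Mono T.f := by
    haveI : Mono (T.f ≫ pullback.fst (cokernel.π i) (Abelian.image.ι (secHom t))) := by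
      rw [show T.f ≫ pullback.fst (cokernel.π i) (Abelian.image.ι (secHom t)) = i from pullback.lift_fst _ _ _]
      infer_instance
    exact mono_of_mono T.f (pullback.fst (cokernel.π i) (Abelian.image.ι (secHom t)))
  have hker := (ShortComplex.exact_of_g_is_cokernel (ShortComplex.mk i (cokernel.π i) (cokernel.condition i))
    (cokernelIsCokernel i))
  have hT : T.ShortExact :=
    { exact := ShortComplex.exact_of_f_is_kernel _ <| KernelFork.IsLimit.ofι' _ _ fun {A} b hb =>
        ⟨hker.lift (b ≫ pullback.fst _ _) (by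
            dsimp only
            rw [Category.assoc, pullback.condition, ← Category.assoc]
            exact (congrArg (· ≫ Abelian.image.ι (secHom t)) hb).trans zero_comp), by
          apply pullback.hom_ext
          · rw [Category.assoc, pullback.lift_fst]; exact hker.lift_f _ _
          · rw [Category.assoc, pullback.lift_snd, comp_zero]; exact hb.symm⟩
      mono_f := inferInstance
      epi_g := Abelian.epi_pullback_of_epi_f _ _ }
  have hrk : rP = r' := by
    have hsurj : Function.Surjective (stalkLin T.f (genericPoint X)) := fun b => by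
      obtain ⟨d, hd⟩ := (exact_iff_stalk_eq_zero T).1 hT.exact (genericPoint X) b (hIη _)
      exact ⟨d, hd⟩
    rw [← finrank_stalk hP (genericPoint X), ← finrank_stalk hG (genericPoint X)]
    exact ((LinearEquiv.ofBijective (stalkLin T.f (genericPoint X))
      ⟨(mono_iff_stalk T.f).1 inferInstance _, hsurj⟩).finrank_eq).symm
  subst hrk
  refine ⟨P, pullback.fst _ _, inferInstance, hP, ?_, T.f, pullback.lift_fst _ _ _⟩
  have he := euler_add hT (hX.like.adm hcG) (hX.like.adm hcI)
  change Curv2.euler k X P = Curv2.euler k X G + Curv2.euler k X I at he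
  rw [hS.euler_eq (hX.like.fin I hcI 0)] at he
  rw [Curv2.deg, Curv2.deg]
  omega

theorem exists_bigger (hX : RegCurve k X) {r r' : ℕ} {E G : X.Modules} (hE : FlatMod.IsFinLocFreeOfRank r E)
    (hG : FlatMod.IsFinLocFreeOfRank r' G) (i : G ⟶ E) [Mono i] {x : X}
    {a : (cokernel i).presheaf.stalk x} (ha : a ≠ 0) {c : X.presheaf.stalk x} (hc : c ≠ 0) (hca : c • a = 0) :
    ∃ (P : X.Modules) (j : P ⟶ E), Mono j ∧ FlatMod.IsFinLocFreeOfRank r' P ∧
      Curv2.deg k X G r' < Curv2.deg k X P r' :=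
  let ⟨P, j, hj, hP, hlt, _⟩ := exists_bigger_factor hX hE hG i ha hc hca
  ⟨P, j, hj, hP, hlt⟩

/-- A quotient by a submodule of maximal degree in its rank is locally free. -/
theorem isFinLocFree_cokernel_factor (hX : RegCurve k X) {r r' : ℕ} {E G : X.Modules} (hE : FlatMod.IsFinLocFreeOfRank r E)
    (hG : FlatMod.IsFinLocFreeOfRank r' G) (i : G ⟶ E) [Mono i]
    (hmax : ∀ (P : X.Modules) (j : P ⟶ E) (u : G ⟶ P), Mono j → FlatMod.IsFinLocFreeOfRank r' P → u ≫ j = i →
      Curv2.deg k X P r' ≤ Curv2.deg k X G r') :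
    FlatMod.IsFinLocFree (cokernel i) := by
  haveI := hX.like.noetherian
  have hcQ : Coh.IsCoh (cokernel i) := M1.isCoh_cokernel (isCoh_of_ofRank hG).1 (isCoh_of_ofRank hE) i
  refine (isFinLocFree_iff _).2 ⟨isFP_of_isCoh hcQ, fun x => ?_⟩
  haveI := hX.pid x
  haveI := finite_stalk hcQ.1 hcQ.2 x
  haveI : Module.IsTorsionFree (X.presheaf.stalk x) ((cokernel i).presheaf.stalk x) := by
    refine Module.isTorsionFree_iff_smul_eq_zero.2 fun c a hca => or_iff_not_imp_left.2 fun hc => ?_
    by_contra ha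
    obtain ⟨P, j, hj, hP, hlt, u, hu⟩ := exists_bigger_factor hX hE hG i ha hc hca
    exact absurd (hmax P j u hj hP hu) (not_le.2 hlt)
  exact Module.free_of_finite_type_torsion_free'

theorem isFinLocFree_cokernel (hX : RegCurve k X) {r r' : ℕ} {E G : X.Modules} (hE : FlatMod.IsFinLocFreeOfRank r E)
    (hG : FlatMod.IsFinLocFreeOfRank r' G) (i : G ⟶ E) [Mono i]
    (hmax : ∀ (P : X.Modules) (j : P ⟶ E), Mono j → FlatMod.IsFinLocFreeOfRank r' P →
      Curv2.deg k X P r' ≤ Curv2.deg k X G r') :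
    FlatMod.IsFinLocFree (cokernel i) :=
  isFinLocFree_cokernel_factor hX hE hG i fun P j _ hj hP _ => hmax P j hj hP

/-- The preimage of a locally free submodule of a quotient. -/
theorem exists_preimage (hX : RegCurve k X) {r r' s : ℕ} {E G Q : X.Modules} (hE : FlatMod.IsFinLocFreeOfRank r E)
    (hG : FlatMod.IsFinLocFreeOfRank r' G) (i : G ⟶ E) [Mono i] (hQ : FlatMod.IsFinLocFreeOfRank s Q)
    (j : Q ⟶ cokernel i) [Mono j] :
    ∃ (P : X.Modules) (l : P ⟶ E), Mono l ∧ FlatMod.IsFinLocFreeOfRank (r' + s) P ∧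
      Curv2.deg k X P (r' + s) = Curv2.deg k X G r' + Curv2.deg k X Q s := by
  haveI := hX.like.noetherian
  have hcQ : Coh.IsCoh (cokernel i) := M1.isCoh_cokernel (isCoh_of_ofRank hG).1 (isCoh_of_ofRank hE) i
  obtain ⟨rP, -, hP⟩ := exists_rank_of_mono hX.pid hE
    (isCoh_fibreProd (isCoh_of_ofRank hE) (isCoh_of_ofRank hQ) hcQ.1 (cokernel.π i) j) (pullback.fst _ _)
  let T : ShortComplex X.Modules :=
    ShortComplex.mk (pullback.lift i (0 : G ⟶ Q) (by rw [cokernel.condition, zero_comp]) : G ⟶ pullback (cokernel.π i) j)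
      (pullback.snd _ _) (pullback.lift_snd _ _ _)
  haveI : Mono T.f := by
    haveI : Mono (T.f ≫ pullback.fst (cokernel.π i) j) := by
      rw [show T.f ≫ pullback.fst (cokernel.π i) j = i from pullback.lift_fst _ _ _]; infer_instance
    exact mono_of_mono T.f (pullback.fst (cokernel.π i) j)
  have hker := (ShortComplex.exact_of_g_is_cokernel (ShortComplex.mk i (cokernel.π i) (cokernel.condition i))
    (cokernelIsCokernel i))
  have hT : T.ShortExact :=
    { exact := ShortComplex.exact_of_f_is_kernel _ <| KernelFork.IsLimit.ofι' _ _ fun {A} b hb =>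
        ⟨hker.lift (b ≫ pullback.fst _ _) (by
            dsimp only
            rw [Category.assoc, pullback.condition, ← Category.assoc]
            exact (congrArg (· ≫ j) hb).trans zero_comp), by
          apply pullback.hom_ext
          · rw [Category.assoc, pullback.lift_fst]; exact hker.lift_f _ _
          · rw [Category.assoc, pullback.lift_snd, comp_zero]; exact hb.symm⟩
      mono_f := inferInstance
      epi_g := Abelian.epi_pullback_of_epi_f _ _ }
  obtain rfl := rank_add hT hG hP hQ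
  exact ⟨_, pullback.fst (cokernel.π i) j, inferInstance, hP, deg_add hX.like hT hG hP hQ⟩

end Groth.Agent.VB17
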