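import Groth.Agent.Lib.CurveCoh17.Integral
import Groth.Prelude.Def_KLin
import Mathlib.AlgebraicGeometry.AlgClosed.Basic
import Mathlib.LinearAlgebra.Matrix.Charpoly.Basic
import Mathlib.FieldTheory.IsAlgClosed.Basic

/-!
# Over an algebraically closed field every endomorphism of a vector bundle has an eigenvalue
-/

set_option linter.style.haveILetI false
set_option autoImplicit false
set_option maxHeartbeats 800000

universe u

open CategoryTheory TopologicalSpace CategoryTheory.Limits AlgebraicGeometry Polynomial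

namespace Groth.Agent.VB17

open Groth.Agent.M1 Groth.Agent.M2 Groth.Agent.CurveCoh17

variable {k : Type u} [Field k] {X : Scheme.{u}} [X.Over (Spec (CommRingCat.of k))]

/-- The scalars in a local ring. -/
noncomputable def scal (k : Type u) [Field k] [X.Over (Spec (CommRingCat.of k))] (x : X) : k →+* X.presheaf.stalk x :=
  (X.presheaf.germ ⊤ x trivial).hom.comp (Coh.toGlobal (X ↘ Spec (CommRingCat.of k)))

theorem stalkLin_smulMod (E : X.Modules) (c : k) (x : X) (a : E.presheaf.stalk x) :
    stalkLin (Formal.smulMod k E c) x a = scal k x c • a := by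
  obtain ⟨U, hU, s, rfl⟩ := E.presheaf.exists_germ_eq a
  rw [stalkLin_apply, germ_naturality, Formal.smulMod, KLin.smulModΓ_app_apply, germ_smul]
  congr 1
  exact X.presheaf.germ_res_apply (homOfLE (le_top : U ≤ ⊤)) x hU _

theorem residue_scal_bijective [IsAlgClosed k] [LocallyOfFiniteType (X ↘ Spec (CommRingCat.of k))]
    {x : X} (hx : IsClosed ({x} : Set X)) :
    Function.Bijective ((IsLocalRing.residue (X.presheaf.stalk x)).comp (scal k x)) := by
  set f := X ↘ Spec (CommRingCat.of k)
  set ρ := (residueFieldIsoBase f x hx).inv with hρ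
  have h : Spec.map ρ = X.fromSpecResidueField x ≫ f := SpecMap_residueFieldIsoBase_inv f x hx
  have e : ρ = (Scheme.ΓSpecIso (CommRingCat.of k)).inv ≫ f.appTop ≫ X.presheaf.germ ⊤ x trivial ≫ X.residue x := by
    rw [← cancel_mono (Scheme.ΓSpecIso (X.residueField x)).inv, Scheme.ΓSpecIso_inv_naturality, h,
      Scheme.Hom.comp_appTop, Scheme.fromSpecResidueField, Scheme.Hom.comp_appTop, Scheme.fromSpecStalk_appTop]
    simp only [Category.assoc]
    rw [Scheme.ΓSpecIso_inv_naturality]
    simp
  have hb : Function.Bijective ρ := ConcreteCategory.bijective_of_isIso ρ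
  rw [e] at hb
  exact hb

/-- An endomorphism minus a suitable scalar is not an isomorphism. -/
theorem exists_scalar_not_isIso [IsAlgClosed k] [LocallyOfFiniteType (X ↘ Spec (CommRingCat.of k))]
    [Nonempty X] {r : ℕ} (hr : 0 < r) {E : X.Modules} (hE : FlatMod.IsFinLocFreeOfRank r E) (f : E ⟶ E) :
    ∃ c : k, ¬ IsIso (Formal.smulMod k E c - f) := by
  haveI : JacobsonSpace X := LocallyOfFiniteType.jacobsonSpace (X ↘ Spec (CommRingCat.of k))
  obtain ⟨x, -, hx⟩ := nonempty_inter_closedPoints (Z := (Set.univ : Set X)) Set.univ_nonempty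
    isClosed_univ.isLocallyClosed
  rw [mem_closedPoints_iff] at hx
  obtain ⟨e⟩ := nonempty_stalk_equiv hE x
  let π := IsLocalRing.residue (X.presheaf.stalk x)
  let σ := π.comp (scal k x)
  have hσ : Function.Bijective σ := residue_scal_bijective hx
  haveI : IsAlgClosed (IsLocalRing.ResidueField (X.presheaf.stalk x)) :=
    IsAlgClosed.of_ringEquiv k _ (RingEquiv.ofBijective σ hσ)
  let g : (Fin r → X.presheaf.stalk x) →ₗ[X.presheaf.stalk x] (Fin r → X.presheaf.stalk x) :=
    e.toLinearMap ∘ₗ stalkLin f x ∘ₗ e.symm.toLinearMap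
  let M := LinearMap.toMatrix' g
  obtain ⟨t, ht⟩ := IsAlgClosed.exists_root (M.map π).charpoly (by
    rw [Matrix.charpoly_degree_eq_dim, Fintype.card_fin]
    exact_mod_cast hr.ne')
  obtain ⟨c, rfl⟩ := hσ.2 t
  refine ⟨c, fun hiso => ?_⟩
  haveI := hiso
  have hbij : Function.Bijective (stalkLin (Formal.smulMod k E c - f) x) :=
    ConcreteCategory.bijective_of_isIso ((stalkAb x).map (Formal.smulMod k E c - f))
  let D : (Fin r → X.presheaf.stalk x) →ₗ[X.presheaf.stalk x] (Fin r → X.presheaf.stalk x) :=
    scal k x c • LinearMap.id - g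
  have hD : ∀ v, D v = e (stalkLin (Formal.smulMod k E c - f) x (e.symm v)) := fun v => by
    rw [show stalkLin (Formal.smulMod k E c - f) x (e.symm v)
        = stalkLin (Formal.smulMod k E c) x (e.symm v) - stalkLin f x (e.symm v) by
      show (stalkAb x).map (Formal.smulMod k E c - f) (e.symm v) = _
      rw [Functor.map_sub]
      rfl, stalkLin_smulMod, map_sub, map_smul, e.apply_symm_apply]
    rfl
  have hu : IsUnit D := (Module.End.isUnit_iff D).2 (by
    rw [show (D : (Fin r → X.presheaf.stalk x) → (Fin r → X.presheaf.stalk x))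
      = e ∘ stalkLin (Formal.smulMod k E c - f) x ∘ e.symm from funext hD]
    exact e.bijective.comp (hbij.comp e.symm.bijective))
  have hdet : IsUnit (LinearMap.toMatrix' D).det := by
    exact (Matrix.isUnit_iff_isUnit_det _).1 (hu.map LinearMap.toMatrixAlgEquiv')
  apply (hdet.map π).ne_zero
  rw [RingHom.map_det, show LinearMap.toMatrix' D = Matrix.scalar (Fin r) (scal k x c) - M by
    simp only [D, map_sub, map_smul, LinearMap.toMatrix'_id, Matrix.smul_one_eq_diagonal]
    rfl]
  rw [Polynomial.IsRoot, Matrix.eval_charpoly] at ht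
  rw [← ht, map_sub]
  congr 1
  simp [Matrix.diagonal_map, σ]

end Groth.Agent.VB17
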