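import Groth.Agent.Lib.VB17.Sub
import Groth.Prelude.Def_ModFun2
import Mathlib.CategoryTheory.Abelian.Basic

/-!
# Slope arguments on a regular curve
-/

set_option linter.style.haveILetI false
set_option autoImplicit false
set_option maxHeartbeats 800000

universe u

open CategoryTheory TopologicalSpace Opposite CategoryTheory.Limits AlgebraicGeometry

namespace Groth.Agent.VB17

open Groth.Agent.M1 Groth.Agent.M2 Groth.Agent.CurveCoh17

variable {k : Type u} [Field k] {X : Scheme.{u}} [X.Over (Spec (CommRingCat.of k))]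
variable {r s : ℕ} {E F : X.Modules}

/-- Semistability (the inequality for all locally free submodules). -/
abbrev SS (k : Type u) [Field k] [X.Over (Spec (CommRingCat.of k))] (E : X.Modules) (r : ℕ) : Prop :=
  ∀ (G : X.Modules) (r' : ℕ) (i : G ⟶ E), Mono i → 0 < r' → FlatMod.IsFinLocFreeOfRank r' G →
    Curv2.deg k X G r' * (r : ℤ) ≤ Curv2.deg k X E r * (r' : ℤ)

/-- Stability (submodules of smaller rank). -/
abbrev ST (k : Type u) [Field k] [X.Over (Spec (CommRingCat.of k))] (E : X.Modules) (r : ℕ) : Prop :=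
  ∀ (G : X.Modules) (r' : ℕ) (i : G ⟶ E), Mono i → 0 < r' → r' < r → FlatMod.IsFinLocFreeOfRank r' G →
    Curv2.deg k X G r' * (r : ℤ) < Curv2.deg k X E r * (r' : ℤ)

variable (hX : RegCurve k X)
include hX

theorem rank_le_of_mono (hE : FlatMod.IsFinLocFreeOfRank r E) {G : X.Modules} {r' : ℕ}
    (hG : FlatMod.IsFinLocFreeOfRank r' G) (i : G ⟶ E) [Mono i] : r' ≤ r := by
  haveI := hX.integral; haveI := hX.like.noetherian
  obtain ⟨r'', hle, h⟩ := exists_rank_of_mono hX.pid hE (isCoh_of_ofRank hG) i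
  exact (rank_unique hG h).trans_le hle

theorem ss_of_st (hE : FlatMod.IsFinLocFreeOfRank r E) (hst : ST k E r) : SS k E r := by
  intro G r' i hi h0 hG
  haveI := hX.integral; haveI := hi
  rcases (rank_le_of_mono hX hE hG i).lt_or_eq with h | h
  · exact (hst G r' i hi h0 h hG).le
  · subst h
    exact mul_le_mul_of_nonneg_right (deg_le_of_mono hX.like hG hE i).1 (by positivity)

/-- The numbers of a nonzero map. -/
theorem map_data (hE : FlatMod.IsFinLocFreeOfRank r E) (hF : FlatMod.IsFinLocFreeOfRank s F)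
    (f : E ⟶ F) :
    ∃ (rK rI : ℕ) (dK dI : ℤ), FlatMod.IsFinLocFreeOfRank rK (kernel f) ∧
      FlatMod.IsFinLocFreeOfRank rI (Abelian.image f) ∧
      dK = Curv2.deg k X (kernel f) rK ∧ dI = Curv2.deg k X (Abelian.image f) rI ∧
      Curv2.deg k X E r = dK + dI ∧ r = rK + rI ∧ rI ≤ s ∧ (rI = 0 ↔ f = 0) ∧ (rK = 0 ↔ Mono f) ∧
      (rK = 0 → dK = 0) ∧ (rI = 0 → dI = 0) ∧ (rI = s → dI ≤ Curv2.deg k X F s) := by
  haveI := hX.integral; haveI := hX.like.noetherian
  obtain ⟨rK, rI, hK, hI, hr, hle, h0, hm⟩ := exists_image hX.pid hE hF f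
  exact ⟨rK, rI, _, _, hK, hI, rfl, rfl, deg_add hX.like (kerSC_shortExact f) hK hE hI, hr, hle, h0, hm,
    fun h => by subst h; exact deg_rank_zero hX.like hK, fun h => by subst h; exact deg_rank_zero hX.like hI,
    fun h => by subst h; exact (deg_le_of_mono hX.like hI hF (Abelian.image.ι f)).1⟩

/-- Quotients of semistable modules have no smaller slope. -/
theorem image_ge (hE : FlatMod.IsFinLocFreeOfRank r E) (hF : FlatMod.IsFinLocFreeOfRank s F)
    (hss : SS k E r) (f : E ⟶ F) {rI : ℕ} (hI : FlatMod.IsFinLocFreeOfRank rI (Abelian.image f)) :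
    Curv2.deg k X E r * (rI : ℤ) ≤ Curv2.deg k X (Abelian.image f) rI * (r : ℤ) := by
  haveI := hX.integral
  obtain ⟨rK, rI', dK, dI, hK, hI', hdK, hdI, hd, hr, -, -, -, hK0, -, -⟩ := map_data hX hE hF f
  obtain rfl := rank_unique hI hI'
  rw [← hdI]
  subst hr
  rcases Nat.eq_zero_or_pos rK with h | h
  · have := hK0 h
    subst h
    push_cast
    rw [hd, this]
    simp
  · have := hss _ rK (kernel.ι f) inferInstance h hK
    rw [← hdK, hd] at this
    rw [hd]
    push_cast at this ⊢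
    linarith [this, show (dK + dI) * (rI : ℤ) = dI * ((rK : ℤ) + rI) + (dK * ((rK : ℤ) + rI) - (dK + dI) * rK) by ring]

/-- No nonzero map to something all of whose submodules have smaller slope. -/
theorem hom_eq_zero_of_forall_lt (hE : FlatMod.IsFinLocFreeOfRank r E) (hF : FlatMod.IsFinLocFreeOfRank s F)
    (hss : SS k E r)
    (hmax : ∀ (G : X.Modules) (r' : ℕ) (i : G ⟶ F), Mono i → 0 < r' → FlatMod.IsFinLocFreeOfRank r' G →
      Curv2.deg k X G r' * (r : ℤ) < Curv2.deg k X E r * (r' : ℤ))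
    (f : E ⟶ F) : f = 0 := by
  obtain ⟨rK, rI, dK, dI, hK, hI, hdK, hdI, hd, hr, hle, h0, -, -, -, -⟩ := map_data hX hE hF f
  by_contra hf
  have hpos : 0 < rI := Nat.pos_of_ne_zero fun h => hf (h0.1 h)
  exact absurd (image_ge hX hE hF hss f hI)
    (not_le.2 (hmax _ rI (Abelian.image.ι f) inferInstance hpos hI))

theorem hom_eq_zero_of_slope_gt (hr : 0 < r) (hs : 0 < s) (hE : FlatMod.IsFinLocFreeOfRank r E)
    (hF : FlatMod.IsFinLocFreeOfRank s F) (hss : SS k E r) (hss' : SS k F s)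
    (hslope : Curv2.deg k X F s * (r : ℤ) < Curv2.deg k X E r * (s : ℤ)) (f : E ⟶ F) : f = 0 := by
  refine hom_eq_zero_of_forall_lt hX hE hF hss (fun G r' i hi h0 hG => ?_) f
  have h1 := hss' G r' i hi h0 hG
  have hs' : (0 : ℤ) < s := by exact_mod_cast hs
  have hr' : (0 : ℤ) < r := by exact_mod_cast hr
  have h0' : (0 : ℤ) < r' := by exact_mod_cast h0
  refine lt_of_mul_lt_mul_right ?_ hs'.le
  calc Curv2.deg k X G r' * (r : ℤ) * s = Curv2.deg k X G r' * (s : ℤ) * r := by ring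
    _ ≤ Curv2.deg k X F s * (r' : ℤ) * r := mul_le_mul_of_nonneg_right h1 hr'.le
    _ = Curv2.deg k X F s * (r : ℤ) * r' := by ring
    _ < Curv2.deg k X E r * (s : ℤ) * r' := mul_lt_mul_of_pos_right hslope h0'
    _ = Curv2.deg k X E r * (r' : ℤ) * s := by ring

/-- A nonzero map out of a stable module into a semistable one of the same slope is injective. -/
theorem mono_of_st (hs : 0 < s) (hE : FlatMod.IsFinLocFreeOfRank r E) (hF : FlatMod.IsFinLocFreeOfRank s F)
    (hst : ST k E r) (hss' : SS k F s)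
    (hμ : Curv2.deg k X E r * (s : ℤ) = Curv2.deg k X F s * (r : ℤ))
    (f : E ⟶ F) (hf : f ≠ 0) : Mono f := by
  obtain ⟨rK, rI, dK, dI, hK, hI, hdK, hdI, hd, hr, hle, h0, hm, -, -, -⟩ := map_data hX hE hF f
  refine hm.1 (Nat.eq_zero_of_not_pos fun hKpos => ?_)
  have hpos : 0 < rI := Nat.pos_of_ne_zero fun h => hf (h0.1 h)
  have h1 := hst _ rK (kernel.ι f) inferInstance hKpos (by omega) hK
  have h2 := hss' _ rI (Abelian.image.ι f) inferInstance hpos hI
  rw [← hdK, hd] at h1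
  rw [← hdI] at h2
  rw [hd] at hμ
  subst hr
  push_cast at h1 hμ
  have hs' : (0 : ℤ) < s := by exact_mod_cast hs
  have hR : (0 : ℤ) ≤ (rK : ℤ) + rI := by positivity
  have A := mul_lt_mul_of_pos_right h1 hs'
  have B := mul_le_mul_of_nonneg_right h2 hR
  have C := congrArg (· * (rI : ℤ)) hμ
  linarith

/-- A nonzero map from a semistable module into a stable one of the same slope is generically surjective. -/
theorem surj_rank_of_st (hr : 0 < r) (hE : FlatMod.IsFinLocFreeOfRank r E) (hF : FlatMod.IsFinLocFreeOfRank s F)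
    (hss : SS k E r) (hst : ST k F s)
    (hμ : Curv2.deg k X E r * (s : ℤ) = Curv2.deg k X F s * (r : ℤ))
    (f : E ⟶ F) (hf : f ≠ 0) :
    ∃ rI, FlatMod.IsFinLocFreeOfRank rI (Abelian.image f) ∧ rI = s := by
  obtain ⟨rK, rI, dK, dI, hK, hI, hdK, hdI, hd, hr', hle, h0, hm, -, -, -⟩ := map_data hX hE hF f
  refine ⟨rI, hI, hle.antisymm (not_lt.1 fun hlt => ?_)⟩
  have hpos : 0 < rI := Nat.pos_of_ne_zero fun h => hf (h0.1 h)
  have h1 := hst _ rI (Abelian.image.ι f) inferInstance hpos hlt hI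
  have h2 := image_ge hX hE hF hss f hI
  rw [← hdI] at h1 h2
  have hrZ : (0 : ℤ) < r := by exact_mod_cast hr
  have A := mul_lt_mul_of_pos_right h1 hrZ
  have B := mul_le_mul_of_nonneg_right h2 (show (0 : ℤ) ≤ s by positivity)
  have C := congrArg (· * (rI : ℤ)) hμ
  linarith

theorem isIso_of_mono (hE : FlatMod.IsFinLocFreeOfRank r E) (hF : FlatMod.IsFinLocFreeOfRank r F)
    (hdeg : Curv2.deg k X E r = Curv2.deg k X F r) (f : E ⟶ F) [Mono f] : IsIso f :=
  haveI := hX.integral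
  (deg_le_of_mono hX.like hE hF f).2 hdeg

/-- Stable modules of the same slope: nonzero maps are isomorphisms. -/
theorem isIso_of_st_st (hr : 0 < r) (hs : 0 < s) (hE : FlatMod.IsFinLocFreeOfRank r E)
    (hF : FlatMod.IsFinLocFreeOfRank s F) (hst : ST k E r) (hst' : ST k F s)
    (hμ : Curv2.deg k X E r * (s : ℤ) = Curv2.deg k X F s * (r : ℤ))
    (f : E ⟶ F) (hf : f ≠ 0) : IsIso f := by
  haveI := hX.integral
  haveI := mono_of_st hX hs hE hF hst (ss_of_st hX hF hst') hμ f hf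
  obtain ⟨rI, hI, rfl⟩ := surj_rank_of_st hX hr hE hF (ss_of_st hX hE hst) hst' hμ f hf
  obtain ⟨rK, rI', dK, dI, hK, hI', hdK, hdI, hd, hr', -, -, hm, -, -, -⟩ := map_data hX hE hF f
  obtain rfl := rank_unique hI hI'
  have : rK = 0 := hm.2 inferInstance
  have hrr : r = rI := by omega
  subst hrr
  exact isIso_of_mono hX hE hF (mul_right_cancel₀ (by exact_mod_cast hr.ne') hμ) f

/-- Same rank and degree, both semistable and one stable: nonzero maps are isomorphisms. -/
theorem isIso_of_ss_ss (hr : 0 < r) (hE : FlatMod.IsFinLocFreeOfRank r E) (hF : FlatMod.IsFinLocFreeOfRank r F)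
    (hdeg : Curv2.deg k X E r = Curv2.deg k X F r) (hss : SS k E r) (hss' : SS k F r)
    (hst : ST k E r ∨ ST k F r) (f : E ⟶ F) (hf : f ≠ 0) : IsIso f := by
  haveI := hX.integral
  have hμ : Curv2.deg k X E r * (r : ℤ) = Curv2.deg k X F r * (r : ℤ) := by rw [hdeg]
  haveI : Mono f := by
    rcases hst with h | h
    · exact mono_of_st hX hr hE hF h hss' hμ f hf
    · obtain ⟨rI, hI, hrI⟩ := surj_rank_of_st hX hr hE hF hss h hμ f hf
      obtain ⟨rK, rI', dK, dI, hK, hI', hdK, hdI, hd, hr', -, -, hm, -, -, -⟩ := map_data hX hE hF f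
      obtain rfl := rank_unique hI hI'
      exact hm.1 (by omega)
  exact isIso_of_mono hX hE hF hdeg f

theorem isIso_endo_of_st (hr : 0 < r) (hE : FlatMod.IsFinLocFreeOfRank r E) (hst : ST k E r)
    (f : E ⟶ E) (hf : f ≠ 0) : IsIso f :=
  isIso_of_st_st hX hr hr hE hE hst hst rfl f hf

/-- Stable modules are indecomposable. -/
theorem indecomposable_of_st (hr : 0 < r) (hE : FlatMod.IsFinLocFreeOfRank r E) (hst : ST k E r) :
    ¬ IsZero E ∧ ∀ (E₁ E₂ : X.Modules), Nonempty (E ≅ E₁ ⊞ E₂) → IsZero E₁ ∨ IsZero E₂ := by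
  haveI := hX.integral; haveI := hX.like.noetherian
  refine ⟨fun hz => ?_, fun E₁ E₂ ⟨e⟩ => ?_⟩
  · obtain ⟨rK, rI, -, -, -, -, -, -, -, hr', -, h0, hm, -, -, -⟩ := map_data hX hE hE (𝟙 E)
    have h1 := h0.2 (hz.eq_of_src _ _)
    have h2 := hm.2 inferInstance
    omega
  · by_cases h : e.hom ≫ biprod.fst ≫ biprod.inl ≫ e.inv = 0
    · refine Or.inl ((IsZero.iff_id_eq_zero _).2 ?_)
      have := congrArg (fun φ => biprod.inl ≫ e.inv ≫ φ ≫ e.hom ≫ biprod.fst) h
      simpa using this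
    · refine Or.inr ((IsZero.iff_id_eq_zero _).2 ?_)
      haveI := isIso_endo_of_st hX hr hE hst _ h
      have h2 : (biprod.inr : E₂ ⟶ E₁ ⊞ E₂) = 0 := by
        rw [← cancel_mono e.inv, ← cancel_mono (e.hom ≫ biprod.fst ≫ biprod.inl ≫ e.inv)]
        simp
      have := congrArg (fun φ => φ ≫ biprod.snd) h2
      simpa using this

end Groth.Agent.VB17
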