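import Groth.Agent.Lib.VB17.Setup
import Groth.Agent.Lib.VB17.Slope
import Groth.Agent.Lib.VB17.Scalar
import Groth.Agent.Lib.VB17.Bound
import Groth.Agent.Lib.VB17.Saturate
import Groth.Agent.Lib.KFlat.FinLocFree
import Groth.Agent.Lib.CurveCoh17.Twist
import Groth.Agent.Lib.GeomIrr18.Scheme
import Groth.Agent.Lib.GeomRed18.Smooth
import Groth.Agent.Lib.RigidRel.Unital.Grp
import Groth.Agent.S1536
import Groth.Agent.S0002
set_option linter.style.haveILetI false
set_option autoImplicit false

universe u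

open CategoryTheory CategoryTheory.Limits AlgebraicGeometry Groth.Agent.M1 Groth.Agent.M2

namespace Groth.Agent.VB17

variable {k : Type u} [Field k] {X : Scheme.{u}} [X.Over (Spec (CommRingCat.of k))]

theorem fin_of_proper [IsProper (X ↘ Spec (CommRingCat.of k))] (M : X.Modules) (hM : Coh.IsCoh M) (n : ℕ) :
    Module.Finite k (Coh.HH X M n) :=
  Groth.Agent.S0002.result k X M hM n

theorem regCurve [IsProper (X ↘ Spec (CommRingCat.of k))] [Smooth (X ↘ Spec (CommRingCat.of k))]
    [GeometricallyConnected (X ↘ Spec (CommRingCat.of k))] (hdim : topologicalKrullDim X = 1) : RegCurve k X :=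
  haveI := isIntegral_of_smooth (k := k) (X := X)
  regCurve_of hdim fin_of_proper

theorem regCurve' [IsIntegral X] [IsProper (X ↘ Spec (CommRingCat.of k))] [Smooth (X ↘ Spec (CommRingCat.of k))]
    (hdim : topologicalKrullDim X = 1) : RegCurve k X :=
  regCurve_of hdim fin_of_proper

theorem curveLike [IsProper (X ↘ Spec (CommRingCat.of k))] (hdim : topologicalKrullDim X = 1) :
    CurveCoh17.CurveLike k X :=
  ⟨isNoetherian_of_over (k := k), isSeparated_of_over (k := k), hdim.le, fin_of_proper⟩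

theorem h0_one_of_smooth [IsAlgClosed k] [IsProper (X ↘ Spec (CommRingCat.of k))]
    [Smooth (X ↘ Spec (CommRingCat.of k))] [ConnectedSpace X] :
    Module.finrank k (Coh.HH X (Coh.structureModule X) 0) = 1 := by
  haveI := GeomRed.geometricallyReduced_of_smooth (k := k) (X := X)
  haveI := GeomIrr.geometricallyConnected_of_isSepClosed (X ↘ Spec (CommRingCat.of k))
  exact S1536.result k X

theorem h0_pos [Nonempty X] (hX : CurveCoh17.CurveLike k X) :
    0 < Module.finrank k (Coh.HH X (Coh.structureModule X) 0) := by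
  haveI := hX.fin _ (CurveCoh17.isCoh_structureModule (X := X)) 0
  refine Module.finrank_pos_iff.2 ⟨(CurveCoh17.hh0 _).symm (one ⊤), 0, fun h => ?_⟩
  have h' : one (X := X) ⊤ = 0 := by
    have := congrArg (CurveCoh17.hh0 (Coh.structureModule X)) h
    rwa [AddEquiv.apply_symm_apply, map_zero] at this
  obtain ⟨x⟩ := (inferInstance : Nonempty X)
  haveI : Nontrivial Γ(X, ⊤) := (X.presheaf.germ ⊤ x trivial).hom.domain_nontrivial
  exact one_ne_zero (α := Γ(X, ⊤)) h'

/-- Endomorphisms of stable modules over an algebraically closed field are scalars. -/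
theorem exists_scalar_of_st [IsAlgClosed k] (hX : RegCurve k X) [LocallyOfFiniteType (X ↘ Spec (CommRingCat.of k))]
    {r : ℕ} (hr : 0 < r) {E : X.Modules} (hE : FlatMod.IsFinLocFreeOfRank r E) (hst : ST k E r) (f : E ⟶ E) :
    ∃ c : k, f = Formal.smulMod k E c := by
  haveI := hX.integral
  obtain ⟨c, hc⟩ := exists_scalar_not_isIso (k := k) hr hE f
  refine ⟨c, ?_⟩
  by_contra hne
  exact hc (isIso_endo_of_st hX hr hE hst _ (sub_ne_zero.2 fun h => hne h.symm))

open Groth.Agent.M1 in
theorem exists_rank_of_isFinLocFree [IsIntegral X] {G : X.Modules} (h : FlatMod.IsFinLocFree G) :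
    ∃ n, FlatMod.IsFinLocFreeOfRank n G := by
  have hQ : Coh.IsQCoh G := isFP_isQCoh (isFP_of_isFinLocFree h)
  refine ⟨RankFree12.rk G (genericPoint X), fun x => ?_⟩
  obtain ⟨U, n, hxU, ⟨e⟩⟩ := h x
  refine ⟨U, hxU, ?_⟩
  rw [RankFree12.rk_of_freeMod hQ e
    (((genericPoint_spec X).mem_open_set_iff U.2).2 ⟨x, Set.mem_univ _, hxU⟩)]
  exact ⟨e⟩

theorem exists_rank_biprod (hX : RegCurve k X) {r s : ℕ} {E F : X.Modules}
    (hE : FlatMod.IsFinLocFreeOfRank r E) (hF : FlatMod.IsFinLocFreeOfRank s F) :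
    ∃ n, FlatMod.IsFinLocFreeOfRank n (E ⊞ F) :=
  haveI := hX.integral
  exists_rank_of_isFinLocFree (KFlat.Sch.isFinLocFree_biprod (Groth.Agent.M2.isFinLocFree_of_ofRank hE)
    (Groth.Agent.M2.isFinLocFree_of_ofRank hF))

end Groth.Agent.VB17
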