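import Groth.Agent.Lib.VB17.DualityApps

/-!
# Global generation of vector bundles with `H¹(E(-x)) = 0`
-/

set_option linter.style.haveILetI false
set_option autoImplicit false
set_option maxHeartbeats 800000

universe u

open CategoryTheory TopologicalSpace CategoryTheory.Limits AlgebraicGeometry TensorProduct

namespace Groth.Agent.VB17

open Groth.Agent.M1 Groth.Agent.M2 Groth.Agent.CurveCoh17 Groth.Agent.P1Split

variable {X : Scheme.{u}} {x : X}

/-- Generators of a stalk generate the generic stalk. -/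
theorem span_germ_genericPoint_of_span [IsIntegral X] {r : ℕ} {E : X.Modules}
    (hE : FlatMod.IsFinLocFreeOfRank r E)
    (h : Submodule.span (X.presheaf.stalk x)
      (Set.range fun t : Γ(E, (⊤ : X.Opens)) => (E.presheaf.germ ⊤ x trivial t : E.presheaf.stalk x)) = ⊤) :
    Submodule.span (X.presheaf.stalk (genericPoint X))
      (Set.range fun t : Γ(E, (⊤ : X.Opens)) =>
        (E.presheaf.germ ⊤ (genericPoint X) trivial t : E.presheaf.stalk (genericPoint X))) = ⊤ := by
  set η := genericPoint X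
  set S := Submodule.span (X.presheaf.stalk η)
      (Set.range fun t : Γ(E, (⊤ : X.Opens)) => (E.presheaf.germ ⊤ η trivial t : E.presheaf.stalk η)) with hS
  have hη : ∀ U : X.Opens, x ∈ U → η ∈ U := fun U hU =>
    ((genericPoint_spec X).mem_open_set_iff U.2).2 ⟨x, Set.mem_univ _, hU⟩
  have key : ∀ a : E.presheaf.stalk x, ∃ (U : X.Opens) (hx : x ∈ U) (s : Γ(E, U)),
      E.presheaf.germ U x hx s = a ∧ (E.presheaf.germ U η (hη U hx) s : E.presheaf.stalk η) ∈ S := by
    intro a
    have ha : a ∈ Submodule.span (X.presheaf.stalk x)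
      (Set.range fun t : Γ(E, (⊤ : X.Opens)) => (E.presheaf.germ ⊤ x trivial t : E.presheaf.stalk x)) := h ▸ trivial
    induction ha using Submodule.span_induction with
    | mem b hb =>
      obtain ⟨t, rfl⟩ := hb
      exact ⟨⊤, trivial, t, rfl, Submodule.subset_span ⟨t, rfl⟩⟩
    | zero => exact ⟨⊤, trivial, 0, map_zero _, by rw [map_zero]; exact zero_mem S⟩
    | add b c _ _ hb hc =>
      obtain ⟨U, hU, s, rfl, hs⟩ := hb
      obtain ⟨V, hV, t, rfl, ht⟩ := hc
      refine ⟨U ⊓ V, ⟨hU, hV⟩, mres E inf_le_left s + mres E inf_le_right t, ?_, ?_⟩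
      · rw [map_add, germ_mres, germ_mres]
      · rw [map_add, germ_mres, germ_mres]; exact add_mem hs ht
    | smul c b _ hb =>
      obtain ⟨U, hU, s, rfl, hs⟩ := hb
      obtain ⟨V, hV, c₀, rfl⟩ := X.presheaf.exists_germ_eq c
      refine ⟨U ⊓ V, ⟨hU, hV⟩, (ores (inf_le_right : U ⊓ V ≤ V) c₀) • mres E (inf_le_left : U ⊓ V ≤ U) s, ?_, ?_⟩
      · rw [Groth.Agent.M1.germ_smul, germ_mres]
        congr 1
        exact X.presheaf.germ_res_apply _ _ _ _
      · rw [Groth.Agent.M1.germ_smul, germ_mres]; exact S.smul_mem _ hs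
  obtain ⟨D, e, hxD, he⟩ := exists_isBas_nhd hE x
  have hei : ∀ i, (E.presheaf.germ D η (hη D hxD) (e i) : E.presheaf.stalk η) ∈ S := by
    intro i
    obtain ⟨U, hU, s, hs, hsS⟩ := key (E.presheaf.germ D x hxD (e i))
    obtain ⟨W, hxW, i₁, i₂, hW⟩ := E.presheaf.germ_eq x hU hxD s (e i) hs
    rw [← E.presheaf.germ_res_apply i₂ η (hη W hxW), ← hW, E.presheaf.germ_res_apply i₁ η (hη W hxW)]
    exact hsS
  refine top_le_iff.1 fun a _ => ?_
  obtain ⟨c, hc⟩ := (he.stalk (hη D hxD)).2 a
  rw [← hc]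
  exact S.sum_mem fun i _ => S.smul_mem _ (hei i)

/-- If `H¹(I_x ⊗ E) = 0`, the global sections generate the stalk at `x`. -/
theorem span_germ_eq_top (k : Type u) [Field k] [X.Over (Spec (CommRingCat.of k))] (hx : IsClosed ({x} : Set X)) {r : ℕ} {E : X.Modules}
    (hE : FlatMod.IsFinLocFreeOfRank r E)
    (h1 : Subsingleton (Coh.HH X (CohB1.tensorMod
      (ClSub.idealMod (Scheme.IdealSheafData.vanishingIdeal (⟨{x}, hx⟩ : Closeds X))) E) 1)) :
    Submodule.span (X.presheaf.stalk x)
      (Set.range fun t : Γ(E, (⊤ : X.Opens)) => (E.presheaf.germ ⊤ x trivial t : E.presheaf.stalk x)) = ⊤ := by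
  classical
  set Z := Scheme.IdealSheafData.vanishingIdeal (⟨{x}, hx⟩ : Closeds X)
  obtain ⟨hkill, a₀, ha₀⟩ := quot_point_props hx
  let R := X.presheaf.stalk x
  obtain ⟨e⟩ := nonempty_stalk_equiv hE x
  haveI : Module.Finite R (E.presheaf.stalk x) := Module.Finite.equiv e.symm
  let m := IsLocalRing.maximalIdeal R
  -- the quotient of the point is `R ⧸ m`
  obtain ⟨eO⟩ := nonempty_stalk_equiv_structureModule x
  let q : R →ₗ[R] (ClSub.quotMod Z).presheaf.stalk x :=
    ((stalkLin (ClSub.toSubscheme Z) x).comp (eO.symm.toLinearMap.comp (LinearMap.pi fun _ : Fin 1 => LinearMap.id)))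
  have hq : Function.Surjective q := fun b => by
    obtain ⟨a, ha⟩ := (epi_iff_stalk (ClSub.toSubscheme Z)).1 (shortExact_idealMod Z).epi_g x b
    refine ⟨eO a 0, ?_⟩
    show stalkLin (ClSub.toSubscheme Z) x (eO.symm fun _ => eO a 0) = b
    rw [show (fun _ : Fin 1 => eO a 0) = eO a from funext fun i => by rw [Fin.fin_one_eq_zero i],
      LinearEquiv.symm_apply_apply]
    exact ha
  have hker : LinearMap.ker q = m := by
    refine le_antisymm (fun c hc => ?_) (fun c hc => ?_)
    · by_contra hu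
      rw [IsLocalRing.mem_maximalIdeal, mem_nonunits_iff, not_not] at hu
      obtain ⟨d, rfl⟩ := hq a₀
      refine ha₀ ?_
      obtain ⟨u, rfl⟩ := hu
      rw [LinearMap.mem_ker] at hc
      rw [show d = (d * ↑u⁻¹) • (↑u : R) by rw [smul_eq_mul, mul_assoc, Units.inv_mul, mul_one], map_smul, hc,
        smul_zero]
    · rw [LinearMap.mem_ker, show c = c • (1 : R) by rw [smul_eq_mul, mul_one], map_smul]
      exact hkill c hc _
  let qe : (R ⧸ m) ≃ₗ[R] (ClSub.quotMod Z).presheaf.stalk x :=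
    (Submodule.quotEquivOfEq _ _ hker.symm).trans (q.quotKerEquivOfSurjective hq)
  let T := twistSC hx E
  have hT : T.ShortExact := twistSC_shortExact hx hE
  let V := E.presheaf.stalk x ⧸ (m • ⊤ : Submodule R (E.presheaf.stalk x))
  let e3 : T.X₃.presheaf.stalk x ≃ₗ[R] V :=
    (stalkEquiv (ClSub.quotMod Z) E x).trans ((TensorProduct.congr qe.symm (LinearEquiv.refl R _)).trans
      (TensorProduct.quotTensorEquivQuotSMul _ m))
  let ψ : E.presheaf.stalk x →ₗ[R] V := e3.toLinearMap.comp (stalkLin ((tensorLUnit E).inv ≫ T.g) x)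
  haveI := hT.epi_g
  haveI : Epi ((tensorLUnit E).inv ≫ T.g) :=
    @epi_comp _ _ _ _ _ (tensorLUnit E).inv inferInstance T.g hT.epi_g
  have hψ : Function.Surjective ψ := e3.surjective.comp
    ((epi_iff_stalk ((tensorLUnit E).inv ≫ T.g)).1 inferInstance x)
  have hle : (m • ⊤ : Submodule R (E.presheaf.stalk x)) ≤ LinearMap.ker ψ := by
    refine Submodule.smul_le.2 fun c hc a _ => ?_
    rw [LinearMap.mem_ker, map_smul]
    obtain ⟨b, hb⟩ := Submodule.Quotient.mk_surjective _ (ψ a)
    rw [← hb, ← Submodule.Quotient.mk_smul, Submodule.Quotient.mk_eq_zero]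
    exact Submodule.smul_mem_smul hc trivial
  have hinj : Function.Injective (Submodule.liftQ _ ψ hle) :=
    OrzechProperty.injective_of_surjective_endomorphism _ fun v => by
      obtain ⟨a, rfl⟩ := hψ v
      exact ⟨Submodule.Quotient.mk a, rfl⟩
  refine top_le_iff.1 (Submodule.le_of_le_smul_of_le_jacobson_bot Module.Finite.fg_top
    (IsLocalRing.maximalIdeal_le_jacobson _) fun a _ => ?_)
  have hsupp : SuppIn T.X₃ ({x} : Finset X) := (suppIn_quotMod_point hx).tensor E
  obtain ⟨z₃, hz₃⟩ := (hsupp.h0Equiv k).surjective fun y =>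
    (Finset.mem_singleton.1 y.2).symm ▸ stalkLin ((tensorLUnit E).inv ≫ T.g) x a
  haveI : Subsingleton (Coh.HH X T.X₁ (0 + 1)) := h1
  obtain ⟨z₂, rfl⟩ := (exact_hmap_hdelta k hT 0 z₃).1 (Subsingleton.elim _ _)
  let t : Γ(E, (⊤ : X.Opens)) := (tensorLUnit E).hom.app ⊤ (hh0 T.X₂ z₂)
  have ht : stalkLin ((tensorLUnit E).inv ≫ T.g) x (E.presheaf.germ ⊤ x trivial t) =
      stalkLin ((tensorLUnit E).inv ≫ T.g) x a := by
    have h2 := congrFun hz₃ ⟨x, Finset.mem_singleton_self x⟩
    refine Eq.trans ?_ h2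
    show (stalkAb x).map ((tensorLUnit E).inv ≫ T.g) (E.presheaf.germ ⊤ x trivial t) =
      T.X₃.presheaf.germ ⊤ x trivial (hh0 T.X₃ (hmap k T.g 0 z₂))
    rw [germ_naturality, hh0_hmap]
    show T.X₃.presheaf.germ ⊤ x trivial (((tensorLUnit E).hom ≫ (tensorLUnit E).inv ≫ T.g).app ⊤ (hh0 T.X₂ z₂)) = _
    rw [Iso.hom_inv_id_assoc]
    rfl
  have hmem : a - E.presheaf.germ ⊤ x trivial t ∈ (m • ⊤ : Submodule R (E.presheaf.stalk x)) := by
    rw [← Submodule.Quotient.mk_eq_zero]
    refine hinj ?_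
    rw [Submodule.liftQ_apply, map_zero, map_sub, sub_eq_zero]
    exact congrArg e3 ht.symm
  have hs : (E.presheaf.germ ⊤ x trivial t : E.presheaf.stalk x) ∈ Submodule.span (X.presheaf.stalk x)
      (Set.range fun t : Γ(E, (⊤ : X.Opens)) => (E.presheaf.germ ⊤ x trivial t : E.presheaf.stalk x)) :=
    Submodule.subset_span ⟨t, rfl⟩
  have hd := Submodule.add_mem_sup hs hmem
  rwa [add_sub_cancel] at hd

/-- Global generation from vanishing of all `H¹(I_x ⊗ E)`. -/
theorem isGloballyGenerated_of_h1 (k : Type u) [Field k] [X.Over (Spec (CommRingCat.of k))] (hd : topologicalKrullDim X ≤ 1) [IsIntegral X] {r : ℕ} {E : X.Modules}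
    (hE : FlatMod.IsFinLocFreeOfRank r E)
    (hx0 : ∃ x : X, IsClosed ({x} : Set X))
    (h1 : ∀ (x : X) (hx : IsClosed ({x} : Set X)), Subsingleton (Coh.HH X (CohB1.tensorMod
      (ClSub.idealMod (Scheme.IdealSheafData.vanishingIdeal (⟨{x}, hx⟩ : Closeds X))) E) 1)) :
    Curv2.IsGloballyGenerated E := by
  refine RA.isGloballyGenerated_of_span E fun y => ?_
  by_cases hy : IsClosed ({y} : Set X)
  · exact span_germ_eq_top k hy hE (h1 y hy)
  · obtain rfl : y = genericPoint X :=
      (Curve17.eq_of_specializes hd hy (genericPoint_specializes y)).symm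
    obtain ⟨x, hx⟩ := hx0
    exact span_germ_genericPoint_of_span hE (span_germ_eq_top k hx hE (h1 x hx))

/-- Stability is stable under twisting by invertible modules. -/
theorem st_tensor {k : Type u} [Field k] [X.Over (Spec (CommRingCat.of k))] (hX : CurveLike k X) {r : ℕ}
    {G N : X.Modules} (hG : FlatMod.IsFinLocFreeOfRank r G)
    (hN : PicF.IsInvertible N) (hst : ST k G r) : ST k (CohB1.tensorMod G N) r := by
  intro F r' i hi hr' hlt hF
  haveI := hi
  obtain ⟨N', hN', ⟨e⟩⟩ := exists_inverse hN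
  haveI := mono_tensorMap i hN'
  have hN1 := (isInvertible_iff_isFinLocFreeOfRank_one N).1 hN
  have hN1' := (isInvertible_iff_isFinLocFreeOfRank_one N').1 hN'
  have hF' : FlatMod.IsFinLocFreeOfRank r' (CohB1.tensorMod F N') := by
    simpa using isFinLocFreeOfRank_tensor hF hN1'
  have h := hst (CohB1.tensorMod F N') r' (tensorMap i (𝟙 N') ≫ (untwist e G).hom) inferInstance hr' hlt hF'
  have d1 : Curv2.deg k X (CohB1.tensorMod F N') r' = Curv2.deg k X F r' + r' * Curv2.deg k X N' 1 := by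
    simpa using hX.deg_tensor hF hN1'
  have d2 : Curv2.deg k X (CohB1.tensorMod G N) r = Curv2.deg k X G r + r * Curv2.deg k X N 1 := by
    simpa using hX.deg_tensor hG hN1
  rw [d1, hX.deg_of_tensor_iso hN hN' e] at h
  rw [d2]
  linarith

/-- The twist by a closed point over an algebraically closed field. -/
theorem pointIdeal_data (k : Type u) [Field k] [IsAlgClosed k] [IsIntegral X] [X.Over (Spec (CommRingCat.of k))]
    [IsProper (X ↘ Spec (CommRingCat.of k))] [Smooth (X ↘ Spec (CommRingCat.of k))]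
    (hdim : topologicalKrullDim X = 1) (hx : IsClosed ({x} : Set X)) :
    PicF.IsInvertible (ClSub.idealMod (Scheme.IdealSheafData.vanishingIdeal (⟨{x}, hx⟩ : Closeds X))) ∧
      Curv2.deg k X (ClSub.idealMod (Scheme.IdealSheafData.vanishingIdeal (⟨{x}, hx⟩ : Closeds X))) 1 = -1 := by
  have hX := regCurve' (k := k) hdim
  haveI := hX.like.noetherian
  refine ⟨isInvertible_pointIdeal hdim
    (fun y => SmoothReg17.isRegularLocalRing_stalk (X ↘ Spec (CommRingCat.of k)) y) hx, ?_⟩
  rw [deg_pointIdeal hX.like hx, finrank_residueField hx]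
  rfl

end Groth.Agent.VB17
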