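import Groth.Agent.Lib.VB17.Bound
import Groth.Agent.Lib.VB17.Saturate
import Groth.Agent.Lib.TensorNat17.Basic
import Groth.Agent.Lib.CurveCoh17.Twist
import Groth.Agent.Lib.CurveCoh17.RegPoint
import Groth.Agent.Lib.CurveCoh17.HZero
import Groth.Agent.Lib.TensorMod.Dual

/-!
# Line subbundles, twists, and splitting of extensions on regular curves
-/

set_option linter.style.haveILetI false
set_option autoImplicit false
set_option maxHeartbeats 800000

universe u

open CategoryTheory TopologicalSpace CategoryTheory.Limits AlgebraicGeometry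

namespace Groth.Agent.VB17

open Groth.Agent.M1 Groth.Agent.M2 Groth.Agent.CurveCoh17

variable {k : Type u} [Field k] {X : Scheme.{u}} [X.Over (Spec (CommRingCat.of k))]

theorem flat_stalk {L : X.Modules} (hL : PicF.IsInvertible L) (x : X) :
    Module.Flat (X.presheaf.stalk x) (L.presheaf.stalk x) :=
  Module.Flat.of_linearEquiv (nonempty_stalk_equiv ((isInvertible_iff_isFinLocFreeOfRank_one L).1 hL) x).some

theorem mono_tensorMap {A B L : X.Modules} (f : A ⟶ B) [Mono f] (hL : PicF.IsInvertible L) :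
    Mono (tensorMap f (𝟙 L)) :=
  (shortExact_tensorR (S := ShortComplex.mk f (cokernel.π f) (cokernel.condition _))
    { exact := ShortComplex.exact_of_g_is_cokernel _ (cokernelIsCokernel _) } L (flat_stalk hL)).mono_f

/-- An extension by an invertible module splits when the twisted `H¹` vanishes. -/
theorem isSplitEpi_of_h1 (k : Type u) [Field k] [X.Over (Spec (CommRingCat.of k))] {S : ShortComplex X.Modules}
    (hS : S.ShortExact) (hL : PicF.IsInvertible S.X₃) {L' : X.Modules}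
    (e : CohB1.tensorMod L' S.X₃ ≅ Coh.structureModule X)
    (h1 : Subsingleton (Coh.HH X (CohB1.tensorMod L' S.X₁) 1)) : IsSplitEpi S.g := by
  have hL' : PicF.IsInvertible L' := isInvertible_of_tensor_iso hL e
  have hT : (S.map (tensorR L')).ShortExact := shortExact_tensorR hS L' (flat_stalk hL')
  haveI : Subsingleton (Coh.HH X (S.map (tensorR L')).X₁ 1) :=
    (hequiv k (tensorComm S.X₁ L') 1).toEquiv.subsingleton
  let e1 : CohB1.tensorMod S.X₃ L' ≅ Coh.structureModule X := tensorComm S.X₃ L' ≪≫ e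
  obtain ⟨w, hw⟩ := (exact_hmap_hdelta k hT 0 ((hh0 (S.map (tensorR L')).X₃).symm (e1.inv.app ⊤ (one ⊤)))).1
    (Subsingleton.elim _ _)
  let σ₀ : Coh.structureModule X ⟶ CohB1.tensorMod S.X₂ L' := secHom (hh0 (CohB1.tensorMod S.X₂ L') w)
  let σ : CohB1.tensorMod S.X₃ L' ⟶ CohB1.tensorMod S.X₂ L' := e1.hom ≫ σ₀
  have h := congrArg (hh0 (S.map (tensorR L')).X₃) hw
  rw [hh0_hmap, AddEquiv.apply_symm_apply] at h
  have h2 : σ₀ ≫ tensorMap S.g (𝟙 L') = e1.inv := by
    refine unit_hom_ext ?_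
    refine Eq.trans ?_ h
    rw [Scheme.Modules.Hom.comp_app, CategoryTheory.comp_apply, secHom_app_one]
    rfl
  have hσ : σ ≫ tensorMap S.g (𝟙 L') = 𝟙 _ := by
    show (e1.hom ≫ σ₀) ≫ _ = _
    rw [Category.assoc, h2, Iso.hom_inv_id]
  refine IsSplitEpi.mk' ⟨(untwist e S.X₃).inv ≫ tensorMap σ (𝟙 S.X₃) ≫ (untwist e S.X₂).hom, ?_⟩
  rw [Category.assoc, Category.assoc, ← untwist_natural, ← Category.assoc (tensorMap σ (𝟙 S.X₃))]
  have h3 : tensorMap σ (𝟙 S.X₃) ≫ tensorMap (tensorMap S.g (𝟙 L')) (𝟙 S.X₃) = 𝟙 _ := by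
    refine (tensorMap_comp _ _ _ _).symm.trans ?_
    rw [Category.comp_id]
    exact (congrArg (fun f => tensorMap f (𝟙 S.X₃)) hσ).trans (tensorMap_id _ _)
  rw [h3, Category.id_comp]
  exact Iso.inv_hom_id _

/-- A nonzero section of `E ⊗ N` gives an inclusion of the inverse of `N` into `E`. -/
theorem exists_mono_of_section [IsIntegral X] {r : ℕ} {E N N' : X.Modules} (hE : FlatMod.IsFinLocFreeOfRank r E)
    (hN : PicF.IsInvertible N) (hN' : PicF.IsInvertible N') (e : CohB1.tensorMod N N' ≅ Coh.structureModule X)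
    (h : Nontrivial (Coh.HH X (CohB1.tensorMod E N) 0)) : ∃ i : N' ⟶ E, Mono i := by
  obtain ⟨z, hz⟩ := exists_ne (0 : Coh.HH X (CohB1.tensorMod E N) 0)
  haveI : Mono (secHom (hh0 _ z)) := (mono_iff_stalk _).2 (injective_stalk_secHom
    (isFinLocFreeOfRank_tensor hE ((isInvertible_iff_isFinLocFreeOfRank_one N).1 hN)) (hh0_ne_zero hz))
  haveI := mono_tensorMap (secHom (hh0 _ z)) hN'
  exact ⟨(tensorLUnit N').inv ≫ tensorMap (secHom (hh0 _ z)) (𝟙 N') ≫ (untwist e E).hom, inferInstance⟩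

/-- An inclusion `M → E` gives a nonzero section of `E ⊗ M'`. -/
theorem nontrivial_of_mono [Nonempty X] {E M M' : X.Modules} (hM : PicF.IsInvertible M)
    (hM' : PicF.IsInvertible M') (e : CohB1.tensorMod M M' ≅ Coh.structureModule X) (i : M ⟶ E) [Mono i] :
    Nontrivial (Coh.HH X (CohB1.tensorMod E M') 0) := by
  haveI := mono_tensorMap i hM'
  let t : Coh.structureModule X ⟶ CohB1.tensorMod E M' := e.inv ≫ tensorMap i (𝟙 M')
  refine ⟨⟨(hh0 _).symm (t.app ⊤ (one ⊤)), 0, fun h => ?_⟩⟩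
  have h' := congrArg (hh0 (CohB1.tensorMod E M')) h
  rw [AddEquiv.apply_symm_apply, map_zero] at h'
  have h1 : (one (X := X) ⊤ : Γ(Coh.structureModule X, ⊤)) = 0 :=
    M1.app_injective t ⊤ (h'.trans (map_zero _).symm)
  obtain ⟨x⟩ := (inferInstance : Nonempty X)
  haveI : Nontrivial Γ(X, ⊤) := (X.presheaf.germ ⊤ x trivial).hom.domain_nontrivial
  exact one_ne_zero (α := Γ(X, ⊤)) h1

theorem section_iff_hom [IsIntegral X] {L Q Q' : X.Modules} (hL : PicF.IsInvertible L) (hQ : PicF.IsInvertible Q)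
    (hQ' : PicF.IsInvertible Q') (e : CohB1.tensorMod Q' Q ≅ Coh.structureModule X)
    (h : ∀ f : Q ⟶ L, f = 0) : Subsingleton (Coh.HH X (CohB1.tensorMod L Q') 0) := by
  by_contra hne
  rw [not_subsingleton_iff_nontrivial] at hne
  obtain ⟨i, hi⟩ := exists_mono_of_section ((isInvertible_iff_isFinLocFreeOfRank_one L).1 hL) hQ' hQ e hne
  have hid : 𝟙 Q = 0 := by rw [← cancel_mono i, h i, comp_zero, zero_comp]
  obtain ⟨ee⟩ := nonempty_stalk_equiv ((isInvertible_iff_isFinLocFreeOfRank_one Q).1 hQ) (genericPoint X)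
  have h0 : ∀ a : Q.presheaf.stalk (genericPoint X), a = 0 := fun a => by
    have := congrArg (fun f => (stalkAb (genericPoint X)).map f a) hid
    simp only [CategoryTheory.Functor.map_id, Functor.map_zero, CategoryTheory.id_apply] at this
    exact this.trans rfl
  exact one_ne_zero (congrFun ((congrArg ee (h0 (ee.symm 1))).symm.trans (LinearEquiv.apply_symm_apply _ _)) 0
    |>.symm.trans (by rw [map_zero]; rfl))

/-- On a regular curve with a rational point invertible modules exist in every degree. -/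
theorem exists_invertible_deg [IsAlgClosed k] [IsIntegral X] [LocallyOfFiniteType (X ↘ Spec (CommRingCat.of k))]
    (hX : CurveLike k X) (hdim : topologicalKrullDim X = 1) (hreg : ∀ x : X, IsRegularLocalRing (X.presheaf.stalk x))
    (n : ℤ) : ∃ M : X.Modules, PicF.IsInvertible M ∧ Curv2.deg k X M 1 = n := by
  haveI := hX.noetherian
  haveI : JacobsonSpace X := LocallyOfFiniteType.jacobsonSpace (X ↘ Spec (CommRingCat.of k))
  obtain ⟨P, -, hP⟩ := nonempty_inter_closedPoints (Z := (Set.univ : Set X)) Set.univ_nonempty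
    isClosed_univ.isLocallyClosed
  rw [mem_closedPoints_iff] at hP
  set Z := Scheme.IdealSheafData.vanishingIdeal (⟨{P}, hP⟩ : Closeds X)
  have hI := isInvertible_pointIdeal hdim hreg hP
  have hdI : Curv2.deg k X (ClSub.idealMod Z) 1 = -1 := by
    obtain ⟨-, -, hd⟩ := hX.twist_data (PicLoc.isInvertible_structureModule X) Z (by
      rw [show (Z.support : Set X) = {P} by simp [Z]]
      exact topologicalKrullDim_zero_of_discreteTopology _)
    rw [deg_iso (tensorRUnit _), deg_structureModule, finrank_quotMod_point (k := k) hP,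
      finrank_residueField hP] at hd
    simpa using hd
  obtain ⟨J, hJ, ⟨eJ⟩⟩ := exists_inverse hI
  have hdJ : Curv2.deg k X J 1 = 1 := by rw [hX.deg_of_tensor_iso hI hJ eJ, hdI]; norm_num
  obtain ⟨m, rfl | rfl⟩ := n.eq_nat_or_neg
  · exact ⟨CohB1.tensorPow J m, isInvertible_tensorPow hJ m, by rw [hX.deg_tensorPow hJ, hdJ, mul_one]⟩
  · exact ⟨CohB1.tensorPow (ClSub.idealMod Z) m, isInvertible_tensorPow hI m, by
      rw [hX.deg_tensorPow hI, hdI]; ring⟩

/-- A line subbundle of maximal degree. -/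
theorem exists_max_line (hX : RegCurve k X) {E : X.Modules} (hE : FlatMod.IsFinLocFreeOfRank 2 E) {L : X.Modules}
    (hL : PicF.IsInvertible L) (i : L ⟶ E) [Mono i] :
    ∃ (M : X.Modules) (j : M ⟶ E), Mono j ∧ PicF.IsInvertible M ∧ PicF.IsInvertible (cokernel j) ∧
      Curv2.deg k X L 1 ≤ Curv2.deg k X M 1 ∧
      Curv2.deg k X E 2 = Curv2.deg k X M 1 + Curv2.deg k X (cokernel j) 1 := by
  haveI := hX.integral
  haveI := hX.like.noetherian
  obtain ⟨N, hN⟩ := deg_sub_bdd hX hE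
  obtain ⟨d, ⟨M, j, hj, hM, hd⟩, hmax⟩ := Int.exists_greatest_of_bdd
    (P := fun d => ∃ (M : X.Modules) (j : M ⟶ E), Mono j ∧ PicF.IsInvertible M ∧ Curv2.deg k X M 1 = d)
    ⟨N, fun d ⟨M, j, hj, hM, hd⟩ => hd ▸ hN M 1 j hj ((isInvertible_iff_isFinLocFreeOfRank_one M).1 hM)⟩
    ⟨_, L, i, inferInstance, hL, rfl⟩
  haveI := hj
  have hM1 := (isInvertible_iff_isFinLocFreeOfRank_one M).1 hM
  have hlf := isFinLocFree_cokernel hX hE hM1 j fun P l hl hP => by
    rw [hd]; exact hmax _ ⟨P, l, hl, (isInvertible_iff_isFinLocFreeOfRank_one P).2 hP, rfl⟩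
  obtain ⟨n, hn⟩ : ∃ n, FlatMod.IsFinLocFreeOfRank n (cokernel j) := by
    have hG' : FlatMod.IsFinLocFreeOfRank (RankFree12.rk (cokernel j) (genericPoint X)) (cokernel j) := fun x => by
      obtain ⟨U, n, hxU, ⟨e⟩⟩ := hlf x
      refine ⟨U, hxU, ?_⟩
      rw [RankFree12.rk_of_freeMod (M1.isCoh_cokernel (isCoh_of_ofRank hM1).1 (isCoh_of_ofRank hE) j).1 e
        (((genericPoint_spec X).mem_open_set_iff U.2).2 ⟨x, Set.mem_univ _, hxU⟩)]
      exact ⟨e⟩
    exact ⟨_, hG'⟩
  have hS : (ShortComplex.mk j (cokernel.π j) (cokernel.condition j)).ShortExact :=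
    { exact := ShortComplex.exact_of_g_is_cokernel _ (cokernelIsCokernel _) }
  have hn1 : n = 1 := by have := rank_add hS hM1 hE hn; omega
  subst hn1
  refine ⟨M, j, hj, hM, (isInvertible_iff_isFinLocFreeOfRank_one _).2 hn, hd ▸ hmax _ ⟨L, i, inferInstance, hL, rfl⟩, ?_⟩
  have := deg_add hX.like hS hM1 hE hn
  simpa using this

/-- A nonsplit extension of invertible modules: `deg L - deg Q ≤ 2g - 2`, and `≤ g - 2` if `Hom(Q, L) = 0`. -/
theorem nonsplit_bound [IsIntegral X] (hX : CurveLike k X)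
    (h0 : Module.finrank k (Coh.HH X (Coh.structureModule X) 0) = 1) {S : ShortComplex X.Modules} (hS : S.ShortExact)
    (hL : PicF.IsInvertible S.X₁) (hQ : PicF.IsInvertible S.X₃) (hns : ¬ IsSplitEpi S.g) :
    Curv2.deg k X S.X₁ 1 - Curv2.deg k X S.X₃ 1 ≤ 2 * (Curv2.genus k X : ℤ) - 2 ∧
      ((∀ f : S.X₃ ⟶ S.X₁, f = 0) →
        Curv2.deg k X S.X₁ 1 - Curv2.deg k X S.X₃ 1 ≤ (Curv2.genus k X : ℤ) - 2) := by
  haveI := hX.noetherian
  obtain ⟨Q', hQ', ⟨e0⟩⟩ := exists_inverse hQ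
  let e : CohB1.tensorMod Q' S.X₃ ≅ Coh.structureModule X := tensorComm _ _ ≪≫ e0
  have hF := isInvertible_tensor hQ' hL
  have h1 : Nontrivial (Coh.HH X (CohB1.tensorMod Q' S.X₁) 1) :=
    not_subsingleton_iff_nontrivial.1 fun h => hns (isSplitEpi_of_h1 k hS hQ e h)
  have hd : Curv2.deg k X (CohB1.tensorMod Q' S.X₁) 1 = Curv2.deg k X S.X₁ 1 - Curv2.deg k X S.X₃ 1 := by
    rw [hX.deg_tensor_invertible hQ' hL, hX.deg_of_tensor_iso hQ hQ' e0]
    ring
  have hR := rkOne_of_invertible hX.dim hF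
  refine ⟨hd ▸ hX.deg_le_of_h1 hR h0 h1, fun hhom => ?_⟩
  have hsub := section_iff_hom hL hQ hQ' e hhom
  haveI : Subsingleton (Coh.HH X (CohB1.tensorMod Q' S.X₁) 0) :=
    (hequiv k (tensorComm Q' S.X₁) 0).toEquiv.subsingleton
  haveI := hX.fin _ hR.coh 1
  have hpos : 0 < Module.finrank k (Coh.HH X (CohB1.tensorMod Q' S.X₁) 1) := Module.finrank_pos
  have hrr := hX.rr hR.coh
  rw [h0, Module.finrank_zero_of_subsingleton (M := Coh.HH X (CohB1.tensorMod Q' S.X₁) 0), hd] at hrr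
  omega

end Groth.Agent.VB17
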