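import Groth.Agent.Lib.VB17.TwistBound

/-!
# Modules with twisted endomorphisms (pairs, tuples): invariant submodules
-/

set_option linter.style.haveILetI false
set_option autoImplicit false
set_option maxHeartbeats 800000

universe u

open CategoryTheory TopologicalSpace CategoryTheory.Limits AlgebraicGeometry

namespace Groth.Agent.VB17

open Groth.Agent.M1 Groth.Agent.M2 Groth.Agent.CurveCoh17

variable {X : Scheme.{u}}

theorem isEquivalence_tensorR {L : X.Modules} (hL : PicF.IsInvertible L) : (tensorR L).IsEquivalence := by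
  obtain ⟨D, -, ⟨e⟩⟩ := exists_inverse hL
  let e' : CohB1.tensorMod D L ≅ Coh.structureModule X := tensorComm D L ≪≫ e
  exact (CategoryTheory.Equivalence.mk (tensorR L) (tensorR D)
    (NatIso.ofComponents (fun M => (untwist e M).symm) (fun {M M'} f => by
      show f ≫ (untwist e M').inv = (untwist e M).inv ≫ tensorMap (tensorMap f (𝟙 L)) (𝟙 D)
      rw [Iso.comp_inv_eq, Category.assoc, untwist_natural, Iso.inv_hom_id_assoc]))
    (NatIso.ofComponents (fun M => untwist e' M) (fun {M M'} f => untwist_natural e' f))).isEquivalence_functor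

theorem whisker_eq_tensorMap {G E : X.Modules} (j : G ⟶ E) (L : X.Modules) :
    (CohB1.sheafifyMod X).map (MonoidalCategoryStruct.whiskerRight (C := CohB1.PMod X) j.val (CohB1.toPMod L))
      = tensorMap j (𝟙 L) := by
  show _ = (shf X).map _
  rw [CategoryTheory.Functor.map_id]
  exact congrArg (shf X).map (MonoidalCategory.tensorHom_id (C := CohB1.PMod X) _ _).symm

/-- The kernel and the image of a morphism commuting with twisted endomorphisms are invariant. -/
theorem kernel_image_invariant {L E F : X.Modules} (hL : PicF.IsInvertible L)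
    (φ : E ⟶ CohB1.tensorMod E L) (ψ : F ⟶ CohB1.tensorMod F L) (f : E ⟶ F)
    (hf : f ≫ ψ = φ ≫ tensorMap f (𝟙 L)) :
    (∃ χ : kernel f ⟶ CohB1.tensorMod (kernel f) L, χ ≫ tensorMap (kernel.ι f) (𝟙 L) = kernel.ι f ≫ φ) ∧
    ∃ χ : Abelian.image f ⟶ CohB1.tensorMod (Abelian.image f) L,
      χ ≫ tensorMap (Abelian.image.ι f) (𝟙 L) = Abelian.image.ι f ≫ ψ := by
  have hS := shortExact_tensorR (kerSC_shortExact f) L (flat_stalk hL)
  haveI := hS.mono_f
  haveI hm : Mono (tensorMap (Abelian.image.ι f) (𝟙 L)) := mono_tensorMap _ hL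
  have hfac : tensorMap (Abelian.factorThruImage f) (𝟙 L) ≫ tensorMap (Abelian.image.ι f) (𝟙 L)
      = tensorMap f (𝟙 L) := by
    rw [← tensorMap_comp, Abelian.image.fac, Category.comp_id]
  have h0 : (kernel.ι f ≫ φ) ≫ tensorMap (Abelian.factorThruImage f) (𝟙 L) = 0 := by
    rw [← cancel_mono (tensorMap (Abelian.image.ι f) (𝟙 L)), Category.assoc, hfac, Category.assoc, ← hf,
      kernel.condition_assoc, zero_comp, zero_comp]
  constructor
  · exact ⟨hS.exact.lift (kernel.ι f ≫ φ) h0, hS.exact.lift_f _ h0⟩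
  · haveI := (kerSC_shortExact f).epi_g
    have h1 : kernel.ι f ≫ (φ ≫ tensorMap (Abelian.factorThruImage f) (𝟙 L)) = 0 := by
      rw [← Category.assoc]; exact h0
    refine ⟨(kerSC_shortExact f).exact.desc _ h1, ?_⟩
    rw [← cancel_epi (Abelian.factorThruImage f), ← Category.assoc,
      show Abelian.factorThruImage f ≫ (kerSC_shortExact f).exact.desc _ h1 = _ from
        (kerSC_shortExact f).exact.g_desc _ h1, Category.assoc, hfac, ← Category.assoc, Abelian.image.fac, hf]

variable {k : Type u} [Field k] [X.Over (Spec (CommRingCat.of k))]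

/-- The image of a semistable object in a semistable object bounds the slopes. -/
theorem slope_le_of_bounds (hX : RegCurve k X) {r s : ℕ} {E F : X.Modules} (f : E ⟶ F) (hne : f ≠ 0)
    (hE : FlatMod.IsFinLocFreeOfRank r E) (hF : FlatMod.IsFinLocFreeOfRank s F) (aE aF : ℤ)
    (hK : ∀ n : ℕ, 0 < n → FlatMod.IsFinLocFreeOfRank n (kernel f) →
      Curv2.deg k X (kernel f) n * (r : ℤ) ≤ Curv2.deg k X E r * (n : ℤ))
    (hI : ∀ n : ℕ, 0 < n → FlatMod.IsFinLocFreeOfRank n (Abelian.image f) →
      Curv2.deg k X (Abelian.image f) n * aE ≤ aF * (n : ℤ)) (haE : 0 ≤ aE) :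
    Curv2.deg k X E r * aE ≤ aF * (r : ℤ) := by
  obtain ⟨rK, rI, dK, dI, hKr, hIr, hdK, hdI, hd, hr, -, h0, -, hK0, -, -⟩ := map_data hX hE hF f
  have hIpos : 0 < rI := Nat.pos_of_ne_zero fun h => hne (h0.1 h)
  have h2 := hI rI hIpos hIr
  rw [← hdI] at h2
  have h1 : Curv2.deg k X E r * (rI : ℤ) ≤ dI * (r : ℤ) := by
    rcases Nat.eq_zero_or_pos rK with h | h
    · have h' := hK0 h
      rw [hd, h', hr, h]
      push_cast
      simp
    · have h3 := hK rK h hKr
      rw [← hdK] at h3
      have h4 : (r : ℤ) = rK + rI := by exact_mod_cast hr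
      rw [h4] at h3 ⊢
      nlinarith
  have hIpos' : (0 : ℤ) < rI := by exact_mod_cast hIpos
  nlinarith [mul_le_mul_of_nonneg_right h1 haE, mul_le_mul_of_nonneg_left h2 (Int.natCast_nonneg r)]

end Groth.Agent.VB17
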