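import Groth.Agent.Lib.VB17.Scalar
import Groth.Agent.Lib.VB17.Sub
import Groth.Prelude.Def_KLin

/-!
# Scalars acting on invertible modules
-/

set_option linter.style.haveILetI false
set_option autoImplicit false

universe u

open CategoryTheory CategoryTheory.Limits AlgebraicGeometry

namespace Groth.Agent.VB17

open Groth.Agent.M1 Groth.Agent.M2 Groth.Agent.CurveCoh17

variable {k : Type u} [Field k] {X : Scheme.{u}} [X.Over (Spec (CommRingCat.of k))]

theorem smulMod_zero (M : X.Modules) : Formal.smulMod k M 0 = 0 := by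
  rw [Formal.smulMod, map_zero]; exact KLin.smulModΓ_zero M

theorem smulMod_comm (c : k) {A B : X.Modules} (f : A ⟶ B) :
    f ≫ Formal.smulMod k B c = Formal.smulMod k A c ≫ f := KLin.comp_smulModΓ f _

theorem not_isZero_of_invertible [Nonempty X] {A : X.Modules} (hA : PicF.IsInvertible A) : ¬ IsZero A := fun hz => by
  obtain ⟨x⟩ := (inferInstance : Nonempty X)
  obtain ⟨e⟩ := nonempty_stalk_equiv ((isInvertible_iff_isFinLocFreeOfRank_one A).1 hA) x
  have h : e.symm 1 = (0 : A.presheaf.stalk x) := by
    have := congrArg (fun f => (stalkAb x).map f (e.symm 1)) (hz.eq_of_src (𝟙 A) 0)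
    simp only [CategoryTheory.Functor.map_id, Functor.map_zero, CategoryTheory.id_apply] at this
    exact this.trans rfl
  have h' := congrFun (congrArg e h) 0
  rw [LinearEquiv.apply_symm_apply, map_zero] at h'
  exact one_ne_zero h'

theorem eq_zero_of_smulMod_eq_zero [Nonempty X] {A : X.Modules} (hA : PicF.IsInvertible A) {c : k}
    (h : Formal.smulMod k A c = 0) : c = 0 := by
  obtain ⟨x⟩ := (inferInstance : Nonempty X)
  obtain ⟨e⟩ := nonempty_stalk_equiv ((isInvertible_iff_isFinLocFreeOfRank_one A).1 hA) x
  have h1 := stalkLin_smulMod (k := k) A c x (e.symm 1)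
  rw [h] at h1
  have h2 : scal k x c • e.symm 1 = 0 := by
    rw [← h1]
    show (stalkAb x).map (0 : A ⟶ A) _ = 0
    rw [Functor.map_zero]
    rfl
  have h3 := congrFun (congrArg e h2) 0
  rw [map_smul, LinearEquiv.apply_symm_apply, map_zero] at h3
  simpa using h3

end Groth.Agent.VB17
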