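import Groth.Agent.Lib.VB17.Line
import Groth.Agent.Lib.VB17.Pair
import Groth.Agent.Lib.VB17.Simple
import Groth.Agent.Lib.KFlat.FinLocFree
import Groth.Agent.Lib.CurveCoh17.Pairing

/-!
# Serre duality on a regular curve

`W` is an invertible module with `H¹(W) ≠ 0` of maximal degree; every functional on `H¹(F)`,
`F` locally free, comes from a morphism `F → W`, and `h¹(L) = h⁰(W ⊗ L⁻¹)`.
-/

set_option linter.style.haveILetI false
set_option autoImplicit false
set_option maxHeartbeats 1600000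

universe u

open CategoryTheory TopologicalSpace CategoryTheory.Limits AlgebraicGeometry

namespace Groth.Agent.VB17

open Groth.Agent.M1 Groth.Agent.M2 Groth.Agent.CurveCoh17

variable {k : Type u} [Field k] {X : Scheme.{u}} [X.Over (Spec (CommRingCat.of k))]

theorem hmap_zero' {A B : X.Modules} (n : ℕ) : hmap k (0 : A ⟶ B) n = 0 :=
  LinearMap.ext fun x => hmap_zero k n x

theorem hmap_comp' {A B C : X.Modules} (f : A ⟶ B) (g : B ⟶ C) (n : ℕ) :
    hmap k (f ≫ g) n = (hmap k g n).comp (hmap k f n) :=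
  LinearMap.ext fun x => hmap_comp k f g n x

theorem hmap_add' {A B : X.Modules} (f g : A ⟶ B) (n : ℕ) :
    hmap k (f + g) n = hmap k f n + hmap k g n :=
  LinearMap.ext fun x => hmap₀_add f g n x

theorem hmap_neg' {A B : X.Modules} (f : A ⟶ B) (n : ℕ) : hmap k (-f) n = -hmap k f n := by
  rw [eq_neg_iff_add_eq_zero, ← hmap_add', neg_add_cancel, hmap_zero']

theorem flat_stalk_of_rank {r : ℕ} {G : X.Modules} (hG : FlatMod.IsFinLocFreeOfRank r G) (x : X) :
    Module.Flat (X.presheaf.stalk x) (G.presheaf.stalk x) :=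
  Module.Flat.of_linearEquiv (nonempty_stalk_equiv hG x).some

theorem isEquivalence_tensorR' {L L' : X.Modules} (hL : PicF.IsInvertible L)
    (_e : CohB1.tensorMod L' L ≅ Coh.structureModule X) : (tensorR L).IsEquivalence :=
  isEquivalence_tensorR hL

variable (k X) in
/-- Invertible modules of arbitrarily large degree exist. -/
def HasBigDeg : Prop := ∀ b : ℤ, ∃ N : X.Modules, PicF.IsInvertible N ∧ b ≤ Curv2.deg k X N 1

theorem hasBigDeg_of_isAlgClosed [IsAlgClosed k] [IsIntegral X]
    [LocallyOfFiniteType (X ↘ Spec (CommRingCat.of k))]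
    (hX : CurveLike k X) (hdim : topologicalKrullDim X = 1) (hreg : ∀ x : X, IsRegularLocalRing (X.presheaf.stalk x)) :
    HasBigDeg k X := fun b =>
  let ⟨N, hN, hd⟩ := exists_invertible_deg hX hdim hreg b
  ⟨N, hN, hd.ge⟩

theorem exists_rank_of_isFinLocFree' [IsIntegral X] {G : X.Modules} (h : FlatMod.IsFinLocFree G) :
    ∃ n, FlatMod.IsFinLocFreeOfRank n G := by
  have hQ : Coh.IsQCoh G := isFP_isQCoh (isFP_of_isFinLocFree h)
  refine ⟨RankFree12.rk G (genericPoint X), fun x => ?_⟩
  obtain ⟨U, n, hxU, ⟨e⟩⟩ := h x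
  refine ⟨U, hxU, ?_⟩
  rw [RankFree12.rk_of_freeMod hQ e
    (((genericPoint_spec X).mem_open_set_iff U.2).2 ⟨x, Set.mem_univ _, hxU⟩)]
  exact ⟨e⟩

variable (hX : RegCurve k X) (h0 : Module.finrank k (Coh.HH X (Coh.structureModule X) 0) = 1)

include hX

theorem h1_surjective_of_epi {S : ShortComplex X.Modules} (hS : S.ShortExact) (h : Coh.IsQCoh S.X₁) :
    Function.Surjective (hmap k S.g 1) := fun x => by
  haveI := hX.like.noetherian; haveI := hX.like.separated
  haveI : Subsingleton (Coh.HH X S.X₁ (1 + 1)) := subsingleton_HH_of_dim hX.like.dim _ h 0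
  exact (exact_hmap_hdelta k hS 1 x).1 (Subsingleton.elim _ _)

theorem h1_surjective_of_mono {r : ℕ} {G E : X.Modules} (hG : FlatMod.IsFinLocFreeOfRank r G)
    (hE : FlatMod.IsFinLocFreeOfRank r E) (g : G ⟶ E) [Mono g] : Function.Surjective (hmap k g 1) := by
  haveI := hX.integral; haveI := hX.like.noetherian
  have hinj := (mono_iff_stalk g).1 inferInstance
  obtain ⟨S, hS⟩ := exists_suppIn_of_maximal hX.like.dim
    (M1.isCoh_cokernel (isCoh_of_ofRank hG).1 (isCoh_of_ofRank hE) g) fun x hx =>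
      eq_genericPoint_of_maximal hx ▸ eq_zero_stalk_cokernel g _
        (surjective_stalkLin_genericPoint (nonempty_stalk_equiv hG _) (nonempty_stalk_equiv hE _) g
          (hinj _))
  have hT : (ShortComplex.mk g (cokernel.π g) (cokernel.condition g)).ShortExact :=
    { exact := ShortComplex.exact_of_g_is_cokernel _ (cokernelIsCokernel _) }
  haveI := hS.subsingleton_HH 0
  exact fun x => (exact_hmap_hmap k hT 1 x).1 (Subsingleton.elim _ _)

theorem h1_surjective_of_ne_zero {r : ℕ} {F W : X.Modules} (hF : FlatMod.IsFinLocFreeOfRank r F)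
    (hW : PicF.IsInvertible W) (φ : F ⟶ W) (hφ : φ ≠ 0) : Function.Surjective (hmap k φ 1) := by
  haveI := hX.integral; haveI := hX.like.noetherian
  have hW1 := (isInvertible_iff_isFinLocFreeOfRank_one W).1 hW
  obtain ⟨rK, rI, hK, hI, -, hle, h0', -⟩ := exists_image hX.pid hF hW1 φ
  have : rI = 1 := by
    have : rI ≠ 0 := fun h => hφ (h0'.1 h)
    omega
  subst this
  have h1 := h1_surjective_of_epi hX (kerSC_shortExact φ) (isCoh_of_ofRank hK).1
  have h2 := h1_surjective_of_mono hX hI hW1 (Abelian.image.ι φ)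
  have h3 := congrArg (fun f => hmap k f 1) (Abelian.image.fac φ)
  rw [hmap_comp'] at h3
  rw [← h3]
  exact h2.comp h1

theorem mono_of_ne_zero {A B : X.Modules} (hA : PicF.IsInvertible A) (hB : PicF.IsInvertible B) (f : A ⟶ B)
    (hf : f ≠ 0) : Mono f := by
  haveI := hX.integral; haveI := hX.like.noetherian
  obtain ⟨rK, rI, -, -, hr, -, h0', hm⟩ := exists_image hX.pid
    ((isInvertible_iff_isFinLocFreeOfRank_one A).1 hA) ((isInvertible_iff_isFinLocFreeOfRank_one B).1 hB) f
  exact hm.1 (by have : rI ≠ 0 := fun h => hf (h0'.1 h); omega)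

theorem exists_line_sub (hbig : HasBigDeg k X) {r : ℕ} (hr : 0 < r) {F : X.Modules}
    (hF : FlatMod.IsFinLocFreeOfRank r F) :
    ∃ (L : X.Modules) (i : L ⟶ F), Mono i ∧ PicF.IsInvertible L := by
  haveI := hX.integral
  obtain ⟨N, hN, hd⟩ := hbig (|Curv2.deg k X F r| + r * |Curv2.euler k X (Coh.structureModule X)| + 1)
  obtain ⟨N', hN', ⟨e⟩⟩ := exists_inverse hN
  have hN1 := (isInvertible_iff_isFinLocFreeOfRank_one N).1 hN
  have hFN : FlatMod.IsFinLocFreeOfRank r (CohB1.tensorMod F N) := by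
    simpa using isFinLocFreeOfRank_tensor hF hN1
  have hdeg : Curv2.deg k X (CohB1.tensorMod F N) r = Curv2.deg k X F r + r * Curv2.deg k X N 1 := by
    simpa using hX.like.deg_tensor hF hN1
  have ha := hX.like.adm (isCoh_of_ofRank hFN)
  have he := ha.euler_eq
  have hpos : 0 < Module.finrank k (Coh.HH X (CohB1.tensorMod F N) 0) := by
    rw [Curv2.deg, he] at hdeg
    have h1 : (1 : ℤ) ≤ r := by exact_mod_cast hr
    have h2 := mul_le_mul_of_nonneg_left hd (by positivity : (0 : ℤ) ≤ r)
    have h3 := neg_abs_le (Curv2.deg k X F r)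
    have h4 := mul_le_mul_of_nonneg_left (neg_abs_le (Curv2.euler k X (Coh.structureModule X))) (by positivity : (0 : ℤ) ≤ r)
    have h5 := abs_nonneg (Curv2.deg k X F r)
    have h6 := abs_nonneg (Curv2.euler k X (Coh.structureModule X))
    have h7 := mul_le_mul_of_nonneg_right h1 h5
    have h8 := mul_nonneg (mul_nonneg (by positivity : (0 : ℤ) ≤ r) (sub_nonneg.2 h1)) h6
    have h9 : (0 : ℤ) < Module.finrank k (Coh.HH X (CohB1.tensorMod F N) 0) := by
      nlinarith [Int.natCast_nonneg (Module.finrank k (Coh.HH X (CohB1.tensorMod F N) 1))]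
    exact_mod_cast h9
  haveI := ha.fin 0
  obtain ⟨i, hi⟩ := exists_mono_of_section hF hN hN' e (Module.finrank_pos_iff.1 hpos)
  exact ⟨N', i, hi, hN'⟩

theorem exists_quotient_line (hbig : HasBigDeg k X) :
    ∀ {r : ℕ}, 0 < r → ∀ {F : X.Modules}, FlatMod.IsFinLocFreeOfRank r F →
      ∃ (Q : X.Modules) (π : F ⟶ Q), Epi π ∧ PicF.IsInvertible Q ∧
        FlatMod.IsFinLocFreeOfRank (r - 1) (kernel π) := by
  haveI := hX.integral; haveI := hX.like.noetherian
  have key : ∀ r : ℕ, 0 < r → ∀ F : X.Modules, FlatMod.IsFinLocFreeOfRank r F →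
      ∃ (L : X.Modules) (f : F ⟶ L), f ≠ 0 ∧ PicF.IsInvertible L := by
    intro r
    induction r with
    | zero => intro h; omega
    | succ n ih =>
      intro _ F hF
      rcases Nat.eq_zero_or_pos n with h | h
      · subst h
        have hL := (isInvertible_iff_isFinLocFreeOfRank_one F).2 hF
        exact ⟨F, 𝟙 F, fun h' => not_isZero_of_invertible hL ((IsZero.iff_id_eq_zero F).2 h'), hL⟩
      · obtain ⟨L₀, i₀, hi₀, hL₀⟩ := exists_line_sub hX hbig (Nat.succ_pos n) hF
        obtain ⟨b, hb⟩ := deg_sub_bdd hX hF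
        obtain ⟨d, ⟨M, j, hj, hM, hd⟩, hmax⟩ := Int.exists_greatest_of_bdd
          (P := fun d => ∃ (M : X.Modules) (j : M ⟶ F), Mono j ∧ FlatMod.IsFinLocFreeOfRank 1 M ∧ Curv2.deg k X M 1 = d)
          ⟨b, fun d ⟨M, j, hj, hM, hd⟩ => hd ▸ hb M 1 j hj hM⟩
          ⟨_, L₀, i₀, hi₀, (isInvertible_iff_isFinLocFreeOfRank_one L₀).1 hL₀, rfl⟩
        haveI := hj
        have hlf := isFinLocFree_cokernel hX hF hM j fun P l hl hP => by
          rw [hd]; exact hmax _ ⟨P, l, hl, hP, rfl⟩
        obtain ⟨m, hm⟩ := exists_rank_of_isFinLocFree' hlf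
        have hS : (ShortComplex.mk j (cokernel.π j) (cokernel.condition j)).ShortExact :=
          { exact := ShortComplex.exact_of_g_is_cokernel _ (cokernelIsCokernel _) }
        have hmn : m = n := by have := rank_add hS hM hF hm; omega
        subst hmn
        obtain ⟨L, f, hf, hL⟩ := ih h _ hm
        exact ⟨L, cokernel.π j ≫ f, fun h' => hf (by rwa [← cancel_epi (cokernel.π j), comp_zero]), hL⟩
  intro r hr F hF
  obtain ⟨L, f, hf, hL⟩ := key r hr F hF
  obtain ⟨rK, rI, hK, hI, -, hle, h0', -⟩ :=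
    exists_image hX.pid hF ((isInvertible_iff_isFinLocFreeOfRank_one L).1 hL) f
  have : rI = 1 := by
    have : rI ≠ 0 := fun h => hf (h0'.1 h)
    omega
  subst this
  refine ⟨_, Abelian.factorThruImage f, inferInstance, (isInvertible_iff_isFinLocFreeOfRank_one _).2 hI, ?_⟩
  obtain ⟨rK', rI', hK', -, hr', hle', h0'', -⟩ := exists_image hX.pid hF hI (Abelian.factorThruImage f)
  have : rI' ≠ 0 := fun h => hf (by
    rw [← Abelian.image.fac f, h0''.1 h, zero_comp])
  obtain rfl : rK' = r - 1 := by omega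
  exact hK'

variable (k) in
omit hX in
/-- `W` with a nonzero functional on `H¹(W)`, of maximal degree among those with `H¹ ≠ 0`. -/
structure IsDualizing (W : X.Modules) (lam : Module.Dual k (Coh.HH X W 1)) : Prop where
  inv : PicF.IsInvertible W
  ne : lam ≠ 0
  max : ∀ W' : X.Modules, PicF.IsInvertible W' → Nontrivial (Coh.HH X W' 1) →
    Curv2.deg k X W' 1 ≤ Curv2.deg k X W 1

include h0 in
theorem exists_isDualizing (hbig : HasBigDeg k X) :
    ∃ (W : X.Modules) (lam : Module.Dual k (Coh.HH X W 1)), IsDualizing k W lam := by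
  haveI := hX.integral; haveI := hX.like.noetherian
  obtain ⟨N, hN, hd⟩ := hbig 2
  obtain ⟨N', hN', ⟨e⟩⟩ := exists_inverse hN
  have hdN : Curv2.deg k X N' 1 = -Curv2.deg k X N 1 := hX.like.deg_of_tensor_iso hN hN' e
  have hR := rkOne_of_invertible hX.like.dim hN'
  haveI := hX.like.fin N' hR.coh 1
  haveI := hX.like.fin N' hR.coh 0
  have hne : Nontrivial (Coh.HH X N' 1) := by
    have hrr := hX.like.rr hR.coh
    rw [h0, hdN] at hrr
    exact Module.finrank_pos_iff.1 (show 0 < Module.finrank k (Coh.HH X N' 1) by omega)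
  obtain ⟨d, ⟨W, hW, h1, hdW⟩, hmax⟩ := Int.exists_greatest_of_bdd
    (P := fun d => ∃ W : X.Modules, PicF.IsInvertible W ∧ Nontrivial (Coh.HH X W 1) ∧ Curv2.deg k X W 1 = d)
    ⟨_, fun d ⟨W, hW, h1, hd⟩ => hd ▸ hX.like.deg_le_of_h1 (rkOne_of_invertible hX.like.dim hW) h0 h1⟩
    ⟨_, N', hN', hne, rfl⟩
  obtain ⟨η, hη⟩ := exists_ne (0 : Coh.HH X W 1)
  haveI : Module.Free k (Coh.HH X W 1) := Module.Free.of_divisionRing k _
  haveI : Module.Projective k (Coh.HH X W 1) := Module.Projective.of_free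
  obtain ⟨lam, hlam⟩ := Module.Projective.exists_dual_ne_zero k hη
  exact ⟨W, lam, hW, fun h => hlam (by rw [h]; rfl), fun W' hW' h' => hdW ▸ hmax _ ⟨W', hW', h', rfl⟩⟩

variable {W : X.Modules} {lam : Module.Dual k (Coh.HH X W 1)}

theorem IsDualizing.comp_ne_zero (hW : IsDualizing k W lam) {r : ℕ} {F : X.Modules}
    (hF : FlatMod.IsFinLocFreeOfRank r F) (φ : F ⟶ W) (hφ : φ ≠ 0) : lam.comp (hmap k φ 1) ≠ 0 := fun h =>
  hW.ne (LinearMap.ext fun y => by
    obtain ⟨x, rfl⟩ := h1_surjective_of_ne_zero hX hF hW.inv φ hφ y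
    exact LinearMap.congr_fun h x)

/-- Serre's gluing argument. -/
theorem IsDualizing.exists_of_agree (hW : IsDualizing k W lam) {r : ℕ} {F M : X.Modules}
    (hF : FlatMod.IsFinLocFreeOfRank r F) (hM : FlatMod.IsFinLocFreeOfRank r M) (j : M ⟶ F) [Mono j] (ψ : M ⟶ W)
    (μ : Module.Dual k (Coh.HH X F 1)) (heq : μ.comp (hmap k j 1) = lam.comp (hmap k ψ 1)) :
    ∃ φ : F ⟶ W, μ = lam.comp (hmap k φ 1) := by
  haveI := hX.integral; haveI := hX.like.noetherian
  have hW1 := (isInvertible_iff_isFinLocFreeOfRank_one W).1 hW.inv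
  obtain ⟨n, hE⟩ := exists_rank_of_isFinLocFree' (KFlat.Sch.isFinLocFree_biprod (isFinLocFree_of_ofRank hF)
    (isFinLocFree_of_ofRank hW1))
  have hn : n = r + 1 := rank_add (ShortComplex.Splitting.ofHasBinaryBiproduct F W).shortExact hF hE hW1
  subst hn
  let j' : M ⟶ F ⊞ W := biprod.lift j (-ψ)
  haveI : Mono j' := mono_of_mono_fac (biprod.lift_fst j (-ψ))
  obtain ⟨b, hb⟩ := deg_sub_bdd hX hE
  obtain ⟨d, ⟨G, l, u, hl, hG, hu, hd⟩, hmax⟩ := Int.exists_greatest_of_bdd
    (P := fun d => ∃ (G : X.Modules) (l : G ⟶ F ⊞ W) (u : M ⟶ G),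
      Mono l ∧ FlatMod.IsFinLocFreeOfRank r G ∧ u ≫ l = j' ∧ Curv2.deg k X G r = d)
    ⟨b, fun d ⟨G, l, u, hl, hG, hu, hd⟩ => hd ▸ hb G r l hl hG⟩
    ⟨_, M, j', 𝟙 M, inferInstance, hM, Category.id_comp _, rfl⟩
  haveI := hl
  have hlf := isFinLocFree_cokernel_factor hX hE hG l fun P l' u' hl' hP hu' => by
    rw [hd]; exact hmax _ ⟨P, l', u ≫ u', hl', hP, by rw [Category.assoc, hu', hu], rfl⟩
  obtain ⟨m, hQ⟩ := exists_rank_of_isFinLocFree' hlf
  have hS : (ShortComplex.mk l (cokernel.π l) (cokernel.condition l)).ShortExact :=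
    { exact := ShortComplex.exact_of_g_is_cokernel _ (cokernelIsCokernel _) }
  have hm : m = 1 := by have := rank_add hS hG hE hQ; omega
  subst hm
  haveI : Mono u := mono_of_mono_fac hu
  have husurj := h1_surjective_of_mono hX hM hG u
  have hcsurj := h1_surjective_of_epi hX hS (isCoh_of_ofRank hG).1
  let ν₀ : Module.Dual k (Coh.HH X (F ⊞ W) 1) :=
    μ.comp (hmap k (biprod.fst : F ⊞ W ⟶ F) 1) + lam.comp (hmap k (biprod.snd : F ⊞ W ⟶ W) 1)
  have hkill : ∀ y, ν₀ (hmap k l 1 y) = 0 := by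
    intro y
    obtain ⟨x, rfl⟩ := husurj y
    rw [← hmap_comp k u l 1 x, hu]
    show μ (hmap k biprod.fst 1 (hmap k j' 1 x)) + lam (hmap k biprod.snd 1 (hmap k j' 1 x)) = 0
    rw [← hmap_comp k j', ← hmap_comp k j', biprod.lift_fst, biprod.lift_snd, hmap_neg']
    show μ (hmap k j 1 x) + lam (-(hmap k ψ 1 x)) = 0
    rw [map_neg, show μ (hmap k j 1 x) = lam (hmap k ψ 1 x) from LinearMap.congr_fun heq x, add_neg_cancel]
  haveI : Module.Free k (Coh.HH X (cokernel l) 1) := Module.Free.of_divisionRing k _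
  haveI : Module.Projective k (Coh.HH X (cokernel l) 1) := Module.Projective.of_free
  obtain ⟨s, hs⟩ := (hmap k (cokernel.π l) 1).exists_rightInverse_of_surjective (LinearMap.range_eq_top.2 hcsurj)
  let ν : Module.Dual k (Coh.HH X (cokernel l) 1) := ν₀.comp s
  have hν : ∀ x, ν (hmap k (cokernel.π l) 1 x) = ν₀ x := by
    intro x
    obtain ⟨y, hy⟩ := (exact_hmap_hmap k hS 1 (s (hmap k (cokernel.π l) 1 x) - x)).1 (by
      rw [map_sub]
      show hmap k (cokernel.π l) 1 (s (hmap k (cokernel.π l) 1 x)) - _ = 0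
      rw [sub_eq_zero]
      exact LinearMap.congr_fun hs _)
    show ν₀ (s _) = ν₀ x
    rw [← sub_eq_zero, ← map_sub, ← hy]
    exact hkill y
  let a : W ⟶ cokernel l := biprod.inr ≫ cokernel.π l
  have ha : ∀ y, ν (hmap k a 1 y) = lam y := by
    intro y
    rw [show hmap k a 1 y = hmap k (cokernel.π l) 1 (hmap k biprod.inr 1 y) from hmap_comp k _ _ 1 y, hν]
    show μ (hmap k biprod.fst 1 (hmap k biprod.inr 1 y)) + lam (hmap k biprod.snd 1 (hmap k biprod.inr 1 y)) = lam y
    rw [← hmap_comp k biprod.inr, ← hmap_comp k biprod.inr, biprod.inr_fst, biprod.inr_snd, hmap_id, hmap_zero,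
      map_zero, zero_add]
  have hQi := (isInvertible_iff_isFinLocFreeOfRank_one (cokernel l)).2 hQ
  have hne : a ≠ 0 := fun h => hW.ne (LinearMap.ext fun y => by
    rw [← ha y, h, hmap_zero, map_zero]; rfl)
  haveI := mono_of_ne_zero hX hW.inv hQi a hne
  have hnt : Nontrivial (Coh.HH X (cokernel l) 1) := not_subsingleton_iff_nontrivial.1 fun h => hW.ne
    (LinearMap.ext fun y => by rw [← ha y, Subsingleton.elim (hmap k a 1 y) 0, map_zero]; rfl)
  obtain ⟨hle, hiso⟩ := deg_le_of_mono hX.like hW1 hQ a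
  haveI := hiso (le_antisymm hle (hW.max _ hQi hnt))
  refine ⟨biprod.inl ≫ cokernel.π l ≫ CategoryTheory.inv a, LinearMap.ext fun y => ?_⟩
  show μ y = lam (hmap k _ 1 y)
  rw [← ha (hmap k (biprod.inl ≫ cokernel.π l ≫ CategoryTheory.inv a) 1 y), ← hmap_comp k _ a, Category.assoc, Category.assoc,
    IsIso.inv_hom_id, Category.comp_id, hmap_comp k biprod.inl (cokernel.π l), hν]
  show μ y = μ (hmap k biprod.fst 1 (hmap k biprod.inl 1 y)) + lam (hmap k biprod.snd 1 (hmap k biprod.inl 1 y))
  rw [← hmap_comp k biprod.inl, ← hmap_comp k biprod.inl, biprod.inl_fst, biprod.inl_snd, hmap_id, hmap_zero,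
    map_zero, add_zero]

omit hX in
/-- The morphism `O ⊗ N → F` given by a section of `F ⊗ N'`. -/
noncomputable def homOf {N N' : X.Modules} (e : CohB1.tensorMod N' N ≅ Coh.structureModule X) (F : X.Modules)
    (z : Coh.HH X (CohB1.tensorMod F N') 0) : CohB1.tensorMod (Coh.structureModule X) N ⟶ F :=
  tensorMap (secHom (hh0 (CohB1.tensorMod F N') z)) (𝟙 N) ≫ (untwist e F).hom

variable (k) in
omit hX in
/-- `z ↦ μ ∘ H¹(homOf z)`. -/
noncomputable def pairFun {N N' : X.Modules} (e : CohB1.tensorMod N' N ≅ Coh.structureModule X) (F : X.Modules)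
    (μ : Module.Dual k (Coh.HH X F 1)) :
    Coh.HH X (CohB1.tensorMod F N') 0 →ₗ[k]
      Module.Dual k (Coh.HH X (CohB1.tensorMod (Coh.structureModule X) N) 1) :=
  (LinearMap.compRight k (μ.comp (hmap k (untwist e F).hom 1))).comp (mulPair k (CohB1.tensorMod F N') N 1)

omit hX in
theorem pairFun_apply {N N' : X.Modules} (e : CohB1.tensorMod N' N ≅ Coh.structureModule X) (F : X.Modules)
    (μ : Module.Dual k (Coh.HH X F 1)) (z : Coh.HH X (CohB1.tensorMod F N') 0) :
    pairFun k e F μ z = μ.comp (hmap k (homOf e F z) 1) := by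
  refine LinearMap.ext fun x => ?_
  show μ (hmap k (untwist e F).hom 1 (hmap k (tensorMap (secHom (hh0 _ z)) (𝟙 N)) 1 x)) = _
  rw [← hmap_comp k]
  rfl

theorem homOf_ne_zero {N N' : X.Modules} (hN : PicF.IsInvertible N) (hN' : PicF.IsInvertible N')
    (e : CohB1.tensorMod N' N ≅ Coh.structureModule X) {r : ℕ} {F : X.Modules}
    (hF : FlatMod.IsFinLocFreeOfRank r F) {z : Coh.HH X (CohB1.tensorMod F N') 0} (hz : z ≠ 0) :
    homOf e F z ≠ 0 := by
  haveI := hX.integral
  haveI : Mono (secHom (hh0 _ z)) := (mono_iff_stalk _).2 (injective_stalk_secHom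
    (isFinLocFreeOfRank_tensor hF ((isInvertible_iff_isFinLocFreeOfRank_one N').1 hN')) (hh0_ne_zero hz))
  haveI := mono_tensorMap (secHom (hh0 _ z)) hN
  haveI : Mono (homOf e F z) := mono_comp _ _
  intro h
  refine not_isZero_of_invertible (isInvertible_tensor (PicLoc.isInvertible_structureModule X) hN) ?_
  rw [IsZero.iff_id_eq_zero, ← cancel_mono (homOf e F z), h, comp_zero, comp_zero]

omit hX in
theorem homOf_natural {N N' : X.Modules} (e : CohB1.tensorMod N' N ≅ Coh.structureModule X) {F Q : X.Modules}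
    (π : F ⟶ Q) (z : Coh.HH X (CohB1.tensorMod F N') 0) :
    homOf e F z ≫ π = homOf e Q (hmap k (tensorMap π (𝟙 N')) 0 z) := by
  rw [homOf, homOf, hh0_hmap, ← CurveCoh17.secHom_comp, Category.assoc, ← untwist_natural, ← Category.assoc,
    ← tensorMap_comp, Category.comp_id]

theorem IsDualizing.injective_pairFun (hW : IsDualizing k W lam) {N N' : X.Modules} (hN : PicF.IsInvertible N)
    (hN' : PicF.IsInvertible N') (e : CohB1.tensorMod N' N ≅ Coh.structureModule X) :
    Function.Injective (pairFun k e W lam) := by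
  haveI := hX.integral
  rw [injective_iff_map_eq_zero]
  intro z hz
  by_contra hne
  refine hW.comp_ne_zero hX ((isInvertible_iff_isFinLocFreeOfRank_one _).1
    (isInvertible_tensor (PicLoc.isInvertible_structureModule X) hN)) _
    (homOf_ne_zero hX hN hN' e ((isInvertible_iff_isFinLocFreeOfRank_one W).1 hW.inv) hne) ?_
  rw [← pairFun_apply]
  exact hz

include h0 in
theorem IsDualizing.exists_hom (hbig : HasBigDeg k X) (hW : IsDualizing k W lam) :
    ∀ {r : ℕ} {F : X.Modules}, FlatMod.IsFinLocFreeOfRank r F → ∀ μ : Module.Dual k (Coh.HH X F 1),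
      ∃ φ : F ⟶ W, μ = lam.comp (hmap k φ 1) := by
  haveI := hX.integral; haveI := hX.like.noetherian
  intro r
  induction r with
  | zero =>
    intro F hF μ
    refine ⟨0, LinearMap.ext fun x => ?_⟩
    have hx : x = 0 := by
      rw [← hmap_id k F 1 x, (isZero_of_rank_zero hF).eq_of_src (𝟙 F) 0, hmap_zero]
    rw [hx, map_zero, map_zero]
  | succ r ih =>
    intro F hF μ
    obtain ⟨Q, π, hπ, hQ, hG⟩ := exists_quotient_line hX hbig (Nat.succ_pos r) hF
    replace hG : FlatMod.IsFinLocFreeOfRank r (kernel π) := hG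
    haveI := hπ
    obtain ⟨φG, hφG⟩ := ih hG (μ.comp (hmap k (kernel.ι π) 1))
    have hW1 := (isInvertible_iff_isFinLocFreeOfRank_one W).1 hW.inv
    have hQ1 := (isInvertible_iff_isFinLocFreeOfRank_one Q).1 hQ
    set g : ℤ := (Curv2.genus k X : ℤ) with hg
    obtain ⟨N', hN', hd⟩ := hbig (|3 * g - 2 - Curv2.deg k X W 1 - Curv2.deg k X Q 1
      + Module.finrank k (Coh.HH X (kernel π) 1)| + g + 1)
    obtain ⟨N, hN, ⟨e⟩⟩ := exists_inverse hN'
    have hdN : Curv2.deg k X N 1 = -Curv2.deg k X N' 1 := hX.like.deg_of_tensor_iso hN' hN e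
    have hN1' := (isInvertible_iff_isFinLocFreeOfRank_one N').1 hN'
    have hS : (ShortComplex.mk (kernel.ι π) π (kernel.condition π)).ShortExact :=
      { exact := ShortComplex.exact_of_f_is_kernel _ (kernelIsKernel π) }
    have hS' := shortExact_tensorR hS N' (flat_stalk hN')
    have hcG : Coh.IsCoh (CohB1.tensorMod (kernel π) N') :=
      isCoh_of_ofRank (isFinLocFreeOfRank_tensor hG hN1')
    have hcF : Coh.IsCoh (CohB1.tensorMod F N') := isCoh_of_ofRank (isFinLocFreeOfRank_tensor hF hN1')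
    have hcQ : Coh.IsCoh (CohB1.tensorMod Q N') := isCoh_of_ofRank (isFinLocFreeOfRank_tensor hQ1 hN1')
    have hcW : Coh.IsCoh (CohB1.tensorMod W N') := isCoh_of_ofRank (isFinLocFreeOfRank_tensor hW1 hN1')
    have hON := isInvertible_tensor (PicLoc.isInvertible_structureModule X) hN
    haveI := hX.like.fin _ hcF 0
    haveI := hX.like.fin _ hcG 0
    haveI := hX.like.fin _ hcQ 0
    haveI := hX.like.fin _ hcW 0
    haveI := hX.like.fin _ (isCoh_of_ofRank ((isInvertible_iff_isFinLocFreeOfRank_one _).1 hON)) 1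
    haveI := hX.like.fin N' (isCoh_of_ofRank hN1') 0
    have h1G : Module.finrank k (Coh.HH X (CohB1.tensorMod (kernel π) N') 1) ≤
        Module.finrank k (Coh.HH X (kernel π) 1) := by
      have hrr := hX.like.rr (isCoh_of_ofRank hN1')
      rw [h0] at hrr
      have habs := abs_nonneg (3 * g - 2 - Curv2.deg k X W 1 - Curv2.deg k X Q 1
        + Module.finrank k (Coh.HH X (kernel π) 1))
      haveI : Nontrivial (Coh.HH X N' 0) :=
        Module.finrank_pos_iff.1 (show 0 < Module.finrank k (Coh.HH X N' 0) by omega)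
      obtain ⟨z, hz⟩ := exists_ne (0 : Coh.HH X N' 0)
      haveI : Mono (secHom (hh0 N' z)) :=
        (mono_iff_stalk _).2 (injective_stalk_secHom hN1' (hh0_ne_zero hz))
      obtain ⟨hm, S, hS0⟩ := (rkOne_of_invertible hX.like.dim hN').sec (hh0 N' z) (hh0_ne_zero hz)
      have hT := shortExact_tensorR (secSC_shortExact (hh0 N' z)) (kernel π) (flat_stalk_of_rank hG)
      haveI : Subsingleton (Coh.HH X ((secSC (hh0 N' z)).map (tensorR (kernel π))).X₃ 1) :=
        (hS0.tensor (kernel π)).subsingleton_HH 0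
      haveI := hX.like.fin _ (isCoh_of_ofRank hG) 1
      haveI := hX.like.fin _ hcG 1
      haveI : Module.Finite k (Coh.HH X (CohB1.tensorMod (Coh.structureModule X) (kernel π)) 1) :=
        Module.Finite.equiv (hequiv k (tensorLUnit (kernel π)) 1).symm
      rw [← (hequiv k (tensorLUnit (kernel π)) 1).finrank_eq, (hequiv k (tensorComm (kernel π) N') 1).finrank_eq]
      exact LinearMap.finrank_le_finrank_of_surjective
        (f := hmap k ((secSC (hh0 N' z)).map (tensorR (kernel π))).f 1)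
        fun y => (exact_hmap_hmap k hT 1 y).1 (Subsingleton.elim _ _)
    have habs := abs_nonneg (3 * g - 2 - Curv2.deg k X W 1 - Curv2.deg k X Q 1
      + Module.finrank k (Coh.HH X (kernel π) 1))
    have hle := le_abs_self (3 * g - 2 - Curv2.deg k X W 1 - Curv2.deg k X Q 1
      + Module.finrank k (Coh.HH X (kernel π) 1))
    let β := pairFun k e W lam
    let βF := pairFun k e F μ
    have hinj : Function.Injective β := hW.injective_pairFun hX hN hN' e
    obtain ⟨z, hzV, hzQ⟩ : ∃ z, βF z ∈ LinearMap.range β ∧ hmap k (tensorMap π (𝟙 N')) 0 z ≠ 0 := by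
      by_contra hall
      push Not at hall
      let f := (LinearMap.range β).mkQ.comp βF
      have hker : LinearMap.ker f ≤ LinearMap.range (hmap k (tensorMap (kernel.ι π) (𝟙 N')) 0) := by
        intro z hz
        have hz' : βF z ∈ LinearMap.range β := by
          rw [LinearMap.mem_ker] at hz
          exact (Submodule.Quotient.mk_eq_zero _).1 hz
        exact (exact_hmap_hmap k hS' 0 z).1 (hall z hz')
      have hsum := LinearMap.finrank_range_add_finrank_ker f
      have hk := (Submodule.finrank_mono hker).trans (LinearMap.finrank_range_le _)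
      have hrange := Submodule.finrank_le (LinearMap.range f)
      have hquot := Submodule.finrank_quotient_add_finrank (LinearMap.range β)
      rw [LinearMap.finrank_range_of_inj hinj, Subspace.dual_finrank_eq] at hquot
      have heu := euler_add hS' (hX.like.adm hcG) (hX.like.adm hcQ)
      change Curv2.euler k X (CohB1.tensorMod F N') = Curv2.euler k X (CohB1.tensorMod (kernel π) N') +
        Curv2.euler k X (CohB1.tensorMod Q N') at heu
      rw [(hX.like.adm hcF).euler_eq, (hX.like.adm hcG).euler_eq, (hX.like.adm hcQ).euler_eq] at heu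
      have rQ := hX.like.rr hcQ
      have rW := hX.like.rr hcW
      rw [h0, hX.like.deg_tensor_invertible hQ hN'] at rQ
      rw [h0, hX.like.deg_tensor_invertible hW.inv hN'] at rW
      have hdON : Curv2.deg k X (CohB1.tensorMod (Coh.structureModule X) N) 1 = -Curv2.deg k X N' 1 := by
        rw [deg_iso (tensorLUnit N), hdN]
      have hRON := rkOne_of_invertible hX.like.dim hON
      have hsON : Subsingleton (Coh.HH X (CohB1.tensorMod (Coh.structureModule X) N) 0) :=
        not_nontrivial_iff_subsingleton.1 fun h => by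
          have := (hX.like.deg_nonneg hRON h).1
          omega
      have rON := hX.like.rr hRON.coh
      rw [h0, hdON, Module.finrank_zero_of_subsingleton (M := Coh.HH X (CohB1.tensorMod (Coh.structureModule X) N) 0)] at rON
      omega
    obtain ⟨w, hw⟩ := hzV
    let N₀ := CohB1.tensorMod (Coh.structureModule X) N
    let jN : N₀ ⟶ F := homOf e F z
    let ψN : N₀ ⟶ W := homOf e W w
    have hN₀ : FlatMod.IsFinLocFreeOfRank 1 N₀ := (isInvertible_iff_isFinLocFreeOfRank_one _).1 hON
    have hagree : μ.comp (hmap k jN 1) = lam.comp (hmap k ψN 1) := by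
      rw [← pairFun_apply, ← pairFun_apply]; exact hw.symm
    haveI hmono : Mono (jN ≫ π) := by
      refine mono_of_ne_zero hX hON hQ _ ?_
      rw [show jN ≫ π = _ from homOf_natural (k := k) e π z]
      exact homOf_ne_zero hX hN hN' e hQ1 hzQ
    obtain ⟨m, hM⟩ := exists_rank_of_isFinLocFree' (KFlat.Sch.isFinLocFree_biprod (isFinLocFree_of_ofRank hG)
      (isFinLocFree_of_ofRank hN₀))
    have hm : m = r + 1 :=
      rank_add (ShortComplex.Splitting.ofHasBinaryBiproduct (kernel π) N₀).shortExact hG hM hN₀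
    subst hm
    obtain ⟨j, hjdef⟩ : ∃ j : kernel π ⊞ N₀ ⟶ F, j = biprod.desc (kernel.ι π) jN := ⟨_, rfl⟩
    haveI : Mono j := by
      rw [hjdef]
      refine Preadditive.mono_of_cancel_zero _ fun {A} t ht => ?_
      have h2 : t ≫ biprod.snd = 0 := by
        rw [← cancel_mono (jN ≫ π), zero_comp]
        have := congrArg (· ≫ π) ht
        rw [biprod.desc_eq] at this
        simpa using this
      have h1 : t ≫ biprod.fst = 0 := by
        rw [← cancel_mono (kernel.ι π), zero_comp]
        rw [biprod.desc_eq, Preadditive.comp_add, ← Category.assoc, ← Category.assoc, h2, zero_comp, add_zero] at ht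
        exact ht
      exact biprod.hom_ext _ _ (by rw [h1, zero_comp]) (by rw [h2, zero_comp])
    refine hW.exists_of_agree hX hF hM j (biprod.desc φG ψN) μ ?_
    rw [hjdef]
    rw [biprod.desc_eq, biprod.desc_eq, hmap_add', hmap_add', hmap_comp', hmap_comp', hmap_comp', hmap_comp']
    refine LinearMap.ext fun x => ?_
    show μ (hmap k (kernel.ι π) 1 (hmap k biprod.fst 1 x) + hmap k jN 1 (hmap k biprod.snd 1 x)) =
      lam (hmap k φG 1 (hmap k biprod.fst 1 x) + hmap k ψN 1 (hmap k biprod.snd 1 x))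
    rw [map_add, map_add]
    exact congrArg₂ (· + ·) (LinearMap.congr_fun hφG _) (LinearMap.congr_fun hagree _)

include h0 in
/-- Serre duality for invertible modules. -/
theorem IsDualizing.finrank_h1 (hbig : HasBigDeg k X) (hW : IsDualizing k W lam) {L L' : X.Modules}
    (hL : PicF.IsInvertible L) (hL' : PicF.IsInvertible L')
    (e : CohB1.tensorMod L' L ≅ Coh.structureModule X) :
    Module.finrank k (Coh.HH X L 1) = Module.finrank k (Coh.HH X (CohB1.tensorMod W L') 0) := by
  haveI := hX.integral; haveI := hX.like.noetherian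
  have hON := isInvertible_tensor (PicLoc.isInvertible_structureModule X) hL
  have hinj := hW.injective_pairFun hX hL hL' e
  have hsurj : Function.Surjective (pairFun k e W lam) := fun μ => by
    obtain ⟨φ, hφ⟩ := hW.exists_hom hX h0 hbig ((isInvertible_iff_isFinLocFreeOfRank_one _).1 hON) μ
    haveI := isEquivalence_tensorR' hL e
    let ψ : CohB1.tensorMod (Coh.structureModule X) L ⟶ CohB1.tensorMod (CohB1.tensorMod W L') L :=
      φ ≫ (untwist e W).inv
    let p : Coh.structureModule X ⟶ CohB1.tensorMod W L' := (tensorR L).preimage ψ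
    refine ⟨(hh0 _).symm (p.app ⊤ (one ⊤)), ?_⟩
    have hp : secHom (hh0 (CohB1.tensorMod W L') ((hh0 _).symm (p.app ⊤ (one ⊤)))) = p := by
      rw [AddEquiv.apply_symm_apply]
      exact unit_hom_ext (secHom_app_one _)
    rw [pairFun_apply, hφ, homOf, hp, show tensorMap p (𝟙 L) = ψ from (tensorR L).map_preimage ψ,
      Category.assoc, Iso.inv_hom_id, Category.comp_id]
  rw [← (hequiv k (tensorLUnit L) 1).finrank_eq, ← Subspace.dual_finrank_eq]
  exact (LinearEquiv.ofBijective (pairFun k e W lam) ⟨hinj, hsurj⟩).finrank_eq.symm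

include h0 in
theorem IsDualizing.invariants (hbig : HasBigDeg k X) (hW : IsDualizing k W lam) :
    Module.finrank k (Coh.HH X W 0) = Curv2.genus k X ∧ Module.finrank k (Coh.HH X W 1) = 1 ∧
      Curv2.deg k X W 1 = 2 * (Curv2.genus k X : ℤ) - 2 := by
  haveI := hX.integral; haveI := hX.like.noetherian
  obtain ⟨W', hW', ⟨eW⟩⟩ := exists_inverse hW.inv
  have hW1 := (isInvertible_iff_isFinLocFreeOfRank_one W).1 hW.inv
  have h1 : Module.finrank k (Coh.HH X W 1) = 1 := by
    rw [hW.finrank_h1 hX h0 hbig hW.inv hW' (tensorComm _ _ ≪≫ eW), (hequiv k eW 0).finrank_eq, h0]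
  have h2 : Curv2.genus k X = Module.finrank k (Coh.HH X W 0) := by
    rw [Curv2.genus, hW.finrank_h1 hX h0 hbig (PicLoc.isInvertible_structureModule X)
      (PicLoc.isInvertible_structureModule X) (tensorLUnit _), (hequiv k (tensorRUnit W) 0).finrank_eq]
  have hrr := hX.like.rr (isCoh_of_ofRank hW1)
  rw [h0, h1, ← h2] at hrr
  exact ⟨h2.symm, h1, by omega⟩

end Groth.Agent.VB17
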