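import Groth.Agent.Lib.VB17.Line
import Groth.Agent.Lib.VB17.Slope
import Groth.Agent.Lib.Curve17.Basic

/-!
# Twisting vector bundles down by a point; sections of semistable bundles
-/

set_option linter.style.haveILetI false
set_option autoImplicit false
set_option maxHeartbeats 800000

universe u

open CategoryTheory TopologicalSpace CategoryTheory.Limits AlgebraicGeometry

namespace Groth.Agent.VB17

open Groth.Agent.M1 Groth.Agent.M2 Groth.Agent.CurveCoh17

variable {k : Type u} [Field k] {X : Scheme.{u}} [X.Over (Spec (CommRingCat.of k))] {x : X}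

attribute [local instance] stalkMod Curv2.resAlgebra

/-- `I_x ⊗ E → O ⊗ E → O_x ⊗ E`. -/
noncomputable abbrev twistSC (hx : IsClosed ({x} : Set X)) (E : X.Modules) : ShortComplex X.Modules :=
  (ShortComplex.mk (ClSub.idealModι (Scheme.IdealSheafData.vanishingIdeal (⟨{x}, hx⟩ : Closeds X)))
    (ClSub.toSubscheme (Scheme.IdealSheafData.vanishingIdeal (⟨{x}, hx⟩ : Closeds X)))
    (kernel.condition _)).map (tensorR E)

theorem twistSC_shortExact (hx : IsClosed ({x} : Set X)) {r : ℕ} {E : X.Modules}
    (hE : FlatMod.IsFinLocFreeOfRank r E) : (twistSC hx E).ShortExact :=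
  shortExact_tensorR (shortExact_idealMod _) E fun y => Module.Flat.of_linearEquiv (nonempty_stalk_equiv hE y).some

theorem finrank_twistSC₃ (hX : CurveLike k X) (hx : IsClosed ({x} : Set X)) {r : ℕ} {E : X.Modules}
    (hE : FlatMod.IsFinLocFreeOfRank r E) :
    Module.Finite k (Coh.HH X (twistSC hx E).X₃ 0) ∧
      Module.finrank k (Coh.HH X (twistSC hx E).X₃ 0) = r * Module.finrank k (X.residueField x) := by
  haveI := hX.noetherian
  have hfin := hX.fin _ (isCoh_quotMod (Scheme.IdealSheafData.vanishingIdeal (⟨{x}, hx⟩ : Closeds X))) 0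
  refine ⟨(suppIn_quotMod_point hx).finite_tensor hfin E (nonempty_stalk_equiv hE), ?_⟩
  rw [← finrank_quotMod_point (k := k) hx]
  exact (suppIn_quotMod_point hx).finrank_tensor hfin E (nonempty_stalk_equiv hE)

/-- `h⁰(E) ≤ h⁰(E(-x)) + r [κ(x) : k]`. -/
theorem h0_le_twist_add (hX : CurveLike k X) (hx : IsClosed ({x} : Set X)) {r : ℕ} {E : X.Modules}
    (hE : FlatMod.IsFinLocFreeOfRank r E) :
    Module.finrank k (Coh.HH X E 0) ≤ Module.finrank k (Coh.HH X (CohB1.tensorMod E
      (ClSub.idealMod (Scheme.IdealSheafData.vanishingIdeal (⟨{x}, hx⟩ : Closeds X)))) 0) +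
      r * Module.finrank k (X.residueField x) := by
  obtain ⟨hf3, h3⟩ := finrank_twistSC₃ (k := k) hX hx hE
  haveI := hf3
  haveI : Module.Finite k (Coh.HH X (twistSC hx E).X₂ 0) :=
    haveI := hX.fin E (isCoh_of_ofRank hE) 0
    Module.Finite.equiv (hequiv k (tensorLUnit E) 0).symm
  have h := finrank_eq_range_add_range _ _ (exact_hmap_hmap k (twistSC_shortExact hx hE) 0)
  rw [LinearMap.finrank_range_of_inj (hmap_f_injective k (twistSC_shortExact hx hE))] at h
  have hle := Submodule.finrank_le (LinearMap.range (hmap k (twistSC hx E).g 0))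
  rw [h3] at hle
  have e1 : Module.finrank k (Coh.HH X (twistSC hx E).X₂ 0) = Module.finrank k (Coh.HH X E 0) :=
    (hequiv k (tensorLUnit E) 0).finrank_eq
  have e2 : Module.finrank k (Coh.HH X (twistSC hx E).X₁ 0) = Module.finrank k (Coh.HH X (CohB1.tensorMod E
      (ClSub.idealMod (Scheme.IdealSheafData.vanishingIdeal (⟨{x}, hx⟩ : Closeds X)))) 0) :=
    (hequiv k (tensorComm _ E) 0).finrank_eq
  omega

/-- A `k`-point is closed with residue field `k`. -/
theorem exists_rational_closed [IsSeparated (X ↘ Spec (CommRingCat.of k))] (O : Spec (CommRingCat.of k) ⟶ X)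
    (hO : O ≫ (X ↘ Spec (CommRingCat.of k)) = 𝟙 _) :
    ∃ P : X, IsClosed ({P} : Set X) ∧ Module.finrank k (X.residueField P) = 1 := by
  haveI hci : IsClosedImmersion O := by
    haveI : IsClosedImmersion (O ≫ (X ↘ Spec (CommRingCat.of k))) := by rw [hO]; infer_instance
    exact IsClosedImmersion.of_comp O (X ↘ Spec (CommRingCat.of k))
  obtain ⟨⟨P, φ⟩, hPO⟩ := (Scheme.SpecToEquivOfField k X).symm.surjective O
  have hO' : O = Spec.map φ ≫ X.fromSpecResidueField P := hPO.symm
  have hP : IsClosed ({P} : Set X) := by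
    have h1 : Set.range O = {P} := by
      ext y
      constructor
      · rintro ⟨z, rfl⟩
        rw [hO', Scheme.Hom.comp_apply]
        exact Scheme.fromSpecResidueField_apply P _
      · rintro rfl
        refine ⟨IsLocalRing.closedPoint k, ?_⟩
        rw [hO', Scheme.Hom.comp_apply]
        exact Scheme.fromSpecResidueField_apply _ _
    rw [← h1]
    exact O.isClosedEmbedding.isClosed_range
  refine ⟨P, hP, ?_⟩
  set f := X ↘ Spec (CommRingCat.of k)
  have e : ((Scheme.ΓSpecIso (CommRingCat.of k)).inv ≫ f.appTop ≫ X.presheaf.germ ⊤ P trivial ≫ X.residue P) ≫ φ =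
      𝟙 (CommRingCat.of k) := by
    have hf : Spec.map ((Scheme.ΓSpecIso (CommRingCat.of k)).inv ≫ f.appTop ≫ X.presheaf.germ ⊤ P trivial ≫ X.residue P) =
        X.fromSpecResidueField P ≫ f := by
      apply ext_of_isAffine
      rw [← cancel_mono (Scheme.ΓSpecIso (X.residueField P)).hom, Scheme.ΓSpecIso_naturality,
        Scheme.Hom.comp_appTop, Scheme.fromSpecResidueField, Scheme.Hom.comp_appTop, Scheme.fromSpecStalk_appTop]
      simp only [Category.assoc]
      rw [Scheme.ΓSpecIso_naturality]
      simp
    apply Spec.map_injective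
    rw [Spec.map_comp, hf, Spec.map_id, ← Category.assoc, ← hO', hO]
  have hsurj : Function.Surjective (algebraMap k (X.residueField P)) := fun z => by
    refine ⟨φ z, φ.hom.injective ?_⟩
    exact congrArg (fun g : CommRingCat.of k ⟶ CommRingCat.of k => g (φ z)) e
  exact ((AlgEquiv.ofBijective (Algebra.ofId k (X.residueField P)) ⟨RingHom.injective _, hsurj⟩).toLinearEquiv.finrank_eq).symm.trans
    (Module.finrank_self k)

theorem deg_pointIdeal [IsIntegral X] (hX : CurveLike k X) (hx : IsClosed ({x} : Set X)) :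
    Curv2.deg k X (ClSub.idealMod (Scheme.IdealSheafData.vanishingIdeal (⟨{x}, hx⟩ : Closeds X))) 1 =
      -(Module.finrank k (X.residueField x) : ℤ) := by
  haveI := hX.noetherian
  set Z := Scheme.IdealSheafData.vanishingIdeal (⟨{x}, hx⟩ : Closeds X)
  obtain ⟨-, -, hd⟩ := hX.twist_data (PicLoc.isInvertible_structureModule X) Z (by
    rw [show (Z.support : Set X) = {x} by simp [Z]]
    exact topologicalKrullDim_zero_of_discreteTopology _)
  rw [deg_iso (tensorRUnit _), deg_structureModule, finrank_quotMod_point (k := k) hx] at hd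
  simpa using hd

/-- Semistability is stable under twisting by invertible modules. -/
theorem ss_tensor (hX : CurveLike k X) {r : ℕ} {G N : X.Modules} (hG : FlatMod.IsFinLocFreeOfRank r G)
    (hN : PicF.IsInvertible N) (hss : SS k G r) : SS k (CohB1.tensorMod G N) r := by
  intro F r' i hi hr' hF
  haveI := hi
  obtain ⟨N', hN', ⟨e⟩⟩ := exists_inverse hN
  haveI := mono_tensorMap i hN'
  have hN1 := (isInvertible_iff_isFinLocFreeOfRank_one N).1 hN
  have hN1' := (isInvertible_iff_isFinLocFreeOfRank_one N').1 hN'
  have hF' : FlatMod.IsFinLocFreeOfRank r' (CohB1.tensorMod F N') := by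
    simpa using isFinLocFreeOfRank_tensor hF hN1'
  have h := hss (CohB1.tensorMod F N') r' (tensorMap i (𝟙 N') ≫ (untwist e G).hom) inferInstance hr' hF'
  have d1 : Curv2.deg k X (CohB1.tensorMod F N') r' = Curv2.deg k X F r' + r' * Curv2.deg k X N' 1 := by
    simpa using hX.deg_tensor hF hN1'
  have d2 : Curv2.deg k X (CohB1.tensorMod G N) r = Curv2.deg k X G r + r * Curv2.deg k X N 1 := by
    simpa using hX.deg_tensor hG hN1
  rw [d1, hX.deg_of_tensor_iso hN hN' e] at h
  rw [d2]
  linarith

/-- A semistable bundle of negative degree has no sections. -/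
theorem h0_subsingleton_of_ss_neg [IsIntegral X] {r : ℕ} {G : X.Modules} (hG : FlatMod.IsFinLocFreeOfRank r G)
    (hss : SS k G r) (hneg : Curv2.deg k X G r < 0) : Subsingleton (Coh.HH X G 0) := by
  by_contra hne
  rw [not_subsingleton_iff_nontrivial] at hne
  obtain ⟨z, hz⟩ := exists_ne (0 : Coh.HH X G 0)
  haveI : Mono (secHom (hh0 G z)) := (mono_iff_stalk _).2 (injective_stalk_secHom hG (hh0_ne_zero hz))
  have h := hss (Coh.structureModule X) 1 (secHom (hh0 G z)) inferInstance one_pos
    ((isInvertible_iff_isFinLocFreeOfRank_one _).1 (PicLoc.isInvertible_structureModule X))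
  rw [deg_structureModule] at h
  push_cast at h
  linarith

/-- `h⁰(G) ≤ r t` for semistable `G` with `deg G < r t`, given a rational point. -/
theorem h0_le_of_ss [IsIntegral X] (hX : CurveLike k X) (hx : IsClosed ({x} : Set X)) (hI : PicF.IsInvertible
      (ClSub.idealMod (Scheme.IdealSheafData.vanishingIdeal (X := X) (⟨{x}, hx⟩ : Closeds X))))
    (h1 : Module.finrank k (X.residueField x) = 1) :
    ∀ (t : ℕ) {r : ℕ} {G : X.Modules}, FlatMod.IsFinLocFreeOfRank r G → SS k G r →
      Curv2.deg k X G r < r * t → Module.finrank k (Coh.HH X G 0) ≤ r * t := by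
  intro t
  induction t with
  | zero =>
    intro r G hG hss hd
    haveI := h0_subsingleton_of_ss_neg hG hss (by simpa using hd)
    rw [Module.finrank_zero_of_subsingleton (M := Coh.HH X G 0)]
    omega
  | succ t ih =>
    intro r G hG hss hd
    have hI1 := (isInvertible_iff_isFinLocFreeOfRank_one _).1 hI
    have hGI : FlatMod.IsFinLocFreeOfRank r (CohB1.tensorMod G
        (ClSub.idealMod (Scheme.IdealSheafData.vanishingIdeal (⟨{x}, hx⟩ : Closeds X)))) := by
      simpa using isFinLocFreeOfRank_tensor hG hI1
    have d2 : Curv2.deg k X (CohB1.tensorMod G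
        (ClSub.idealMod (Scheme.IdealSheafData.vanishingIdeal (⟨{x}, hx⟩ : Closeds X)))) r =
        Curv2.deg k X G r - r := by
      have h := hX.deg_tensor hG hI1
      rw [deg_pointIdeal hX hx, h1] at h
      simpa [sub_eq_add_neg] using h
    have hle := h0_le_twist_add (k := k) hX hx hG
    have hih := ih hGI (ss_tensor hX hG hI hss) (by rw [d2]; push_cast at hd ⊢; linarith)
    rw [h1, mul_one] at hle
    rw [Nat.mul_succ]
    omega

end Groth.Agent.VB17

namespace Groth.Agent.VB17

open Groth.Agent.M1 Groth.Agent.M2 Groth.Agent.CurveCoh17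

variable {k : Type u} [Field k] [IsAlgClosed k] {X : Scheme.{u}} [X.Over (Spec (CommRingCat.of k))]
  [LocallyOfFiniteType (X ↘ Spec (CommRingCat.of k))]

attribute [local instance] stalkMod Curv2.resAlgebra

/-- A rank two bundle with `h⁰ ≥ 2` and no section vanishing at a point is trivial, so of degree zero. -/
theorem deg_eq_zero_of_no_vanishing (hX : RegCurve k X) (hdim : topologicalKrullDim X = 1)
    (h0 : Module.finrank k (Coh.HH X (Coh.structureModule X) 0) = 1)
    {E : X.Modules} (hE : FlatMod.IsFinLocFreeOfRank 2 E) (h2 : 2 ≤ Module.finrank k (Coh.HH X E 0))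
    (hv : ∀ (P : X) (hP : IsClosed ({P} : Set X)), Subsingleton (Coh.HH X (CohB1.tensorMod E
      (ClSub.idealMod (Scheme.IdealSheafData.vanishingIdeal (⟨{P}, hP⟩ : Closeds X)))) 0)) :
    Curv2.deg k X E 2 = 0 := by
  classical
  haveI := hX.integral
  haveI := hX.like.noetherian
  haveI : JacobsonSpace X := LocallyOfFiniteType.jacobsonSpace (X ↘ Spec (CommRingCat.of k))
  haveI := hX.like.fin E (isCoh_of_ofRank hE) 0
  -- at every closed point evaluation is bijective
  have hev : ∀ (P : X) (hP : IsClosed ({P} : Set X)), Module.finrank k (Coh.HH X E 0) = 2 ∧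
      Function.Surjective (hmap k (twistSC hP E).g 0) := fun P hP => by
    obtain ⟨hf3, h3⟩ := finrank_twistSC₃ (k := k) hX.like hP hE
    haveI := hf3
    rw [finrank_residueField hP, mul_one] at h3
    haveI : Subsingleton (Coh.HH X (twistSC hP E).X₁ 0) :=
      haveI := hv P hP
      (hequiv k (tensorComm (ClSub.idealMod _) E) 0).toEquiv.subsingleton
    have hinj : Function.Injective (hmap k (twistSC hP E).g 0) := by
      rw [injective_iff_map_eq_zero]
      intro w hw
      obtain ⟨a, rfl⟩ := (exact_hmap_hmap k (twistSC_shortExact hP hE) 0 w).1 hw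
      rw [Subsingleton.elim a 0, map_zero]
    haveI : Module.Finite k (Coh.HH X (twistSC hP E).X₂ 0) := Module.Finite.equiv (hequiv k (tensorLUnit E) 0).symm
    have e : Module.finrank k (Coh.HH X (twistSC hP E).X₂ 0) = Module.finrank k (Coh.HH X E 0) :=
      (hequiv k (tensorLUnit E) 0).finrank_eq
    have hle := LinearMap.finrank_le_finrank_of_injective hinj
    refine ⟨by omega, LinearMap.range_eq_top.1 (Submodule.eq_top_of_finrank_eq ?_)⟩
    rw [LinearMap.finrank_range_of_inj hinj]
    omega
  obtain ⟨P₀, -, hP₀⟩ := nonempty_inter_closedPoints (Z := (Set.univ : Set X)) Set.univ_nonempty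
    isClosed_univ.isLocallyClosed
  rw [mem_closedPoints_iff] at hP₀
  let b := Module.finBasisOfFinrankEq k (Coh.HH X E 0) (hev P₀ hP₀).1
  let π : FlatMod.freeMod X 2 ⟶ E := Sigma.desc fun i => secHom (hh0 E (b i))
  have hF := isFinLocFreeOfRank_freeMod X 2
  -- surjective at closed points, by Nakayama
  have hsurj : ∀ (P : X), IsClosed ({P} : Set X) → Function.Surjective (stalkLin π P) := by
    intro P hP
    let N := LinearMap.range (stalkLin π P)
    have hgl : ∀ w : Coh.HH X E 0, (E.presheaf.germ ⊤ P trivial (hh0 E w) : E.presheaf.stalk P) ∈ N := fun w => by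
      have h := congrArg (h0germ k E P) (b.sum_repr w).symm
      rw [map_sum] at h
      change (E.presheaf.germ ⊤ P trivial (hh0 E w) : E.presheaf.stalk P) = _ at h
      rw [h]
      refine Submodule.sum_mem _ fun i _ => ?_
      rw [map_smul]
      refine Submodule.smul_mem N (stalkRingMap k P _) ?_
      refine ⟨stalkLin (Sigma.ι (fun _ : Fin 2 => Coh.structureModule X) i) P
        ((Coh.structureModule X).presheaf.germ ⊤ P trivial (one ⊤)), ?_⟩
      rw [← stalkLin_comp, Sigma.ι_desc, stalkLin_apply, germ_naturality, secHom_app_one]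
      rfl
    obtain ⟨eE⟩ := nonempty_stalk_equiv hE P
    haveI : Module.Finite (X.presheaf.stalk P) (E.presheaf.stalk P) := Module.Finite.equiv eE.symm
    have htop : N ⊔ (IsLocalRing.maximalIdeal (X.presheaf.stalk P)) • (⊤ : Submodule (X.presheaf.stalk P) (E.presheaf.stalk P)) = ⊤ := by
      rw [eq_top_iff]
      intro a _
      let fI : CohB1.tensorMod (ClSub.idealMod (Scheme.IdealSheafData.vanishingIdeal (⟨{P}, hP⟩ : Closeds X))) E ⟶
        CohB1.tensorMod (Coh.structureModule X) E := (twistSC hP E).f
      let gQ : CohB1.tensorMod (Coh.structureModule X) E ⟶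
        CohB1.tensorMod (ClSub.quotMod (Scheme.IdealSheafData.vanishingIdeal (⟨{P}, hP⟩ : Closeds X))) E := (twistSC hP E).g
      let c : (CohB1.tensorMod (Coh.structureModule X) E).presheaf.stalk P := stalkLin (tensorLUnit E).inv P a
      let Q := ClSub.quotMod (Scheme.IdealSheafData.vanishingIdeal (⟨{P}, hP⟩ : Closeds X))
      have hsup := (suppIn_quotMod_point hP).tensor E
      obtain ⟨t, ht⟩ := hsup.exists_section ⊤ fun y => if h : y = P then h ▸ stalkLin gQ P c else 0
      have htP := ht P (Finset.mem_singleton_self P) trivial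
      rw [dif_pos rfl] at htP
      obtain ⟨w, hw⟩ := (hev P hP).2 ((hh0 _).symm t)
      have hw' : stalkLin gQ P ((CohB1.tensorMod (Coh.structureModule X) E).presheaf.germ ⊤ P trivial (hh0 _ w)) =
          stalkLin gQ P c := by
        rw [stalkLin_apply, germ_naturality, ← hh0_hmap (A := k)]
        refine (congrArg (fun z => (CohB1.tensorMod (ClSub.quotMod (Scheme.IdealSheafData.vanishingIdeal (⟨{P}, hP⟩ : Closeds X))) E).presheaf.germ ⊤ P trivial (hh0 _ z)) hw).trans ?_
        exact (congrArg (fun z => (CohB1.tensorMod (ClSub.quotMod (Scheme.IdealSheafData.vanishingIdeal (⟨{P}, hP⟩ : Closeds X))) E).presheaf.germ ⊤ P trivial z) (AddEquiv.apply_symm_apply _ t)).trans htP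
      obtain ⟨q, hq⟩ := (exact_iff_stalk_eq_zero (twistSC hP E)).1 (twistSC_shortExact hP hE).exact P
        (c - (CohB1.tensorMod (Coh.structureModule X) E).presheaf.germ ⊤ P trivial (hh0 _ w))
        (by show stalkLin gQ P _ = 0
            rw [map_sub, hw', sub_self])
      have hm : stalkLin (tensorLUnit E).hom P (stalkLin fI P q) ∈
          (IsLocalRing.maximalIdeal (X.presheaf.stalk P)) • (⊤ : Submodule (X.presheaf.stalk P) (E.presheaf.stalk P)) := by
        rw [← (stalkEquiv (ClSub.idealMod _) E P).symm_apply_apply q]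
        induction stalkEquiv (ClSub.idealMod _) E P q using TensorProduct.induction_on with
        | zero => simp
        | add u v hu hv => simp only [map_add]; exact Submodule.add_mem _ hu hv
        | tmul u v =>
          obtain ⟨r, hr, -⟩ := stalkLin_secHom (one ⊤ : Γ(Coh.structureModule X, (⊤ : X.Opens))) P
            (stalkLin (ClSub.idealModι (Scheme.IdealSheafData.vanishingIdeal (⟨{P}, hP⟩ : Closeds X))) P u)
          have hrm : r ∈ IsLocalRing.maximalIdeal (X.presheaf.stalk P) := by
            by_contra hu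
            rw [IsLocalRing.mem_maximalIdeal, mem_nonunits_iff, not_not] at hu
            obtain ⟨hkill, a₀, ha₀⟩ := quot_point_props hP
            refine ha₀ ?_
            haveI := epi_toSubscheme (Scheme.IdealSheafData.vanishingIdeal (⟨{P}, hP⟩ : Closeds X))
            obtain ⟨o, rfl⟩ := (epi_iff_stalk (ClSub.toSubscheme (Scheme.IdealSheafData.vanishingIdeal (⟨{P}, hP⟩ : Closeds X)))).1 inferInstance P a₀
            obtain ⟨d, hd, -⟩ := stalkLin_secHom (one ⊤ : Γ(Coh.structureModule X, (⊤ : X.Opens))) P o
            show stalkLin _ P o = 0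
            rw [hd, map_smul]
            have hz : stalkLin (ClSub.toSubscheme (Scheme.IdealSheafData.vanishingIdeal (⟨{P}, hP⟩ : Closeds X))) P
                ((Coh.structureModule X).presheaf.germ ⊤ P trivial (one ⊤)) = 0 := by
              have h1 := congrArg (stalkLin (ClSub.toSubscheme (Scheme.IdealSheafData.vanishingIdeal (⟨{P}, hP⟩ : Closeds X))) P) hr
              rw [← stalkLin_comp, show ClSub.idealModι _ ≫ ClSub.toSubscheme _ = 0 from kernel.condition _, map_smul] at h1
              have h0' : stalkLin (0 : ClSub.idealMod (Scheme.IdealSheafData.vanishingIdeal (⟨{P}, hP⟩ : Closeds X)) ⟶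
                  ClSub.quotMod (Scheme.IdealSheafData.vanishingIdeal (⟨{P}, hP⟩ : Closeds X))) P u = 0 := by
                show (stalkAb P).map (0 : ClSub.idealMod _ ⟶ _) u = 0
                rw [Functor.map_zero]; rfl
              rw [h0'] at h1
              exact hu.smul_eq_zero.1 h1.symm
            rw [hz, smul_zero]
          obtain ⟨U, hPU, o, v', ho, hv'⟩ := exists_germ_germ P u v
          have hc : stalkEquiv (Coh.structureModule X) E P (stalkLin fI P
              ((stalkEquiv (ClSub.idealMod _) E P).symm (u ⊗ₜ v))) =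
              stalkEquiv (Coh.structureModule X) E P ((stalkEquiv (Coh.structureModule X) E P).symm
                (r • (((Coh.structureModule X).presheaf.germ ⊤ P trivial (one ⊤) :
                  (Coh.structureModule X).presheaf.stalk P) ⊗ₜ v))) := by
            refine (stalkEquiv_natural (ClSub.idealModι _) E P _).trans ?_
            rw [LinearEquiv.apply_symm_apply, LinearMap.rTensor_tmul, LinearEquiv.apply_symm_apply, hr,
              TensorProduct.smul_tmul']
          rw [(stalkEquiv (Coh.structureModule X) E P).injective hc, map_smul, map_smul]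
          exact Submodule.smul_mem_smul hrm Submodule.mem_top
      refine Submodule.mem_sup.2 ⟨_, hgl ((hequiv k (tensorLUnit E) 0) w), _, hm, ?_⟩
      have hA : (E.presheaf.germ ⊤ P trivial (hh0 E ((hequiv k (tensorLUnit E) 0) w)) : E.presheaf.stalk P) =
          stalkLin (tensorLUnit E).hom P ((CohB1.tensorMod (Coh.structureModule X) E).presheaf.germ ⊤ P trivial (hh0 _ w)) := by
        show (E.presheaf.germ ⊤ P trivial (hh0 E (hmap k (tensorLUnit E).hom 0 w)) : E.presheaf.stalk P) = _
        rw [hh0_hmap, stalkLin_apply, germ_naturality]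
      have hqq : stalkLin fI P q = c - (CohB1.tensorMod (Coh.structureModule X) E).presheaf.germ ⊤ P trivial (hh0 _ w) := hq
      rw [hA, hqq, ← map_add]
      show stalkLin (tensorLUnit E).hom P (_ + (c - _)) = a
      rw [add_sub_cancel]
      show stalkLin (tensorLUnit E).hom P (stalkLin (tensorLUnit E).inv P a) = a
      rw [← stalkLin_comp, Iso.inv_hom_id]
      show (stalkAb P).map (𝟙 E) a = a
      rw [CategoryTheory.Functor.map_id]
      rfl
    rw [← LinearMap.range_eq_top]
    exact top_le_iff.1 (Submodule.le_of_le_smul_of_le_jacobson_bot Module.Finite.fg_top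
      (IsLocalRing.jacobson_eq_maximalIdeal ⊥ bot_ne_top).ge htop.ge)
  -- the kernel has rank zero
  obtain ⟨rK, rI, hK, hI, hsum, hle, hI0, hK0⟩ := exists_image hX.pid hF hE π
  have hrI : 2 ≤ rI := by
    obtain ⟨eI⟩ := nonempty_stalk_equiv hI P₀
    obtain ⟨eE⟩ := nonempty_stalk_equiv hE P₀
    have hs : Function.Surjective (stalkLin (Abelian.image.ι π) P₀) := fun a => by
      obtain ⟨c, rfl⟩ := hsurj P₀ hP₀ a
      exact ⟨stalkLin (Abelian.factorThruImage π) P₀ c, by rw [← stalkLin_comp, Abelian.image.fac]⟩
    haveI : Module.Finite (X.presheaf.stalk P₀) ((Abelian.image π).presheaf.stalk P₀) := Module.Finite.equiv eI.symm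
    have h := LinearMap.finrank_le_finrank_of_surjective (f := stalkLin (Abelian.image.ι π) P₀) hs
    rwa [finrank_stalk hI, finrank_stalk hE] at h
  haveI : Mono π := hK0.1 (by omega)
  haveI : Epi π := (epi_iff_stalk π).2 fun y => by
    by_cases hy : y = genericPoint X
    · subst hy
      exact surjective_stalkLin_genericPoint (nonempty_stalk_equiv hF _) (nonempty_stalk_equiv hE _) π
        ((mono_iff_stalk π).1 inferInstance _)
    · exact hsurj y (Curve17.isClosed_singleton hdim.le hy)
  haveI : IsIso π := isIso_of_mono_of_epi π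
  have hd : Curv2.deg k X (FlatMod.freeMod X 2) 2 = Curv2.deg k X E 2 := deg_iso (asIso π)
  rw [← hd, Curv2.deg, hX.like.euler_freeMod]
  simp

end Groth.Agent.VB17
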