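import Groth.Agent.Lib.VB17.Proper
import Groth.Agent.Lib.VB17.Simple
import Groth.Agent.Lib.RelFPH13.Exact

/-!
# Extensions of coherent and of locally free modules
-/

set_option linter.style.haveILetI false
set_option autoImplicit false

universe u

open CategoryTheory CategoryTheory.Limits AlgebraicGeometry

namespace Groth.Agent.VB17

open Groth.Agent.M1 Groth.Agent.M2 Groth.Agent.CurveCoh17

variable {X : Scheme.{u}}

/-- An extension of coherent modules is coherent. -/
theorem isCoh_extension {S : ShortComplex X.Modules} (hS : S.ShortExact) (h₁ : Coh.IsCoh S.X₁)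
    (h₃ : Coh.IsCoh S.X₃) : Coh.IsCoh S.X₂ := by
  have hQ := isQCoh_of_shortExact hS h₁.1 h₃.1
  haveI := hQ
  haveI := h₃.1
  refine ⟨hQ, isFT_of_finite_sections hQ fun U hU => ⟨?_⟩⟩
  haveI := finite_sections h₁.1 h₁.2 hU
  haveI := finite_sections h₃.1 h₃.2 hU
  refine Submodule.fg_of_fg_map_of_fg_inf_ker (RelFPH13.secMap S.g U) ?_ ?_
  · rw [Submodule.map_top, LinearMap.range_eq_top.2 (RelFPH13.surjective_sections hS hU)]
    exact Module.Finite.fg_top
  · rw [top_inf_eq, LinearMap.exact_iff.1 (RelFPH13.exact_sections hS U), LinearMap.range_eq_map]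
    exact Submodule.FG.map _ Module.Finite.fg_top

variable {k : Type u} [Field k] [X.Over (Spec (CommRingCat.of k))]

/-- On a regular curve an extension of locally free modules is locally free. -/
theorem isFinLocFreeOfRank_extension (hX : RegCurve k X) {S : ShortComplex X.Modules} (hS : S.ShortExact)
    {r₁ r₃ : ℕ} (h₁ : FlatMod.IsFinLocFreeOfRank r₁ S.X₁) (h₃ : FlatMod.IsFinLocFreeOfRank r₃ S.X₃) :
    FlatMod.IsFinLocFreeOfRank (r₁ + r₃) S.X₂ := by
  haveI := hX.integral
  haveI := hX.like.noetherian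
  have hc := isCoh_extension hS (isCoh_of_ofRank h₁) (isCoh_of_ofRank h₃)
  have hlf : FlatMod.IsFinLocFree S.X₂ := (isFinLocFree_iff _).2 ⟨isFP_of_isCoh hc, fun x => by
    haveI := hX.pid x
    haveI := finite_stalk hc.1 hc.2 x
    obtain ⟨e₁⟩ := nonempty_stalk_equiv h₁ x
    obtain ⟨e₃⟩ := nonempty_stalk_equiv h₃ x
    haveI : Module.IsTorsionFree (X.presheaf.stalk x) (S.X₂.presheaf.stalk x) := by
      refine Module.isTorsionFree_iff_smul_eq_zero.2 fun c a hca => or_iff_not_imp_left.2 fun hne => ?_
      have hga : stalkLin S.g x a = 0 := e₃.injective (by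
        have := congrArg (fun b => e₃ (stalkLin S.g x b)) hca
        simp only [map_smul, map_zero] at this
        rw [(smul_eq_zero.1 this).resolve_left hne, map_zero])
      obtain ⟨b₀, hb₀⟩ := (exact_iff_stalk_eq_zero S).1 hS.exact x a hga
      obtain ⟨b, rfl⟩ : ∃ b : S.X₁.presheaf.stalk x, stalkLin S.f x b = a := ⟨b₀, hb₀⟩
      have hb : c • b = 0 := (mono_iff_stalk S.f).1 hS.mono_f x
        ((((stalkLin S.f x).map_smul c b).trans hca).trans (map_zero (stalkLin S.f x)).symm)
      have := congrArg e₁ hb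
      rw [map_smul, map_zero] at this
      have hb0 : b = 0 := e₁.injective (by rw [(smul_eq_zero.1 this).resolve_left hne, map_zero])
      rw [hb0]
      exact map_zero _
    exact Module.free_of_finite_type_torsion_free'⟩
  obtain ⟨n, hn⟩ := exists_rank_of_isFinLocFree hlf
  rwa [rank_add hS h₁ hn h₃] at hn

end Groth.Agent.VB17
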