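import Groth.Agent.Lib.VB17.Duality
import Groth.Agent.Lib.VB17.Proper
import Groth.Agent.Lib.CurveCoh17.HZero

/-!
# Serre duality on a smooth proper curve over an algebraically closed field
-/

set_option linter.style.haveILetI false
set_option autoImplicit false

universe u

open CategoryTheory CategoryTheory.Limits AlgebraicGeometry Groth.Agent.CurveCoh17

namespace Groth.Agent.VB17

variable {k : Type u} [Field k] [IsAlgClosed k] {X : Scheme.{u}} [X.Over (Spec (CommRingCat.of k))]

theorem setup [IsIntegral X] [IsProper (X ↘ Spec (CommRingCat.of k))] [Smooth (X ↘ Spec (CommRingCat.of k))]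
    (hdim : topologicalKrullDim X = 1) :
    RegCurve k X ∧ Module.finrank k (Coh.HH X (Coh.structureModule X) 0) = 1 ∧ HasBigDeg k X := by
  have hX := regCurve' (k := k) hdim
  exact ⟨hX, hX.like.h0_eq_one, hasBigDeg_of_isAlgClosed hX.like hdim (fun x => SmoothReg17.isRegularLocalRing_stalk (X ↘ Spec (CommRingCat.of k)) x)⟩

theorem exists_dual [IsIntegral X] [IsProper (X ↘ Spec (CommRingCat.of k))] [Smooth (X ↘ Spec (CommRingCat.of k))]
    (hdim : topologicalKrullDim X = 1) :
    ∃ (W : X.Modules) (lam : Module.Dual k (Coh.HH X W 1)), IsDualizing k W lam :=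
  exists_isDualizing (regCurve' (k := k) hdim) (setup (k := k) hdim).2.1 (setup (k := k) hdim).2.2

end Groth.Agent.VB17
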