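import Groth.Agent.Lib.VB17.Pair
import Groth.Agent.Lib.VB17.Saturate
import Groth.Agent.Lib.VB17.Proper

/-!
# Invariant submodules of pairs: saturation, preimages, maximal slope
-/

set_option linter.style.haveILetI false
set_option autoImplicit false
set_option maxHeartbeats 800000

universe u

open CategoryTheory TopologicalSpace CategoryTheory.Limits AlgebraicGeometry

namespace Groth.Agent.VB17

open Groth.Agent.M1 Groth.Agent.M2 Groth.Agent.CurveCoh17

variable {X : Scheme.{u}} {L : X.Modules}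

/-- Invariance of a submodule under a twisted endomorphism. -/
def Inv {E G : X.Modules} (φ : E ⟶ CohB1.tensorMod E L) (j : G ⟶ E) : Prop :=
  ∃ χ : G ⟶ CohB1.tensorMod G L, χ ≫ tensorMap j (𝟙 L) = j ≫ φ

theorem inv_id {E : X.Modules} (φ : E ⟶ CohB1.tensorMod E L) : Inv φ (𝟙 E) :=
  ⟨φ, by rw [Category.id_comp, show tensorMap (𝟙 E) (𝟙 L) = 𝟙 _ from (tensorR L).map_id E, Category.comp_id]⟩

theorem inv_comp {E F G : X.Modules} {φ : E ⟶ CohB1.tensorMod E L} {ψ : F ⟶ CohB1.tensorMod F L} {i : F ⟶ E}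
    (hi : ψ ≫ tensorMap i (𝟙 L) = i ≫ φ) {j : G ⟶ F} (hj : Inv ψ j) : Inv φ (j ≫ i) := by
  obtain ⟨χ, hχ⟩ := hj
  refine ⟨χ, ?_⟩
  have h : tensorMap (j ≫ i) (𝟙 L) = tensorMap j (𝟙 L) ≫ tensorMap i (𝟙 L) := (tensorR L).map_comp j i
  rw [h, ← Category.assoc, hχ, Category.assoc, hi, Category.assoc]

/-- The twisted endomorphism of the quotient by an invariant submodule. -/
theorem exists_quotient {E G : X.Modules} {φ : E ⟶ CohB1.tensorMod E L} {i : G ⟶ E} (hi : Inv φ i) :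
    ∃ φ' : cokernel i ⟶ CohB1.tensorMod (cokernel i) L,
      cokernel.π i ≫ φ' = φ ≫ tensorMap (cokernel.π i) (𝟙 L) := by
  obtain ⟨χ, hχ⟩ := hi
  refine ⟨cokernel.desc i (φ ≫ tensorMap (cokernel.π i) (𝟙 L)) ?_, cokernel.π_desc _ _ _⟩
  rw [← Category.assoc, ← hχ, Category.assoc]
  have h : tensorMap i (𝟙 L) ≫ tensorMap (cokernel.π i) (𝟙 L) = 0 :=
    ((tensorR L).map_comp i (cokernel.π i)).symm.trans (by rw [cokernel.condition, Functor.map_zero]; rfl)
  rw [h, comp_zero]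

variable {k : Type u} [Field k] [X.Over (Spec (CommRingCat.of k))]

/-- The preimage of a locally free submodule of a quotient, as a fibre product. -/
theorem preimage_data (hX : RegCurve k X) {r r' s : ℕ} {E G Q : X.Modules} (hE : FlatMod.IsFinLocFreeOfRank r E)
    (hG : FlatMod.IsFinLocFreeOfRank r' G) (i : G ⟶ E) [Mono i] (hQ : FlatMod.IsFinLocFreeOfRank s Q)
    (j : Q ⟶ cokernel i) [Mono j] :
    FlatMod.IsFinLocFreeOfRank (r' + s) (pullback (cokernel.π i) j) ∧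
      Curv2.deg k X (pullback (cokernel.π i) j) (r' + s) = Curv2.deg k X G r' + Curv2.deg k X Q s := by
  haveI := hX.like.noetherian
  haveI := hX.integral
  have hcQ : Coh.IsCoh (cokernel i) := M1.isCoh_cokernel (isCoh_of_ofRank hG).1 (isCoh_of_ofRank hE) i
  obtain ⟨rP, -, hP⟩ := exists_rank_of_mono hX.pid hE
    (isCoh_fibreProd (isCoh_of_ofRank hE) (isCoh_of_ofRank hQ) hcQ.1 (cokernel.π i) j) (pullback.fst _ _)
  let T : ShortComplex X.Modules :=
    ShortComplex.mk (pullback.lift i (0 : G ⟶ Q) (by rw [cokernel.condition, zero_comp]) : G ⟶ pullback (cokernel.π i) j)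
      (pullback.snd _ _) (pullback.lift_snd _ _ _)
  haveI : Mono T.f := by
    haveI : Mono (T.f ≫ pullback.fst (cokernel.π i) j) := by
      rw [show T.f ≫ pullback.fst (cokernel.π i) j = i from pullback.lift_fst _ _ _]; infer_instance
    exact mono_of_mono T.f (pullback.fst (cokernel.π i) j)
  have hker := (ShortComplex.exact_of_g_is_cokernel (ShortComplex.mk i (cokernel.π i) (cokernel.condition i))
    (cokernelIsCokernel i))
  have hT : T.ShortExact :=
    { exact := ShortComplex.exact_of_f_is_kernel _ <| KernelFork.IsLimit.ofι' _ _ fun {A} b hb =>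
        ⟨hker.lift (b ≫ pullback.fst _ _) (by
            dsimp only
            rw [Category.assoc, pullback.condition, ← Category.assoc]
            exact (congrArg (· ≫ j) hb).trans zero_comp), by
          apply pullback.hom_ext
          · rw [Category.assoc, pullback.lift_fst]; exact hker.lift_f _ _
          · rw [Category.assoc, pullback.lift_snd, comp_zero]; exact hb.symm⟩
      mono_f := inferInstance
      epi_g := Abelian.epi_pullback_of_epi_f _ _ }
  obtain rfl := rank_add hT hG hP hQ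
  exact ⟨hP, deg_add hX.like hT hG hP hQ⟩

omit [X.Over (Spec (CommRingCat.of k))] in
/-- Preimages of invariant submodules are invariant. -/
theorem inv_preimage (hL : PicF.IsInvertible L) {E Q G : X.Modules} {φ : E ⟶ CohB1.tensorMod E L}
    {φ' : Q ⟶ CohB1.tensorMod Q L} (p : E ⟶ Q) (hp : p ≫ φ' = φ ≫ tensorMap p (𝟙 L)) {j : G ⟶ Q} (hj : Inv φ' j) :
    Inv φ (pullback.fst p j) := by
  haveI := isEquivalence_tensorR hL
  obtain ⟨χ, hχ⟩ := hj
  have hpb := (IsPullback.of_hasPullback p j).map (tensorR L)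
  have hw : (pullback.fst p j ≫ φ) ≫ tensorMap p (𝟙 L) = (pullback.snd p j ≫ χ) ≫ tensorMap j (𝟙 L) := by
    rw [Category.assoc, Category.assoc]
    refine (congrArg (pullback.fst p j ≫ ·) hp.symm).trans ?_
    refine Eq.trans ?_ (congrArg (pullback.snd p j ≫ ·) hχ).symm
    rw [← Category.assoc, pullback.condition, Category.assoc]
  exact ⟨hpb.lift _ _ hw, hpb.lift_fst _ _ hw⟩

/-- A submodule lies in a saturated one of the same rank. -/
theorem exists_saturation (hX : RegCurve k X) {r r' : ℕ} {E G : X.Modules} (hE : FlatMod.IsFinLocFreeOfRank r E)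
    (hG : FlatMod.IsFinLocFreeOfRank r' G) (i : G ⟶ E) [Mono i] :
    ∃ (P : X.Modules) (j : P ⟶ E) (u : G ⟶ P), Mono j ∧ FlatMod.IsFinLocFreeOfRank r' P ∧ u ≫ j = i ∧
      FlatMod.IsFinLocFree (cokernel j) ∧ Curv2.deg k X G r' ≤ Curv2.deg k X P r' ∧
      (Curv2.deg k X P r' ≤ Curv2.deg k X G r' → IsIso u) := by
  obtain ⟨N, hN⟩ := deg_sub_bdd hX hE
  let Q : ℤ → Prop := fun d => ∃ (P : X.Modules) (j : P ⟶ E) (u : G ⟶ P), Mono j ∧
    FlatMod.IsFinLocFreeOfRank r' P ∧ u ≫ j = i ∧ Curv2.deg k X P r' = d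
  obtain ⟨d, ⟨P, j, u, hj, hP, hu, rfl⟩, hmax⟩ := Int.exists_greatest_of_bdd (P := Q)
    ⟨N, fun z hz => by obtain ⟨P, j, u, hj, hP, -, rfl⟩ := hz; exact hN P r' j hj hP⟩
    ⟨_, G, i, 𝟙 G, inferInstance, hG, Category.id_comp _, rfl⟩
  haveI := hj
  haveI : Mono (u ≫ j) := hu ▸ inferInstance
  haveI : Mono u := mono_of_mono u j
  haveI := hX.integral
  refine ⟨P, j, u, hj, hP, hu, isFinLocFree_cokernel_factor hX hE hP j fun P' j' u' hj' hP' hu' => ?_,
    (deg_le_of_mono hX.like hG hP u).1, fun h => (deg_le_of_mono hX.like hG hP u).2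
      (le_antisymm (deg_le_of_mono hX.like hG hP u).1 h)⟩
  exact hmax _ ⟨P', j', u ≫ u', hj', hP', by rw [Category.assoc, hu', hu], rfl⟩

/-- The saturation of an invariant submodule is invariant. -/
theorem inv_saturation (hX : RegCurve k X) (hL : PicF.IsInvertible L) {r r' : ℕ} {E G P : X.Modules}
    (hE : FlatMod.IsFinLocFreeOfRank r E) {φ : E ⟶ CohB1.tensorMod E L} (hG : FlatMod.IsFinLocFreeOfRank r' G)
    (hP : FlatMod.IsFinLocFreeOfRank r' P) {j : P ⟶ E} [Mono j] {u : G ⟶ P} [Mono u]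
    (hco : FlatMod.IsFinLocFree (cokernel j)) (hinv : Inv φ (u ≫ j)) : Inv φ j := by
  haveI := hX.integral; haveI := hX.like.noetherian
  obtain ⟨χ, hχ⟩ := hinv
  obtain ⟨s, hQ⟩ := exists_rank_of_isFinLocFree hco
  have hQL : FlatMod.IsFinLocFreeOfRank s (CohB1.tensorMod (cokernel j) L) := by
    simpa using isFinLocFreeOfRank_tensor hQ ((isInvertible_iff_isFinLocFreeOfRank_one L).1 hL)
  let S : ShortComplex X.Modules := ShortComplex.mk j (cokernel.π j) (cokernel.condition j)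
  have hS : S.ShortExact := { exact := ShortComplex.exact_of_g_is_cokernel _ (cokernelIsCokernel j) }
  have hST := shortExact_tensorR hS L (flat_stalk hL)
  let f : P ⟶ CohB1.tensorMod (cokernel j) L := j ≫ φ ≫ tensorMap (cokernel.π j) (𝟙 L)
  have huf : u ≫ f = 0 := by
    show u ≫ j ≫ φ ≫ _ = 0
    rw [← Category.assoc, ← Category.assoc, ← hχ, Category.assoc]
    have h : tensorMap (u ≫ j) (𝟙 L) ≫ tensorMap (cokernel.π j) (𝟙 L) = 0 :=
      ((tensorR L).map_comp (u ≫ j) (cokernel.π j)).symm.trans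
        (by rw [Category.assoc, cokernel.condition, comp_zero, Functor.map_zero]; rfl)
    rw [h, comp_zero]
  have hf : f = 0 := by
    obtain ⟨rK, rI, -, -, hK, -, -, -, -, hr, -, h0, -, -, -, -⟩ := map_data hX hP hQL f
    let l : G ⟶ kernel f := kernel.lift f u huf
    haveI : Mono (l ≫ kernel.ι f) := by rw [kernel.lift_ι]; infer_instance
    haveI : Mono l := mono_of_mono l (kernel.ι f)
    have := rank_le_of_mono hX hK hG l
    exact h0.1 (by omega)
  have hzero : (j ≫ φ) ≫ (S.map (tensorR L)).g = 0 := (Category.assoc j φ (tensorMap (cokernel.π j) (𝟙 L))).trans hf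
  haveI := hST.mono_f
  exact ⟨hST.exact.lift (j ≫ φ) hzero, hST.exact.lift_f _ hzero⟩

/-- An invariant submodule of maximal slope and, among those, of maximal rank. -/
theorem exists_max_inv (hX : RegCurve k X) {r : ℕ} {E : X.Modules} (hr : 0 < r) (hE : FlatMod.IsFinLocFreeOfRank r E)
    (φ : E ⟶ CohB1.tensorMod E L) :
    ∃ (E₁ : X.Modules) (r₁ : ℕ) (i₁ : E₁ ⟶ E), Mono i₁ ∧ 0 < r₁ ∧ FlatMod.IsFinLocFreeOfRank r₁ E₁ ∧ Inv φ i₁ ∧
      (∀ (G : X.Modules) (r' : ℕ) (j : G ⟶ E), Mono j → 0 < r' → FlatMod.IsFinLocFreeOfRank r' G → Inv φ j →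
        Curv2.deg k X G r' * (r₁ : ℤ) ≤ Curv2.deg k X E₁ r₁ * (r' : ℤ)) ∧
      (∀ (G : X.Modules) (r' : ℕ) (j : G ⟶ E), Mono j → 0 < r' → FlatMod.IsFinLocFreeOfRank r' G → Inv φ j →
        Curv2.deg k X G r' * (r₁ : ℤ) = Curv2.deg k X E₁ r₁ * (r' : ℤ) → r' ≤ r₁) := by
  classical
  obtain ⟨N, hN⟩ := deg_sub_bdd hX hE
  let Q : ℕ → ℤ → Prop := fun r' d => 0 < r' ∧ ∃ (G : X.Modules) (j : G ⟶ E), Mono j ∧
    FlatMod.IsFinLocFreeOfRank r' G ∧ Inv φ j ∧ Curv2.deg k X G r' = d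
  have key : ∀ r', (∃ d, Q r' d) → ∃ d, Q r' d ∧ ∀ e, Q r' e → e ≤ d := fun r' hne => by
    obtain ⟨d, hd, hmax⟩ := Int.exists_greatest_of_bdd (P := Q r')
      ⟨N, fun z hz => by obtain ⟨-, G, j, hj, hG, -, rfl⟩ := hz; exact hN G r' j hj hG⟩ hne
    exact ⟨d, hd, hmax⟩
  have hmemr : ∀ r' d, Q r' d → r' ∈ Finset.range (r + 1) := fun r' d ⟨_, G, j, hj, hG, _, _⟩ =>
    Finset.mem_range.2 (Nat.lt_succ_of_le (haveI := hj; rank_le_of_mono hX hE hG j))
  let S : Finset ℕ := (Finset.range (r + 1)).filter fun r' => ∃ d, Q r' d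
  let D : ℕ → ℤ := fun r' => if h : ∃ d, Q r' d then (key r' h).choose else 0
  have hD : ∀ r', (∃ d, Q r' d) → Q r' (D r') ∧ ∀ e, Q r' e → e ≤ D r' := fun r' h => by
    simp only [D, dif_pos h]; exact (key r' h).choose_spec
  have hSne : S.Nonempty := ⟨r, Finset.mem_filter.2 ⟨Finset.self_mem_range_succ r,
    Curv2.deg k X E r, hr, E, 𝟙 E, inferInstance, hE, inv_id φ, rfl⟩⟩
  let μ : ℕ → ℚ := fun r' => (D r' : ℚ) / r'
  obtain ⟨a, haS, ha⟩ := S.exists_max_image μ hSne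
  let T := S.filter fun r' => μ r' = μ a
  obtain ⟨r₁, hr₁T, hr₁⟩ := T.exists_max_image id ⟨a, Finset.mem_filter.2 ⟨haS, rfl⟩⟩
  obtain ⟨hr₁S, hμ⟩ := Finset.mem_filter.1 hr₁T
  obtain ⟨⟨hpos, E₁, i₁, hi₁, hE₁, hinv₁, hdE₁⟩, -⟩ := hD r₁ (Finset.mem_filter.1 hr₁S).2
  have hq1 : (0 : ℚ) < r₁ := by exact_mod_cast hpos
  have main : ∀ (G : X.Modules) (r' : ℕ) (j : G ⟶ E), Mono j → 0 < r' → FlatMod.IsFinLocFreeOfRank r' G → Inv φ j →
      Curv2.deg k X G r' * (r₁ : ℤ) ≤ Curv2.deg k X E₁ r₁ * (r' : ℤ) ∧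
      (Curv2.deg k X G r' * (r₁ : ℤ) = Curv2.deg k X E₁ r₁ * (r' : ℤ) → r' ≤ r₁) := by
    intro G r' j hj h0 hG hInv
    have hQ : Q r' (Curv2.deg k X G r') := ⟨h0, G, j, hj, hG, hInv, rfl⟩
    have hle := (hD r' ⟨_, hQ⟩).2 _ hQ
    have hS' : r' ∈ S := Finset.mem_filter.2 ⟨hmemr _ _ hQ, _, hQ⟩
    have hq : (0 : ℚ) < r' := by exact_mod_cast h0
    have h1 : (D r' : ℚ) / r' ≤ (D r₁ : ℚ) / r₁ := (ha r' hS').trans_eq hμ.symm
    rw [hdE₁]
    have h2 : (D r' : ℚ) * r₁ ≤ (D r₁ : ℚ) * r' := (div_le_div_iff₀ hq hq1).1 h1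
    have h3 : D r' * (r₁ : ℤ) ≤ D r₁ * (r' : ℤ) := by exact_mod_cast h2
    have h4 : Curv2.deg k X G r' * (r₁ : ℤ) ≤ D r' * (r₁ : ℤ) :=
      mul_le_mul_of_nonneg_right hle (by positivity)
    refine ⟨h4.trans h3, fun heq => hr₁ r' (Finset.mem_filter.2 ⟨hS', ?_⟩)⟩
    have h5 : D r' * (r₁ : ℤ) = D r₁ * (r' : ℤ) := le_antisymm h3 (heq ▸ h4)
    rw [← hμ]
    exact (div_eq_div_iff hq.ne' hq1.ne').2 (by exact_mod_cast h5)
  exact ⟨E₁, r₁, i₁, hi₁, hpos, hE₁, hinv₁, fun G r' j hj h0 hG h => (main G r' j hj h0 hG h).1,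
    fun G r' j hj h0 hG h => (main G r' j hj h0 hG h).2⟩

/-- A saturated invariant submodule of the slope of a semistable pair has a semistable quotient. -/
theorem quotient_semistable (hX : RegCurve k X) (hL : PicF.IsInvertible L) {r r' : ℕ} {E F : X.Modules}
    (hr : 0 < r) (hE : FlatMod.IsFinLocFreeOfRank r E) (hF : FlatMod.IsFinLocFreeOfRank r' F)
    {φ : E ⟶ CohB1.tensorMod E L} (i : F ⟶ E) [Mono i]
    (hss : ∀ (G : X.Modules) (s : ℕ) (j : G ⟶ E), Mono j → 0 < s → FlatMod.IsFinLocFreeOfRank s G → Inv φ j →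
      Curv2.deg k X G s * (r : ℤ) ≤ Curv2.deg k X E r * (s : ℤ))
    (hi : Inv φ i) (hslope : Curv2.deg k X F r' * (r : ℤ) = Curv2.deg k X E r * (r' : ℤ)) :
    FlatMod.IsFinLocFreeOfRank (r - r') (cokernel i) ∧
      Curv2.deg k X (cokernel i) (r - r') * (r : ℤ) = Curv2.deg k X E r * ((r - r' : ℕ) : ℤ) ∧
      ∀ φ' : cokernel i ⟶ CohB1.tensorMod (cokernel i) L,
        cokernel.π i ≫ φ' = φ ≫ tensorMap (cokernel.π i) (𝟙 L) →
        ∀ (G : X.Modules) (s : ℕ) (j : G ⟶ cokernel i), Mono j → 0 < s → FlatMod.IsFinLocFreeOfRank s G → Inv φ' j →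
          Curv2.deg k X G s * ((r - r' : ℕ) : ℤ) ≤ Curv2.deg k X (cokernel i) (r - r') * (s : ℤ) := by
  haveI := hX.integral; haveI := hX.like.noetherian
  have hle := rank_le_of_mono hX hE hF i
  have hrpos : (0 : ℤ) < r := by exact_mod_cast hr
  have hbound : ∀ (P : X.Modules) (j : P ⟶ E), Mono j → FlatMod.IsFinLocFreeOfRank r' P → Inv φ j →
      Curv2.deg k X P r' ≤ Curv2.deg k X F r' := fun P j hj hP hPi => by
    rcases Nat.eq_zero_or_pos r' with h0 | h0
    · subst h0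
      rw [deg_rank_zero hX.like hP, deg_rank_zero hX.like hF]
    · refine le_of_mul_le_mul_right ?_ hrpos
      rw [hslope]
      exact hss P r' j hj h0 hP hPi
  obtain ⟨P, j, u, hj, hP, hu, hco, hd1, hiso⟩ := exists_saturation hX hE hF i
  haveI := hj
  haveI : Mono (u ≫ j) := hu ▸ inferInstance
  haveI : Mono u := mono_of_mono u j
  have hPi : Inv φ j := inv_saturation hX hL hE hF hP hco (hu.symm ▸ hi)
  have hd2 : Curv2.deg k X P r' ≤ Curv2.deg k X F r' := hbound P j hj hP hPi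
  haveI := hiso hd2
  subst hu
  have hfree : FlatMod.IsFinLocFree (cokernel (u ≫ j)) :=
    isFinLocFree_cokernel_factor hX hE hF (u ≫ j) fun P' j' u' hj' hP' hu' => by
      haveI := hj'
      have hPi' : Inv φ (u ≫ j) := hi
      obtain ⟨P'', j'', u'', hj'', hP'', hu'', hco'', hd'', -⟩ := exists_saturation hX hE hP' j'
      haveI := hj''
      haveI : Mono (u' ≫ j') := hu' ▸ inferInstance
      haveI : Mono u' := mono_of_mono u' j'
      haveI : Mono (u'' ≫ j'') := hu'' ▸ inferInstance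
      haveI : Mono u'' := mono_of_mono u'' j''
      have h : Inv φ j'' := inv_saturation hX hL hE (u := u' ≫ u'') hF hP'' hco''
        (by rw [Category.assoc, hu'', hu']; exact hi)
      exact hd''.trans (hbound P'' j'' hj'' hP'' h)
  obtain ⟨s, hs⟩ := exists_rank_of_isFinLocFree hfree
  let S : ShortComplex X.Modules := ShortComplex.mk (u ≫ j) (cokernel.π (u ≫ j)) (cokernel.condition (u ≫ j))
  have hS : S.ShortExact := { exact := ShortComplex.exact_of_g_is_cokernel _ (cokernelIsCokernel (u ≫ j)) }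
  have hrs : r = r' + s := rank_add hS hF hE hs
  obtain rfl : s = r - r' := by omega
  have hd := deg_add hX.like hS hF hE hs
  change Curv2.deg k X E r = Curv2.deg k X F r' + Curv2.deg k X (cokernel (u ≫ j)) (r - r') at hd
  have hcast : (r : ℤ) = r' + ((r - r' : ℕ) : ℤ) := by exact_mod_cast hrs
  have hdQ : Curv2.deg k X (cokernel (u ≫ j)) (r - r') * (r : ℤ) = Curv2.deg k X E r * ((r - r' : ℕ) : ℤ) := by
    rw [show Curv2.deg k X (cokernel (u ≫ j)) (r - r') = Curv2.deg k X E r - Curv2.deg k X F r' by linarith,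
      sub_mul, hslope, show ((r - r' : ℕ) : ℤ) = r - r' by linarith]
    ring
  refine ⟨hs, hdQ, fun φ' hφ' G t l hl ht hG hG' => ?_⟩
  haveI := hl
  obtain ⟨hP1, hP2⟩ := preimage_data hX hE hF (u ≫ j) hG l
  have h := hss _ _ (pullback.fst (cokernel.π (u ≫ j)) l) inferInstance (by omega) hP1 (inv_preimage hL _ hφ' hG')
  rw [hP2] at h
  push_cast at h
  refine le_of_mul_le_mul_right ?_ hrpos
  have h' : Curv2.deg k X G t * (r : ℤ) ≤ Curv2.deg k X E r * (t : ℤ) := by linarith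
  have h'' := mul_le_mul_of_nonneg_right h' (show (0 : ℤ) ≤ ((r - r' : ℕ) : ℤ) by positivity)
  have e := congrArg (· * (t : ℤ)) hdQ
  linarith

end Groth.Agent.VB17
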