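import Groth.Agent.Lib.VB17.Line
import Groth.Agent.Lib.VB17.Simple
import Groth.Agent.Lib.KFlat.FinLocFree

/-!
# Fitting decomposition of endomorphisms of vector bundles on curves
-/

set_option linter.style.haveILetI false
set_option autoImplicit false
set_option maxHeartbeats 800000

universe u

open CategoryTheory CategoryTheory.Limits AlgebraicGeometry

namespace Groth.Agent.VB17

open Groth.Agent.M1 Groth.Agent.M2 Groth.Agent.CurveCoh17

variable {k : Type u} [Field k] {X : Scheme.{u}} [X.Over (Spec (CommRingCat.of k))]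

theorem isZero_of_image_zero {E F : X.Modules} (f : E ⟶ F) (h : IsZero (Abelian.image f)) : f = 0 := by
  rw [← Abelian.image.fac f, h.eq_of_src (Abelian.image.ι f) 0, comp_zero]

/-- An endomorphism of an indecomposable bundle is invertible or nilpotent. -/
theorem isIso_or_nilpotent (hX : RegCurve k X) {r : ℕ} {E : X.Modules} (hE : FlatMod.IsFinLocFreeOfRank r E)
    (hind : ∀ (E₁ E₂ : X.Modules), Nonempty (E ≅ E₁ ⊞ E₂) → IsZero E₁ ∨ IsZero E₂) (f : End E) :
    IsIso (f : E ⟶ E) ∨ IsNilpotent f := by
  classical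
  haveI := hX.integral
  haveI := hX.like.noetherian
  choose rK rI hK hI hsum hle hI0 hK0 using fun n : ℕ => exists_image hX.pid hE hE (f ^ n : End E)
  obtain ⟨N, hN⟩ : ∃ N, ∀ n, rI N ≤ rI n :=
    ⟨Function.argmin rI, fun n => Function.argmin_le rI n⟩
  set g : E ⟶ E := (f ^ N : End E) with hg
  have hgg : (f ^ (N + N) : End E) = g ≫ g := by rw [pow_add]; rfl
  let h : Abelian.image g ⟶ E := Abelian.image.ι g ≫ g
  -- `h` is a monomorphism
  obtain ⟨rKh, rIh, hKh, hIh, hsumh, -, -, hK0h⟩ := exists_image hX.pid (hI N) hE h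
  have hge : rI N ≤ rIh := by
    have hfac : Abelian.factorThruImage g ≫ h = g ≫ g := by
      rw [← Category.assoc, Abelian.image.fac]
    have hmin := hN (N + N)
    -- `image (g ≫ g) ↪ image h`
    obtain ⟨eI⟩ := nonempty_stalk_equiv (hI (N + N)) (genericPoint X)
    obtain ⟨eH⟩ := nonempty_stalk_equiv hIh (genericPoint X)
    haveI : Module.Finite (X.presheaf.stalk (genericPoint X)) ((Abelian.image h).presheaf.stalk (genericPoint X)) :=
      Module.Finite.equiv eH.symm
    have hc : (f ^ (N + N) : End E) ≫ cokernel.π h = 0 := by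
      rw [hgg, ← hfac, Category.assoc, cokernel.condition, comp_zero]
    let j : Abelian.image ((f ^ (N + N) : End E) : E ⟶ E) ⟶ Abelian.image h :=
      kernel.lift _ (Abelian.image.ι _) (by
        rw [← cancel_epi (Abelian.factorThruImage ((f ^ (N + N) : End E) : E ⟶ E)), ← Category.assoc,
          Abelian.image.fac, hc, comp_zero])
    have hj : Mono j := mono_of_mono_fac (kernel.lift_ι _ _ _)
    have := LinearMap.finrank_le_finrank_of_injective (f := stalkLin j (genericPoint X))
      ((mono_iff_stalk j).1 hj _)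
    rw [finrank_stalk (hI (N + N)), finrank_stalk hIh] at this
    omega
  haveI : Mono h := hK0h.1 (by omega)
  let K := kernel g
  let I := Abelian.image g
  let π : K ⊞ I ⟶ E := biprod.desc (kernel.ι g) (Abelian.image.ι g)
  haveI : Mono π := by
    refine Preadditive.mono_of_cancel_zero _ fun {T} t ht => ?_
    have hdec : (t ≫ biprod.fst) ≫ kernel.ι g + (t ≫ biprod.snd) ≫ Abelian.image.ι g = 0 := by
      rw [← ht]
      show _ = t ≫ biprod.desc _ _
      rw [biprod.desc_eq, Preadditive.comp_add, Category.assoc, Category.assoc]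
    have h2 : t ≫ biprod.snd = 0 := by
      rw [← cancel_mono h, zero_comp]
      have := congrArg (· ≫ g) hdec
      simpa [h] using this
    have h1 : t ≫ biprod.fst = 0 := by
      rw [h2, zero_comp, add_zero] at hdec
      rw [← cancel_mono (kernel.ι g), hdec, zero_comp]
    exact biprod.hom_ext _ _ (by rw [h1, zero_comp]) (by rw [h2, zero_comp])
  have hS : (ShortComplex.mk (biprod.inl : K ⟶ K ⊞ I) biprod.snd biprod.inl_snd).ShortExact :=
    (ShortComplex.Splitting.ofHasBinaryBiproduct K I).shortExact
  have hlf := KFlat.Sch.isFinLocFree_biprod (isFinLocFree_of_ofRank (hK N)) (isFinLocFree_of_ofRank (hI N))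
  obtain ⟨rb, -, hb⟩ := exists_rank_of_mono hX.pid hE
    ⟨isFP_isQCoh (isFP_of_isFinLocFree hlf), isFP_isFT (isFP_of_isFinLocFree hlf)⟩ π
  have hrb : rb = rK N + rI N := rank_add hS (hK N) hb (hI N)
  have hrbr : rb = r := by have := hsum N; omega
  subst hrbr
  have hd1 := deg_add hX.like hS (hK N) hb (hI N)
  have hexE : (ShortComplex.mk (kernel.ι g) (Abelian.factorThruImage g)
      (by rw [← cancel_mono (Abelian.image.ι g), Category.assoc, Abelian.image.fac, kernel.condition,
        zero_comp])).ShortExact :=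
    { exact := ShortComplex.exact_of_f_is_kernel _ <| KernelFork.IsLimit.ofι' _ _ fun {A} b hb =>
        ⟨kernel.lift g b (by rw [← Abelian.image.fac g, ← Category.assoc]; exact (congrArg (· ≫ Abelian.image.ι g) hb).trans zero_comp),
          kernel.lift_ι _ _ _⟩ }
  have hd2 := deg_add hX.like hexE (hK N) hE (hI N)
  change Curv2.deg k X (K ⊞ I) rb = Curv2.deg k X K (rK N) + Curv2.deg k X I (rI N) at hd1
  change Curv2.deg k X E rb = Curv2.deg k X K (rK N) + Curv2.deg k X I (rI N) at hd2
  haveI : IsIso π := (deg_le_of_mono hX.like hb hE π).2 (hd1.trans hd2.symm)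
  rcases hind K I ⟨(asIso π).symm⟩ with hz | hz
  · left
    haveI hmg : Mono g := Abelian.mono_of_kernel_ι_eq_zero g (hz.eq_of_src _ _)
    haveI : IsIso g := (deg_le_of_mono hX.like hE hE g).2 rfl
    rcases Nat.eq_zero_or_pos N with hN0 | hN0
    · -- `f⁰ = 1`, so every image has full rank and `f` itself is mono
      have hrN : rK N = 0 := (hK0 N).2 hmg
      have h1 := hN 1
      have hs1 := hsum 1
      have hs := hsum N
      haveI : Mono f := by
        have := (hK0 1).1 (by omega)
        rwa [show (f ^ 1 : End E) = f from pow_one _] at this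
      exact (deg_le_of_mono hX.like hE hE f).2 rfl
    · have hu : IsUnit (f ^ N) := (isUnit_iff_isIso (g : End E)).2 inferInstance
      exact (isUnit_iff_isIso f).1 ((isUnit_pow_iff hN0.ne').1 hu)
  · right
    exact ⟨N, isZero_of_image_zero g hz⟩

/-- A rank `r ≥ 1` bundle is nonzero. -/
theorem not_isZero_of_rank [Nonempty X] {r : ℕ} (hr : 0 < r) {E : X.Modules} (hE : FlatMod.IsFinLocFreeOfRank r E) :
    ¬ IsZero E := fun hz => by
  obtain ⟨x⟩ := (inferInstance : Nonempty X)
  obtain ⟨e⟩ := nonempty_stalk_equiv hE x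
  have h : e.symm 1 = (0 : E.presheaf.stalk x) := by
    have := congrArg (fun f => (stalkAb x).map f (e.symm 1)) (hz.eq_of_src (𝟙 E) 0)
    simp only [CategoryTheory.Functor.map_id, Functor.map_zero, CategoryTheory.id_apply] at this
    exact this.trans rfl
  have h' := congrFun (congrArg e h) ⟨0, hr⟩
  rw [LinearEquiv.apply_symm_apply, map_zero] at h'
  exact one_ne_zero h'

end Groth.Agent.VB17
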