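import Groth.Agent.Lib.VB17.ExtVanish
import Groth.Agent.Lib.VB17.Line
import Groth.Agent.Lib.VB17.TwistBound
import Groth.Agent.Lib.VB17.GlobGen
import Groth.Agent.Lib.VB17.Proper

/-!
# Stable bundles in genus one: Euclid's algorithm on rank and degree
-/

set_option linter.style.haveILetI false
set_option autoImplicit false
set_option maxHeartbeats 800000

universe u

open CategoryTheory TopologicalSpace CategoryTheory.Limits AlgebraicGeometry

namespace Groth.Agent.VB17

open Groth.Agent.M1 Groth.Agent.M2 Groth.Agent.CurveCoh17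

variable {k : Type u} [Field k] {X : Scheme.{u}} [X.Over (Spec (CommRingCat.of k))]

theorem h0_le_of_shortExact (hX : CurveLike k X) {S : ShortComplex X.Modules} (hS : S.ShortExact)
    (h1 : Coh.IsCoh S.X₁) (h2 : Coh.IsCoh S.X₂) (h3 : Coh.IsCoh S.X₃) :
    Module.finrank k (Coh.HH X S.X₂ 0) ≤ Module.finrank k (Coh.HH X S.X₁ 0) + Module.finrank k (Coh.HH X S.X₃ 0) := by
  haveI := hX.fin _ h1 0
  haveI := hX.fin _ h2 0
  haveI := hX.fin _ h3 0
  rw [← LinearMap.finrank_range_add_finrank_ker (hmap k S.g 0), add_comm (Module.finrank k (LinearMap.range _))]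
  refine add_le_add ?_ (Submodule.finrank_le _)
  rw [show LinearMap.ker (hmap k S.g 0) = LinearMap.range (hmap k S.f 0) from
    LinearMap.exact_iff.1 (exact_hmap_hmap k hS 0)]
  exact LinearMap.finrank_range_le _

theorem h0_rank_zero [IsIntegral X] {E : X.Modules} (hE : FlatMod.IsFinLocFreeOfRank 0 E) :
    Module.finrank k (Coh.HH X E 0) = 0 :=
  haveI : Subsingleton (Coh.HH X E 0) := finrank_h0_of_empty (suppIn_empty_of_isZero fun x a => by
    obtain ⟨e⟩ := nonempty_stalk_equiv hE x
    exact e.injective (Subsingleton.elim _ _))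
  Module.finrank_zero_of_subsingleton

theorem h0_freeMod_le [IsIntegral X] (hX : CurveLike k X) (h0 : Module.finrank k (Coh.HH X (Coh.structureModule X) 0) = 1) (n : ℕ) :
    Module.finrank k (Coh.HH X (FlatMod.freeMod X n) 0) ≤ n := by
  induction n with
  | zero => rw [h0_rank_zero (isFinLocFreeOfRank_freeMod X 0)]
  | succ n ih =>
    have h : Module.finrank k (Coh.HH X (FlatMod.freeMod X (n + 1)) 0) ≤
        Module.finrank k (Coh.HH X (FlatMod.freeMod X n) 0) + Module.finrank k (Coh.HH X (Coh.structureModule X) 0) :=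
      h0_le_of_shortExact (S := freeSC X n) hX (freeSC_shortExact (X := X) n) (isCoh_of_ofRank (isFinLocFreeOfRank_freeMod X n))
        (isCoh_of_ofRank (isFinLocFreeOfRank_freeMod X (n + 1))) (have := hX.noetherian; isCoh_structureModule)
    omega

theorem deg_sub_free_le (hX : RegCurve k X) (n : ℕ) : ∀ {p : ℕ} {P : X.Modules},
    FlatMod.IsFinLocFreeOfRank p P → ∀ (i : P ⟶ FlatMod.freeMod X n), Mono i → Curv2.deg k X P p ≤ 0 := by
  haveI := hX.integral
  haveI := hX.like.noetherian
  induction n with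
  | zero =>
    intro p P hP i hi
    haveI := hi
    obtain rfl : p = 0 := Nat.le_zero.1 (rank_le_of_mono hX (isFinLocFreeOfRank_freeMod X 0) hP i)
    rw [deg_rank_zero hX.like hP]
  | succ n ih =>
    intro p P hP i hi
    haveI := hi
    have hO := (isInvertible_iff_isFinLocFreeOfRank_one _).1 (PicLoc.isInvertible_structureModule X)
    obtain ⟨rK, rI, dK, dI, hK, hI, hdK, hdI, hd, hr, hle, -, -, hK0, hI0, hlast⟩ :=
      map_data hX hP hO (i ≫ (freeSC X n).g)
    have eK : dK ≤ 0 := by
      haveI := (freeSC_shortExact (X := X) n).mono_f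
      let l := (freeSC_shortExact (X := X) n).exact.lift (kernel.ι (i ≫ (freeSC X n).g) ≫ i)
        (by rw [Category.assoc, kernel.condition])
      have : Mono (l ≫ (freeSC X n).f) := by
        rw [(freeSC_shortExact (X := X) n).exact.lift_f]; exact mono_comp _ _
      exact hdK.trans_le (ih hK l (mono_of_mono l (freeSC X n).f))
    have eI : dI ≤ 0 := by
      rcases Nat.eq_zero_or_pos rI with h | h
      · exact (hI0 h).le
      · have := hlast (by omega)
        rwa [deg_structureModule] at this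
    omega

section GenusOne

variable (hX : RegCurve k X) (h0 : Module.finrank k (Coh.HH X (Coh.structureModule X) 0) = 1)
  (hbig : HasBigDeg k X) (hg : Curv2.genus k X = 1)

include hX h0 hg

theorem deg_eq_h0_sub_h1 {r : ℕ} {E : X.Modules} (hE : FlatMod.IsFinLocFreeOfRank r E) :
    Curv2.deg k X E r = (Module.finrank k (Coh.HH X E 0) : ℤ) - Module.finrank k (Coh.HH X E 1) := by
  haveI := hX.like.noetherian
  rw [Curv2.deg, hX.like.euler_structureModule, h0, (hX.like.adm (isCoh_of_ofRank hE)).euler_eq, hg]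
  simp

include hbig

/-- A nonzero functional on `H¹(Q)` cuts out a corank one submodule losing at most one section. -/
theorem drop_one {q : ℕ} {Q : X.Modules} (hQ : FlatMod.IsFinLocFreeOfRank q Q)
    (μ : Module.Dual k (Coh.HH X Q 1)) (hμ : μ ≠ 0) :
    ∃ (W : X.Modules) (φ : Q ⟶ W) (K : X.Modules) (ι : K ⟶ Q), Mono ι ∧ 0 < q ∧
      FlatMod.IsFinLocFreeOfRank (q - 1) K ∧
      Module.finrank k (Coh.HH X Q 0) ≤ Module.finrank k (Coh.HH X K 0) + 1 ∧
      ∀ {p : ℕ} {P : X.Modules}, FlatMod.IsFinLocFreeOfRank p P → ∀ u : P ⟶ Q, μ.comp (hmap k u 1) = 0 →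
        ∃ u' : P ⟶ K, u' ≫ ι = u := by
  haveI := hX.integral
  haveI := hX.like.noetherian
  obtain ⟨W, lam, hW⟩ := exists_isDualizing hX h0 hbig
  obtain ⟨φ, rfl⟩ := hW.exists_hom hX h0 hbig hQ μ
  have hW1 := (isInvertible_iff_isFinLocFreeOfRank_one W).1 hW.inv
  obtain ⟨rK, rI, -, -, hK, hI, -, -, -, hr, hle, hI0, -, -, -, -⟩ := map_data hX hQ hW1 φ
  have hrI : rI ≠ 0 := fun h => hμ (by rw [hI0.1 h, hmap_zero', LinearMap.comp_zero])
  obtain rfl : rI = 1 := by omega
  obtain rfl : rK = q - 1 := by omega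
  refine ⟨W, φ, kernel φ, kernel.ι φ, inferInstance, by omega, hK, ?_, fun {p P} hP u hu => ?_⟩
  · refine (h0_le_of_shortExact hX.like (kerSC_shortExact φ) (isCoh_of_ofRank hK) (isCoh_of_ofRank hQ)
      (isCoh_of_ofRank hI)).trans (add_le_add le_rfl ?_)
    haveI := hX.like.fin W (isCoh_of_ofRank hW1) 0
    refine (LinearMap.finrank_le_finrank_of_injective (hmap_f_injective k
      (S := ShortComplex.mk (Abelian.image.ι φ) (cokernel.π _) (cokernel.condition _))
      { exact := ShortComplex.exact_of_g_is_cokernel _ (cokernelIsCokernel _) })).trans ?_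
    rw [(hW.invariants hX h0 hbig).1, hg]
  · refine ⟨kernel.lift φ u (by_contra fun hne => hW.comp_ne_zero hX hP (u ≫ φ) hne ?_), kernel.lift_ι _ _ _⟩
    rwa [hmap_comp', ← LinearMap.comp_assoc]

/-- For a stable bundle of slope `> 1`: `h⁰(P) r ≤ d p` for submodules `P`, equality only in the trivial cases. -/
theorem h0_mul_le_of_st {ρ : ℕ} {F : X.Modules} (hF : FlatMod.IsFinLocFreeOfRank ρ F) (hst : ST k F ρ)
    (hD : (ρ : ℤ) < Curv2.deg k X F ρ) : ∀ {p : ℕ} {P : X.Modules}, FlatMod.IsFinLocFreeOfRank p P →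
      ∀ (i : P ⟶ F), Mono i → (Module.finrank k (Coh.HH X P 0) : ℤ) * ρ ≤ Curv2.deg k X F ρ * p ∧
        ((Module.finrank k (Coh.HH X P 0) : ℤ) * ρ = Curv2.deg k X F ρ * p → p = 0 ∨ p = ρ) := by
  intro p
  induction p with
  | zero =>
    intro P hP i hi
    haveI := hX.integral
    rw [h0_rank_zero hP]
    exact ⟨by simp, fun _ => Or.inl rfl⟩
  | succ p ih =>
    intro P hP i hi
    haveI := hi
    haveI := hX.integral
    haveI := hX.like.noetherian
    by_cases h1 : Subsingleton (Coh.HH X P 1)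
    · have hd := deg_eq_h0_sub_h1 hX h0 hg hP
      rw [Module.finrank_zero_of_subsingleton (M := Coh.HH X P 1), Nat.cast_zero, sub_zero] at hd
      rw [← hd]
      rcases (rank_le_of_mono hX hF hP i).lt_or_eq with h | h
      · have := hst P _ i hi p.succ_pos h hP
        exact ⟨this.le, fun h' => absurd h' this.ne⟩
      · subst h
        exact ⟨mul_le_mul_of_nonneg_right (deg_le_of_mono hX.like hP hF i).1 (by positivity), fun _ => Or.inr rfl⟩
    · rw [not_subsingleton_iff_nontrivial] at h1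
      obtain ⟨η, hη⟩ := exists_ne (0 : Coh.HH X P 1)
      haveI : Module.Projective k (Coh.HH X P 1) := Module.Projective.of_basis (Module.Basis.ofVectorSpace k _)
      obtain ⟨μ, hμ⟩ := Module.Projective.exists_dual_ne_zero k hη
      obtain ⟨-, -, K, ι, hι, -, hK, hle, -⟩ :=
        drop_one hX h0 hbig hg hP μ (fun h => hμ (by rw [h]; rfl))
      haveI := hι
      have h2 := (ih hK (ι ≫ i) (mono_comp _ _)).1
      have h3 : (Module.finrank k (Coh.HH X P 0) : ℤ) * ρ < Curv2.deg k X F ρ * ((p + 1 : ℕ) : ℤ) := by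
        refine lt_of_le_of_lt (mul_le_mul_of_nonneg_right (Int.ofNat_le.2 hle) (by positivity)) ?_
        push_cast
        linarith
      exact ⟨h3.le, fun h' => absurd h' h3.ne⟩

/-- The kernel of evaluation of a stable bundle of slope `> 1` is stable of rank `D - ρ` and degree `-D`. -/
theorem exists_kernel_stable (hx0 : ∃ x : X, IsClosed ({x} : Set X))
    (hpt : ∀ (x : X) (hx : IsClosed ({x} : Set X)),
      PicF.IsInvertible (ClSub.idealMod (Scheme.IdealSheafData.vanishingIdeal (⟨{x}, hx⟩ : Closeds X))) ∧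
      Curv2.deg k X (ClSub.idealMod (Scheme.IdealSheafData.vanishingIdeal (⟨{x}, hx⟩ : Closeds X))) 1 = -1)
    {ρ n : ℕ} {F : X.Modules} (hρ : 0 < ρ) (hF : FlatMod.IsFinLocFreeOfRank ρ F) (hst : ST k F ρ)
    (hn : Curv2.deg k X F ρ = n) (hρn : ρ ≤ n) (h2 : ρ = n → 2 ≤ ρ) :
    ∃ K : X.Modules, FlatMod.IsFinLocFreeOfRank (n - ρ) K ∧ Curv2.deg k X K (n - ρ) = -(n : ℤ) ∧
      (ρ < n → ST k K (n - ρ)) := by
  classical
  haveI := hX.integral
  haveI := hX.like.noetherian
  haveI := hX.like.fin F (isCoh_of_ofRank hF) 0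
  haveI : Subsingleton (Coh.HH X F 1) := h1_subsingleton_of_ss hX h0 hbig hρ hF (ss_of_st hX hF hst)
    (by rw [hg, hn]; simpa using hρ.trans_le hρn)
  have hh : Module.finrank k (Coh.HH X F 0) = n := by
    have := deg_eq_h0_sub_h1 hX h0 hg hF
    rw [hn, Module.finrank_zero_of_subsingleton (M := Coh.HH X F 1)] at this
    omega
  -- generation
  have hspan : ∀ y : X, Submodule.span (X.presheaf.stalk y)
      (Set.range fun t : Γ(F, (⊤ : X.Opens)) => (F.presheaf.germ ⊤ y trivial t : F.presheaf.stalk y)) = ⊤ := by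
    have hcl : ∀ (y : X), IsClosed ({y} : Set X) → Submodule.span (X.presheaf.stalk y)
        (Set.range fun t : Γ(F, (⊤ : X.Opens)) => (F.presheaf.germ ⊤ y trivial t : F.presheaf.stalk y)) = ⊤ := by
      intro y hy
      refine span_germ_eq_top k hy hF ?_
      obtain ⟨hI, hdI⟩ := hpt y hy
      set I := ClSub.idealMod (Scheme.IdealSheafData.vanishingIdeal (⟨{y}, hy⟩ : Closeds X))
      have hI1 := (isInvertible_iff_isFinLocFreeOfRank_one I).1 hI
      have hFI : FlatMod.IsFinLocFreeOfRank ρ (CohB1.tensorMod F I) := by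
        simpa using isFinLocFreeOfRank_tensor hF hI1
      have hd : Curv2.deg k X (CohB1.tensorMod F I) ρ = (n : ℤ) - ρ := by
        have := hX.like.deg_tensor hF hI1
        rw [hdI, hn] at this
        simpa [sub_eq_add_neg] using this
      have hst' := st_tensor hX.like hF hI hst
      haveI : Subsingleton (Coh.HH X (CohB1.tensorMod F I) 1) := by
        rcases hρn.lt_or_eq with h | h
        · exact h1_subsingleton_of_ss hX h0 hbig hρ hFI (ss_of_st hX hFI hst')
            (by rw [hg, hd]; push_cast; simpa using h)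
        · exact h1_subsingleton_of_st hX h0 hbig (h2 h) hFI hst' (by rw [hg, hd, h]; simp)
      exact (hequiv k (tensorComm I F) 1).toEquiv.subsingleton
    intro y
    by_cases hy : IsClosed ({y} : Set X)
    · exact hcl y hy
    · obtain rfl : y = genericPoint X :=
        (Curve17.eq_of_specializes hX.like.dim hy (genericPoint_specializes y)).symm
      obtain ⟨x, hx⟩ := hx0
      exact span_germ_genericPoint_of_span hF (hcl x hx)
  let b := Module.finBasisOfFinrankEq k (Coh.HH X F 0) hh
  let π : FlatMod.freeMod X n ⟶ F := Sigma.desc fun i => secHom (hh0 F (b i))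
  have hfree := isFinLocFreeOfRank_freeMod X n
  haveI := hX.like.fin _ (isCoh_of_ofRank hfree) 0
  have hsurj : Function.Surjective (hmap k π 0) := by
    rw [← LinearMap.range_eq_top, eq_top_iff, ← b.span_eq, Submodule.span_le]
    rintro _ ⟨i, rfl⟩
    refine ⟨hmap k (Sigma.ι (fun _ : Fin n => Coh.structureModule X) i) 0 ((hh0 _).symm (one ⊤)), ?_⟩
    rw [← LinearMap.comp_apply, ← hmap_comp', Sigma.ι_desc]
    apply (hh0 F).injective
    rw [hh0_hmap, AddEquiv.apply_symm_apply, secHom_app_one]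
  have hinj : Function.Injective (hmap k π 0) := by
    rw [← LinearMap.ker_eq_bot, ← Submodule.finrank_eq_zero (R := k)]
    have := LinearMap.finrank_range_add_finrank_ker (hmap k π 0)
    rw [LinearMap.range_eq_top.2 hsurj, finrank_top, hh] at this
    have := h0_freeMod_le hX.like h0 n
    omega
  haveI : Epi π := (epi_iff_stalk π).2 fun y => by
    show Function.Surjective (stalkLin π y)
    rw [← LinearMap.range_eq_top, eq_top_iff, ← hspan y, Submodule.span_le]
    rintro _ ⟨t, rfl⟩
    obtain ⟨w, hw⟩ := hsurj ((hh0 F).symm t)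
    refine ⟨(FlatMod.freeMod X n).presheaf.germ ⊤ y trivial (hh0 _ w), ?_⟩
    rw [stalkLin_apply, germ_naturality, ← hh0_hmap (A := k), hw, AddEquiv.apply_symm_apply]
  let S : ShortComplex X.Modules := ShortComplex.mk (kernel.ι π) π (kernel.condition π)
  have hS : S.ShortExact := { exact := ShortComplex.exact_of_f_is_kernel _ (kernelIsKernel π) }
  obtain ⟨rK, -, hK⟩ := exists_rank_of_mono hX.pid hfree
    (CurveCoh17.isCoh_kernel (isCoh_of_ofRank hfree) (isCoh_of_ofRank hF).1 π) (kernel.ι π)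
  have hrk := rank_add hS hK hfree hF
  have hdK := deg_add hX.like hS hK hfree hF
  rw [show Curv2.deg k X S.X₂ n = 0 by
    show Curv2.deg k X (FlatMod.freeMod X n) n = 0
    rw [Curv2.deg, hX.like.euler_freeMod, sub_self], show Curv2.deg k X S.X₃ ρ = n from hn] at hdK
  obtain rfl : rK = n - ρ := by omega
  have hdK' : Curv2.deg k X (kernel π) (n - ρ) = -(n : ℤ) := by
    change (0 : ℤ) = Curv2.deg k X (kernel π) (n - ρ) + n at hdK
    linarith
  refine ⟨kernel π, hK, hdK', fun hlt P p j hj hp hpr hP => ?_⟩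
  haveI := hj
  rw [hdK']
  -- `H⁰(P) = 0`
  have hP0 : Module.finrank k (Coh.HH X P 0) = 0 := by
    haveI : Subsingleton (Coh.HH X P 0) := by
      refine ⟨fun a c => ?_⟩
      apply hmap_f_injective k (S := ShortComplex.mk (j ≫ kernel.ι π) (cokernel.π _) (cokernel.condition _))
        { exact := ShortComplex.exact_of_g_is_cokernel _ (cokernelIsCokernel _) }
      apply hinj
      rw [← LinearMap.comp_apply, ← hmap_comp', ← LinearMap.comp_apply, ← hmap_comp']
      simp [kernel.condition, hmap_zero']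
    exact Module.finrank_zero_of_subsingleton
  have hdP := deg_eq_h0_sub_h1 hX h0 hg hP
  rw [hP0, Nat.cast_zero, zero_sub] at hdP
  -- the smallest trivial submodule containing `P`, up to `H¹`
  have key : ∀ q : ℕ, ∀ {Q : X.Modules}, FlatMod.IsFinLocFreeOfRank q Q → ∀ (u : P ⟶ Q) (v : Q ⟶ FlatMod.freeMod X n),
      Mono v → u ≫ v = j ≫ kernel.ι π → q ≤ Module.finrank k (Coh.HH X Q 0) →
      ∃ (q' : ℕ) (Q' : X.Modules) (u' : P ⟶ Q') (v' : Q' ⟶ FlatMod.freeMod X n), Mono v' ∧
        FlatMod.IsFinLocFreeOfRank q' Q' ∧ u' ≫ v' = j ≫ kernel.ι π ∧ q' ≤ Module.finrank k (Coh.HH X Q' 0) ∧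
        Function.Surjective (hmap k u' 1) := by
    intro q
    induction q using Nat.strong_induction_on with
    | _ q ih =>
      intro Q hQ u v hv huv hq
      by_cases hs : Function.Surjective (hmap k u 1)
      · exact ⟨q, Q, u, v, hv, hQ, huv, hq, hs⟩
      · rw [← LinearMap.range_eq_top, ← Ne, ← lt_top_iff_ne_top] at hs
        haveI := hX.like.fin Q (isCoh_of_ofRank hQ) 1
        obtain ⟨μ, hμ, hμu⟩ := Submodule.exists_dual_map_eq_bot_of_lt_top hs inferInstance
        obtain ⟨-, -, Q', ι, hι, hq0, hQ', hle, hfac⟩ := drop_one hX h0 hbig hg hQ μ hμ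
        obtain ⟨u', hu'⟩ := hfac hP u (LinearMap.range_eq_bot.1 (by rw [LinearMap.range_comp, hμu]))
        haveI := hι; haveI := hv
        exact ih (q - 1) (by omega) hQ' u' (ι ≫ v) (mono_comp _ _) (by rw [← Category.assoc, hu', huv]) (by omega)
  obtain ⟨q, Q, u, v, hv, hQ, huv, hq, hs⟩ := key n hfree (j ≫ kernel.ι π) (𝟙 _) inferInstance (Category.comp_id _) (by
    exact hh.ge.trans (LinearMap.finrank_le_finrank_of_surjective hsurj))
  haveI := hv
  haveI := hX.like.fin P (isCoh_of_ofRank hP) 1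
  haveI := hX.like.fin Q (isCoh_of_ofRank hQ) 0
  have hqε : q ≤ Module.finrank k (Coh.HH X P 1) := by
    have h1 := LinearMap.finrank_le_finrank_of_surjective hs
    have h2 := deg_sub_free_le hX n hQ v hv
    rw [deg_eq_h0_sub_h1 hX h0 hg hQ] at h2
    omega
  obtain ⟨a, c, -, -, ha, hc, -, -, -, hac, -, -, -, -, -, -⟩ := map_data hX hQ hF (v ≫ π)
  haveI : Mono (kernel.lift (v ≫ π) u (by simp [reassoc_of% huv])) := by
    haveI : Mono u := mono_of_mono_fac huv
    exact mono_of_mono_fac (kernel.lift_ι _ _ _)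
  have hpa : p ≤ a := rank_le_of_mono hX ha hP (kernel.lift (v ≫ π) u _)
  have hA := h0_mul_le_of_st hX h0 hbig hg hF hst (by rw [hn]; exact_mod_cast hlt) hc (Abelian.image.ι (v ≫ π)) inferInstance
  rw [hn] at hA
  haveI := hX.like.fin _ (isCoh_of_ofRank hc) 0
  have hqI : q ≤ Module.finrank k (Coh.HH X (Abelian.image (v ≫ π)) 0) := by
    refine hq.trans (LinearMap.finrank_le_finrank_of_injective (f := hmap k (Abelian.factorThruImage (v ≫ π)) 0) ?_)
    have hv0 : Function.Injective (hmap k v 0) :=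
      hmap_f_injective k (S := ShortComplex.mk v (cokernel.π v) (cokernel.condition v))
        { exact := ShortComplex.exact_of_g_is_cokernel _ (cokernelIsCokernel _) }
    intro x y hxy
    apply hv0
    apply hinj
    rw [← LinearMap.comp_apply, ← hmap_comp', ← LinearMap.comp_apply, ← hmap_comp',
      ← Abelian.image.fac (v ≫ π), hmap_comp', LinearMap.comp_apply, hxy, LinearMap.comp_apply]
  rw [hdP]
  have hnr : ((n - ρ : ℕ) : ℤ) = (n : ℤ) - ρ := by omega
  rw [hnr]
  have hqc : (q : ℤ) * ρ ≤ (n : ℤ) * c :=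
    (mul_le_mul_of_nonneg_right (Int.ofNat_le.2 hqI) (by positivity)).trans hA.1
  have e1 : (n : ℤ) * c + n * p ≤ n * q := by
    rw [← mul_add]; exact mul_le_mul_of_nonneg_left (by exact_mod_cast (show c + p ≤ q by omega)) (by positivity)
  have e2 : (q : ℤ) * ((n : ℤ) - ρ) ≤ (Module.finrank k (Coh.HH X P 1) : ℤ) * ((n : ℤ) - ρ) :=
    mul_le_mul_of_nonneg_right (Int.ofNat_le.2 hqε) (by omega)
  rw [neg_mul, neg_mul, neg_lt_neg_iff]
  refine lt_of_le_of_ne (by linarith) fun heq => ?_
  have h2 : (q : ℤ) * ρ = (n : ℤ) * c := by linarith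
  have h3 : (n : ℤ) * c + n * p = n * q := by linarith
  rcases hA.2 (le_antisymm hA.1 (h2.symm.le.trans (mul_le_mul_of_nonneg_right (Int.ofNat_le.2 hqI) (by positivity)))) with h | h
  · subst h
    have hq0 : q = 0 := by
      have : (q : ℤ) * ρ = 0 := by rw [h2]; simp
      simpa [hρ.ne'] using this
    omega
  · subst h
    have hqn : q = n := by exact_mod_cast mul_right_cancel₀ (Int.ofNat_ne_zero.2 hρ.ne') h2
    have hpn : (n : ℤ) * ((c : ℤ) + p) = n * q := by rw [mul_add]; exact h3
    have := mul_left_cancel₀ (Int.ofNat_ne_zero.2 (by omega)) hpn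
    omega

end GenusOne

end Groth.Agent.VB17
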