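import Groth.Agent.Lib.VB17.ExtVanish
import Groth.Agent.Lib.VB17.Line
import Groth.Agent.Lib.VB17.TwistBound
import Groth.Agent.Lib.VB17.Bound
import Groth.Agent.Lib.VB17.Pair

/-!
# Semistable bundles in genus one inject into copies of a line bundle
-/

set_option linter.style.haveILetI false
set_option autoImplicit false
set_option maxHeartbeats 800000

universe u

open CategoryTheory TopologicalSpace CategoryTheory.Limits AlgebraicGeometry

namespace Groth.Agent.VB17

open Groth.Agent.M1 Groth.Agent.M2 Groth.Agent.CurveCoh17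

variable {k : Type u} [Field k] {X : Scheme.{u}} [X.Over (Spec (CommRingCat.of k))]

attribute [local instance] Curv2.resAlgebra

/-- With a rational point there are invertible modules of every degree. -/
theorem exists_invertible_deg_of_rational [IsIntegral X] (hX : CurveLike k X) (hdim : topologicalKrullDim X = 1)
    (hreg : ∀ x : X, IsRegularLocalRing (X.presheaf.stalk x)) {P : X} (hP : IsClosed ({P} : Set X))
    (h1 : Module.finrank k (X.residueField P) = 1) (n : ℤ) :
    ∃ M : X.Modules, PicF.IsInvertible M ∧ Curv2.deg k X M 1 = n := by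
  haveI := hX.noetherian
  have hI := isInvertible_pointIdeal hdim hreg hP
  have hdI := deg_pointIdeal (k := k) hX hP
  rw [h1, Nat.cast_one] at hdI
  set I := ClSub.idealMod (Scheme.IdealSheafData.vanishingIdeal (⟨{P}, hP⟩ : Closeds X))
  obtain ⟨J, hJ, ⟨eJ⟩⟩ := exists_inverse hI
  have hdJ : Curv2.deg k X J 1 = 1 := by rw [hX.deg_of_tensor_iso hI hJ eJ, hdI]; norm_num
  obtain ⟨m, rfl | rfl⟩ := n.eq_nat_or_neg
  · exact ⟨CohB1.tensorPow J m, isInvertible_tensorPow hJ m, by rw [hX.deg_tensorPow hJ, hdJ, mul_one]⟩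
  · exact ⟨CohB1.tensorPow I m, isInvertible_tensorPow hI m, by rw [hX.deg_tensorPow hI, hdI]; ring⟩

/-- `L^n → L^(n+1) → L`. -/
noncomputable abbrev copiesSC (L : X.Modules) (n : ℕ) : ShortComplex X.Modules :=
  ShortComplex.mk
    (Sigma.desc fun i : Fin n => Sigma.ι (fun _ : Fin (n + 1) => L) i.castSucc)
    (P1Split.proj (fun _ : Fin (n + 1) => L) (Fin.last n))
    (Sigma.hom_ext _ _ fun i => by rw [Sigma.ι_desc_assoc, comp_zero, P1Split.ι_proj_ne _ (Fin.castSucc_ne_last i)])

noncomputable def copiesSplit (L : X.Modules) (n : ℕ) : (copiesSC L n).Splitting where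
  r := Sigma.desc fun j : Fin (n + 1) => Fin.lastCases (motive := fun _ => L ⟶
    ∐ fun _ : Fin n => L) 0 (fun i => Sigma.ι (fun _ : Fin n => L) i) j
  s := Sigma.ι (fun _ : Fin (n + 1) => L) (Fin.last n)
  f_r := Sigma.hom_ext _ _ fun i => by simp
  s_g := P1Split.ι_proj_self _ _
  id := Sigma.hom_ext _ _ fun j => by
    refine Fin.lastCases ?_ (fun i => ?_) j
    · simp [Preadditive.comp_add, P1Split.proj]
    · simp [Preadditive.comp_add, P1Split.proj, Fin.castSucc_ne_last]

theorem isFinLocFree_copies {L : X.Modules} (hL : PicF.IsInvertible L) (n : ℕ) :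
    FlatMod.IsFinLocFree (∐ fun _ : Fin n => L) := by
  induction n with
  | zero =>
    have hz : IsZero (∐ fun _ : Fin 0 => L) := (IsZero.iff_id_eq_zero _).2 (Sigma.hom_ext _ _ fun i => i.elim0)
    have hz' : IsZero (FlatMod.freeMod X 0) :=
      (IsZero.iff_id_eq_zero _).2 (Sigma.hom_ext _ _ fun i => i.elim0)
    exact isFinLocFree_of_ofRank (isFinLocFreeOfRank_of_iso (hz'.iso hz) (isFinLocFreeOfRank_freeMod X 0))
  | succ n ih =>
    obtain ⟨q, hq⟩ : FlatMod.IsFinLocFree ((∐ fun _ : Fin n => L) ⊞ L) ∧ True :=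
      ⟨KFlat.Sch.isFinLocFree_biprod ih (isFinLocFree_of_ofRank ((isInvertible_iff_isFinLocFreeOfRank_one L).1 hL)),
        trivial⟩
    intro x
    obtain ⟨U, m, hxU, ⟨e⟩⟩ := q x
    exact ⟨U, m, hxU, ⟨(Scheme.Modules.restrictFunctor U.ι).mapIso (copiesSplit L n).isoBinaryBiproduct ≪≫ e⟩⟩

variable (hX : RegCurve k X) (h0 : Module.finrank k (Coh.HH X (Coh.structureModule X) 0) = 1)
  (hbig : HasBigDeg k X) (hg : Curv2.genus k X = 1)

include hX h0 hg

/-- `H¹` of a submodule of a bundle of slope `< -1` maps nontrivially. -/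
theorem hmap_h1_ne_zero {N : X.Modules} (hN : PicF.IsInvertible N) (hdN : Curv2.deg k X N 1 = 1)
    {r t : ℕ} {F K : X.Modules} (ht : 0 < t)
    (hF : FlatMod.IsFinLocFreeOfRank r F) (hK : FlatMod.IsFinLocFreeOfRank t K) (hss : SS k F r)
    (hdeg : Curv2.deg k X F r < -(r : ℤ)) (i : K ⟶ F) [Mono i] {q : ℕ}
    (hQ : FlatMod.IsFinLocFreeOfRank q (cokernel i)) : hmap k i 1 ≠ 0 := by
  intro hz
  haveI := hX.integral
  haveI := hX.like.noetherian
  have hN1 := (isInvertible_iff_isFinLocFreeOfRank_one N).1 hN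
  -- a section of `N`
  obtain ⟨σ, hσ⟩ : ∃ σ : Coh.structureModule X ⟶ N, Mono σ := by
    have he : Curv2.deg k X N 1 = (Module.finrank k (Coh.HH X N 0) : ℤ) - Module.finrank k (Coh.HH X N 1) := by
      rw [Curv2.deg, hX.like.euler_structureModule, h0, (hX.like.adm (isCoh_of_ofRank hN1)).euler_eq, hg]
      simp
    haveI : Nontrivial (Coh.HH X N 0) := Module.nontrivial_of_finrank_pos (R := k) (by omega)
    obtain ⟨z, hz⟩ := exists_ne (0 : Coh.HH X N 0)
    exact ⟨secHom (hh0 N z), (mono_iff_stalk _).2 (injective_stalk_secHom hN1 (hh0_ne_zero hz))⟩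
  haveI := hσ
  let u : ∀ A : X.Modules, A ⟶ CohB1.tensorMod A N := fun A => (tensorRUnit A).inv ≫ tensorMap (𝟙 A) σ
  have hu : ∀ {A : X.Modules} {n : ℕ}, FlatMod.IsFinLocFreeOfRank n A → Mono (u A) := fun {A n} hA => by
    haveI : Mono (tensorMap σ (𝟙 A)) := (shortExact_tensorR (S := ShortComplex.mk σ (cokernel.π σ) (cokernel.condition _))
      { exact := ShortComplex.exact_of_g_is_cokernel _ (cokernelIsCokernel _) } A (flat_stalk_of_rank hA)).mono_f
    have h : tensorMap (𝟙 A) σ = (tensorComm (Coh.structureModule X) A).inv ≫ tensorMap σ (𝟙 A) ≫ (tensorComm N A).hom := by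
      rw [tensorComm_natural, Iso.inv_hom_id_assoc]
    show Mono ((tensorRUnit A).inv ≫ _)
    rw [h]
    infer_instance
  have hnat : ∀ {A B : X.Modules} (f : A ⟶ B), f ≫ u B = u A ≫ tensorMap f (𝟙 N) := fun {A B} f => by
    have h1 : f ≫ (tensorRUnit B).inv = (tensorRUnit A).inv ≫ tensorMap f (𝟙 _) := by
      rw [Iso.comp_inv_eq, Category.assoc, tensorRUnit_natural, Iso.inv_hom_id_assoc]
    show f ≫ (tensorRUnit B).inv ≫ tensorMap (𝟙 B) σ = ((tensorRUnit A).inv ≫ tensorMap (𝟙 A) σ) ≫ tensorMap f (𝟙 N)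
    rw [← Category.assoc, h1, Category.assoc, Category.assoc, ← tensorMap_comp, ← tensorMap_comp,
      Category.id_comp, Category.comp_id, Category.id_comp, Category.comp_id]
  have hKN : FlatMod.IsFinLocFreeOfRank t (CohB1.tensorMod K N) := by
    simpa using isFinLocFreeOfRank_tensor hK hN1
  have hFN : FlatMod.IsFinLocFreeOfRank r (CohB1.tensorMod F N) := by
    simpa using isFinLocFreeOfRank_tensor hF hN1
  let S : ShortComplex X.Modules := ShortComplex.mk i (cokernel.π i) (cokernel.condition i)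
  have hS : S.ShortExact := { exact := S.exact_of_g_is_cokernel (cokernelIsCokernel i) }
  have hSN := shortExact_tensorR hS N (flat_stalk hN)
  haveI : Mono (tensorMap i (𝟙 N)) := mono_tensorMap i hN
  haveI := hu hK
  haveI := hu hF
  have hzN : hmap k (tensorMap i (𝟙 N)) 1 = 0 := by
    refine LinearMap.ext fun x => ?_
    obtain ⟨y, rfl⟩ := h1_surjective_of_mono hX hK hKN (u K) x
    rw [← LinearMap.comp_apply, ← hmap_comp', ← hnat, hmap_comp', hz, LinearMap.comp_zero]
    rfl
  have hdF0 : Curv2.deg k X F r < 0 := hdeg.trans_le (by simp)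
  have hdFN : Curv2.deg k X (CohB1.tensorMod F N) r < 0 := by
    rw [show Curv2.deg k X (CohB1.tensorMod F N) r = _ from by simpa using hX.like.deg_tensor hF hN1, hdN]
    linarith
  haveI := h0_subsingleton_of_ss_neg hF hss hdF0
  haveI := h0_subsingleton_of_ss_neg hFN (ss_tensor hX.like hF hN hss) hdFN
  haveI : Subsingleton (Coh.HH X S.X₂ 0) := ‹Subsingleton (Coh.HH X F 0)›
  haveI : Subsingleton (Coh.HH X (S.map (tensorR N)).X₂ 0) := ‹Subsingleton (Coh.HH X (CohB1.tensorMod F N) 0)›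
  -- both coboundaries are bijective
  have key : ∀ (T : ShortComplex X.Modules) (hT : T.ShortExact), Subsingleton (Coh.HH X T.X₂ 0) →
      hmap k T.f 1 = 0 → Function.Bijective (hdelta k hT 0) := fun T hT _ hf => by
    refine ⟨(injective_iff_map_eq_zero _).2 fun a ha => ?_, fun b => ?_⟩
    · obtain ⟨c, rfl⟩ := (exact_hmap_hdelta k hT 0 a).1 ha
      rw [Subsingleton.elim c 0, map_zero]
    · exact (exact_hdelta_hmap k hT 0 b).1 (by rw [hf]; rfl)
  have b1 := key S hS inferInstance hz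
  have b2 := key (S.map (tensorR N)) hSN inferInstance hzN
  -- dimensions
  have hQc : Coh.IsCoh (cokernel i) := M1.isCoh_cokernel (isCoh_of_ofRank hK).1 (isCoh_of_ofRank hF) i
  haveI := hX.like.fin _ (isCoh_tensor hQc (isCoh_of_ofRank hN1)) 0
  have e1 : Module.finrank k (Coh.HH X (cokernel i) 0) = Module.finrank k (Coh.HH X K 1) :=
    (LinearEquiv.ofBijective (hdelta k hS 0) b1).finrank_eq
  have e2 : Module.finrank k (Coh.HH X (CohB1.tensorMod (cokernel i) N) 0) =
      Module.finrank k (Coh.HH X (CohB1.tensorMod K N) 1) :=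
    (LinearEquiv.ofBijective (hdelta k hSN 0) b2).finrank_eq
  haveI : Subsingleton (Coh.HH X K 0) := (hmap_f_injective k hS).subsingleton
  haveI : Subsingleton (Coh.HH X (CohB1.tensorMod K N) 0) := (hmap_f_injective k hSN).subsingleton
  have hd : ∀ {A : X.Modules}, FlatMod.IsFinLocFreeOfRank t A → Subsingleton (Coh.HH X A 0) →
      Curv2.deg k X A t = -(Module.finrank k (Coh.HH X A 1) : ℤ) := fun {A} hA _ => by
    rw [Curv2.deg, hX.like.euler_structureModule, h0, (hX.like.adm (isCoh_of_ofRank hA)).euler_eq, hg,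
      Module.finrank_zero_of_subsingleton (M := Coh.HH X A 0)]
    simp
  have dK := hd hK inferInstance
  have dKN := hd hKN inferInstance
  rw [show Curv2.deg k X (CohB1.tensorMod K N) t = _ from by simpa using hX.like.deg_tensor hK hN1, hdN] at dKN
  -- `H⁰(I) ↪ H⁰(I ⊗ N)`
  haveI := hu hQ
  have hle := LinearMap.finrank_le_finrank_of_injective (hmap_f_injective k
    (S := ShortComplex.mk (u (cokernel i)) (cokernel.π _) (cokernel.condition _))
    { exact := ShortComplex.exact_of_g_is_cokernel _ (cokernelIsCokernel _) })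
  rw [e1, e2] at hle
  push_cast at dKN
  omega

include hbig

/-- A map to `L` not vanishing on the kernel of a map to a bundle. -/
theorem exists_hom_ne_zero_on_kernel {N : X.Modules} (hN : PicF.IsInvertible N) (hdN : Curv2.deg k X N 1 = 1)
    {L : X.Modules} (hL : PicF.IsInvertible L) {r s t : ℕ} {F P : X.Modules}
    (hF : FlatMod.IsFinLocFreeOfRank r F) (hP : FlatMod.IsFinLocFreeOfRank s P) (hss : SS k F r)
    (hdeg : Curv2.deg k X F r < (Curv2.deg k X L 1 - 1) * (r : ℤ)) (φ : F ⟶ P)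
    (hK : FlatMod.IsFinLocFreeOfRank t (kernel φ)) (ht : 0 < t) : ∃ ψ : F ⟶ L, kernel.ι φ ≫ ψ ≠ 0 := by
  haveI := hX.integral
  haveI := hX.like.noetherian
  obtain ⟨-, rI, -, -, -, hI, -⟩ := map_data hX hF hP φ
  haveI := (kerSC_shortExact φ).epi_g
  have hQ : FlatMod.IsFinLocFreeOfRank rI (cokernel (kernel.ι φ)) :=
    isFinLocFreeOfRank_of_iso ((cokernelIsCokernel _).coconePointUniqueUpToIso
      (kerSC_shortExact φ).gIsCokernel).symm hI
  obtain ⟨L', hL', ⟨e0⟩⟩ := exists_inverse hL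
  let e : CohB1.tensorMod L' L ≅ Coh.structureModule X := tensorComm L' L ≪≫ e0
  have hL1' := (isInvertible_iff_isFinLocFreeOfRank_one L').1 hL'
  have hFL : FlatMod.IsFinLocFreeOfRank r (CohB1.tensorMod F L') := by
    simpa using isFinLocFreeOfRank_tensor hF hL1'
  have hKL : FlatMod.IsFinLocFreeOfRank t (CohB1.tensorMod (kernel φ) L') := by
    simpa using isFinLocFreeOfRank_tensor hK hL1'
  have hQL : FlatMod.IsFinLocFreeOfRank rI (CohB1.tensorMod (cokernel (kernel.ι φ)) L') := by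
    simpa using isFinLocFreeOfRank_tensor hQ hL1'
  have hdFL : Curv2.deg k X (CohB1.tensorMod F L') r < -(r : ℤ) := by
    rw [show Curv2.deg k X (CohB1.tensorMod F L') r = _ from by simpa using hX.like.deg_tensor hF hL1',
      hX.like.deg_of_tensor_iso hL hL' e0]
    linarith
  let S : ShortComplex X.Modules := ShortComplex.mk (kernel.ι φ) (cokernel.π _) (cokernel.condition _)
  have hS : S.ShortExact := { exact := S.exact_of_g_is_cokernel (cokernelIsCokernel _) }
  have hSL := shortExact_tensorR hS L' (flat_stalk hL')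
  haveI := hSL.epi_g
  haveI := mono_tensorMap (kernel.ι φ) hL'
  have hne := hmap_h1_ne_zero hX h0 hg hN hdN ht hFL hKL (ss_tensor hX.like hF hL' hss) hdFL
    (tensorMap (kernel.ι φ) (𝟙 L')) (isFinLocFreeOfRank_of_iso
      ((cokernelIsCokernel _).coconePointUniqueUpToIso hSL.gIsCokernel).symm hQL)
  obtain ⟨a, ha⟩ : ∃ a, hmap k (tensorMap (kernel.ι φ) (𝟙 L')) 1 a ≠ 0 := by
    by_contra h
    push Not at h
    exact hne (LinearMap.ext h)
  haveI : Module.Projective k (Coh.HH X (CohB1.tensorMod F L') 1) :=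
    Module.Projective.of_basis (Module.Basis.ofVectorSpace k _)
  obtain ⟨μ, hμ⟩ := Module.Projective.exists_dual_ne_zero k ha
  obtain ⟨W, lam, hW⟩ := exists_isDualizing hX h0 hbig
  obtain ⟨eW⟩ := nonempty_dualizing_iso hX h0 hbig hW hg
  obtain ⟨θ, hθ⟩ := hW.exists_hom hX h0 hbig hFL μ
  refine ⟨(untwist e F).inv ≫ tensorMap (θ ≫ eW.hom) (𝟙 L) ≫ (tensorLUnit L).hom, fun h => hμ ?_⟩
  rw [← Category.assoc, ← Category.assoc] at h
  replace h := (cancel_mono (tensorLUnit L).hom).1 (h.trans zero_comp.symm)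
  have h1 : kernel.ι φ ≫ (untwist e F).inv =
      (untwist e (kernel φ)).inv ≫ tensorMap (tensorMap (kernel.ι φ) (𝟙 L')) (𝟙 L) := by
    rw [Iso.comp_inv_eq, Category.assoc, untwist_natural, Iso.inv_hom_id_assoc]
  rw [h1, Category.assoc, ← tensorMap_comp, Category.comp_id, ← comp_zero (X := kernel φ), cancel_epi] at h
  haveI := isEquivalence_tensorR hL
  have h2 : tensorMap (kernel.ι φ) (𝟙 L') ≫ θ ≫ eW.hom = 0 :=
    (tensorR L).map_injective (h.trans ((tensorR L).map_zero _ _).symm)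
  have h3 : tensorMap (kernel.ι φ) (𝟙 L') ≫ θ = 0 := by
    rw [← cancel_mono eW.hom, Category.assoc, h2, zero_comp]
  rw [hθ, LinearMap.comp_apply, ← LinearMap.comp_apply (hmap k θ 1), ← hmap_comp', h3, hmap_zero',
    LinearMap.zero_apply, map_zero]

/-- A semistable bundle of slope `< deg L - 1` is a submodule of copies of `L`. -/
theorem exists_mono_copies {N : X.Modules} (hN : PicF.IsInvertible N) (hdN : Curv2.deg k X N 1 = 1)
    {L : X.Modules} (hL : PicF.IsInvertible L) {r : ℕ} {F : X.Modules}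
    (hF : FlatMod.IsFinLocFreeOfRank r F) (hss : SS k F r)
    (hdeg : Curv2.deg k X F r < (Curv2.deg k X L 1 - 1) * (r : ℤ)) :
    ∃ (M : ℕ), 0 < M ∧ ∃ j : F ⟶ ∐ fun _ : Fin M => L, Mono j := by
  haveI := hX.integral
  haveI := hX.like.noetherian
  suffices key : ∀ (t n : ℕ) (φ : F ⟶ ∐ fun _ : Fin (n + 1) => L),
      FlatMod.IsFinLocFreeOfRank t (kernel φ) → ∃ (M : ℕ), 0 < M ∧ ∃ j : F ⟶ ∐ fun _ : Fin M => L, Mono j by
    obtain ⟨s, hs⟩ := exists_rank_of_isFinLocFree (isFinLocFree_copies hL 1)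
    obtain ⟨t, -, -, -, ht, -⟩ := map_data hX hF hs (0 : F ⟶ ∐ fun _ : Fin 1 => L)
    exact key t 0 0 ht
  intro t
  induction t using Nat.strong_induction_on with
  | _ t ih =>
    intro n φ ht
    rcases Nat.eq_zero_or_pos t with rfl | hpos
    · exact ⟨n + 1, n.succ_pos, φ, Preadditive.mono_of_kernel_zero ((isZero_of_rank_zero ht).eq_of_src _ _)⟩
    obtain ⟨s, hs⟩ := exists_rank_of_isFinLocFree (isFinLocFree_copies hL (n + 1))
    obtain ⟨ψ, hψ⟩ := exists_hom_ne_zero_on_kernel hX h0 hbig hg hN hdN hL hF hs hss hdeg φ ht hpos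
    let incl : (∐ fun _ : Fin (n + 1) => L) ⟶ ∐ fun _ : Fin (n + 2) => L :=
      Sigma.desc fun i => Sigma.ι (fun _ : Fin (n + 2) => L) i.castSucc
    let φ' := φ ≫ incl + ψ ≫ Sigma.ι (fun _ : Fin (n + 2) => L) (Fin.last (n + 1))
    let r' : (∐ fun _ : Fin (n + 2) => L) ⟶ ∐ fun _ : Fin (n + 1) => L :=
      Sigma.desc fun j => Fin.lastCases (motive := fun _ => L ⟶ ∐ fun _ : Fin (n + 1) => L) 0
        (fun i => Sigma.ι (fun _ : Fin (n + 1) => L) i) j
    have hr1 : φ' ≫ r' = φ := by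
      have : incl ≫ r' = 𝟙 _ := Sigma.hom_ext _ _ fun i => by simp [incl, r']
      simp [φ', Preadditive.add_comp, this, r']
    have hr2 : φ' ≫ P1Split.proj (fun _ : Fin (n + 2) => L) (Fin.last (n + 1)) = ψ := by
      have : incl ≫ P1Split.proj (fun _ : Fin (n + 2) => L) (Fin.last (n + 1)) = 0 :=
        Sigma.hom_ext _ _ fun i => by
          simp [incl, P1Split.ι_proj_ne _ (Fin.castSucc_ne_last i)]
      simp [φ', Preadditive.add_comp, this, P1Split.ι_proj_self]
    obtain ⟨s', hs'⟩ := exists_rank_of_isFinLocFree (isFinLocFree_copies hL (n + 2))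
    obtain ⟨t', -, -, -, ht', -⟩ := map_data hX hF hs' φ'
    obtain ⟨tK, tI, -, -, htK, -, -, -, -, htsum, -, htI, -, -, -, -⟩ :=
      map_data hX ht ((isInvertible_iff_isFinLocFreeOfRank_one L).1 hL) (kernel.ι φ ≫ ψ)
    have htI' : tI ≠ 0 := fun h => hψ (htI.1 h)
    let l1 : kernel φ' ⟶ kernel φ := kernel.lift φ (kernel.ι φ') (by rw [← hr1, kernel.condition_assoc, zero_comp])
    let l2 : kernel φ' ⟶ kernel (kernel.ι φ ≫ ψ) := kernel.lift _ l1
      (by rw [kernel.lift_ι_assoc, ← hr2, kernel.condition_assoc, zero_comp])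
    haveI : Mono l1 := mono_of_mono_fac (kernel.lift_ι _ _ _)
    haveI : Mono l2 := mono_of_mono_fac (kernel.lift_ι _ _ _)
    exact ih t' (by have := rank_le_of_mono hX htK ht' l2; omega) (n + 1) φ' ht'

/-- Submodules of `F ⊗ F'`. -/
theorem deg_sub_tensor_le {L : X.Modules} (hL : PicF.IsInvertible L) {s : ℕ} (hs0 : 0 < s) {F' : X.Modules}
    (hF' : FlatMod.IsFinLocFreeOfRank s F') (hss' : SS k F' s) (M : ℕ) :
    ∀ {t : ℕ} {G : X.Modules}, FlatMod.IsFinLocFreeOfRank t G →
      ∀ i : G ⟶ CohB1.tensorMod (∐ fun _ : Fin M => L) F', Mono i →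
      Curv2.deg k X G t * (s : ℤ) ≤ (t : ℤ) * (Curv2.deg k X L 1 * s + Curv2.deg k X F' s) := by
  haveI := hX.integral
  haveI := hX.like.noetherian
  have hL1 := (isInvertible_iff_isFinLocFreeOfRank_one L).1 hL
  have hfl : ∀ m, FlatMod.IsFinLocFree (CohB1.tensorMod (∐ fun _ : Fin m => L) F') := fun m => by
    obtain ⟨q, hq⟩ := exists_rank_of_isFinLocFree (isFinLocFree_copies hL m)
    exact isFinLocFree_of_ofRank (isFinLocFreeOfRank_tensor hq hF')
  induction M with
  | zero =>
    intro t G hG i hi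
    haveI := hi
    have h0' : FlatMod.IsFinLocFreeOfRank 0 (∐ fun _ : Fin 0 => L) :=
      isFinLocFreeOfRank_of_iso (((IsZero.iff_id_eq_zero _).2 (Sigma.hom_ext _ _ fun i => i.elim0)).iso
        ((IsZero.iff_id_eq_zero _).2 (Sigma.hom_ext _ _ fun i => i.elim0)))
        (isFinLocFreeOfRank_freeMod X 0)
    have hT := isFinLocFreeOfRank_tensor h0' hF'
    rw [Nat.zero_mul] at hT
    obtain rfl : t = 0 := Nat.le_zero.1 (rank_le_of_mono hX hT hG i)
    rw [deg_rank_zero hX.like hG]
    simp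
  | succ M ih =>
    intro t G hG i hi
    haveI := hi
    have hS : (copiesSC L M).ShortExact := (copiesSplit L M).shortExact
    have hT := shortExact_tensorR hS F' (flat_stalk_of_rank hF')
    obtain ⟨q₁, hq₁⟩ := exists_rank_of_isFinLocFree (hfl M)
    obtain ⟨q₂, hq₂⟩ := exists_rank_of_isFinLocFree (hfl (M + 1))
    have hq₃ : FlatMod.IsFinLocFreeOfRank s (CohB1.tensorMod L F') := by
      simpa using isFinLocFreeOfRank_tensor hL1 hF'
    have hs' : (0 : ℚ) < s := by exact_mod_cast hs0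
    let i' : G ⟶ ((copiesSC L M).map (tensorR F')).X₂ := i
    haveI : Mono i' := hi
    have hb := deg_le_of_shortExact hX hT hq₁ hq₂ hq₃
      (((Curv2.deg k X L 1 * s + Curv2.deg k X F' s : ℤ) : ℚ) / s)
      (fun A a j hj ha hA => by
        have h := ih hA j hj
        rw [div_le_div_iff₀ (by exact_mod_cast ha) hs']
        exact_mod_cast h.trans_eq (mul_comm _ _))
      (fun A a j hj ha hA => by
        haveI := hj
        have hN' : FlatMod.IsFinLocFreeOfRank s (CohB1.tensorMod F' L) := by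
          simpa using isFinLocFreeOfRank_tensor hF' hL1
        have h := ss_tensor hX.like hF' hL hss' A a (j ≫ (tensorComm L F').hom) (mono_comp j _) ha hA
        rw [show Curv2.deg k X (CohB1.tensorMod F' L) s = _ from by simpa using hX.like.deg_tensor hF' hL1] at h
        rw [div_le_div_iff₀ (by exact_mod_cast ha) hs']
        have h' : Curv2.deg k X A a * (s : ℤ) ≤ (Curv2.deg k X L 1 * s + Curv2.deg k X F' s) * a := by linarith
        exact_mod_cast h')
      hG i'
    rw [div_mul_eq_mul_div, le_div_iff₀ hs'] at hb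
    have hb' : Curv2.deg k X G t * (s : ℤ) ≤ (Curv2.deg k X L 1 * s + Curv2.deg k X F' s) * t := by exact_mod_cast hb
    linarith

end Groth.Agent.VB17
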