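import Groth.Agent.Lib.VB17.SmoothDuality
import Groth.Agent.Lib.VB17.TwistBound

/-!
# Vanishing of `H¹` of vector bundles from bounds on their quotients
-/

set_option linter.style.haveILetI false
set_option autoImplicit false

universe u

open CategoryTheory CategoryTheory.Limits AlgebraicGeometry

namespace Groth.Agent.VB17

open Groth.Agent.M1 Groth.Agent.M2 Groth.Agent.CurveCoh17

variable {k : Type u} [Field k] {X : Scheme.{u}} [X.Over (Spec (CommRingCat.of k))]

/-- `H¹(E) ≠ 0` gives a submodule of corank one and degree at least `deg E - (2g - 2)`. -/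
theorem exists_big_sub_of_h1 (hX : RegCurve k X) (h0 : Module.finrank k (Coh.HH X (Coh.structureModule X) 0) = 1)
    (hbig : HasBigDeg k X) {r : ℕ} (hr : 0 < r) {E : X.Modules} (hE : FlatMod.IsFinLocFreeOfRank r E)
    (h1 : Nontrivial (Coh.HH X E 1)) :
    ∃ (K : X.Modules) (i : K ⟶ E), Mono i ∧ FlatMod.IsFinLocFreeOfRank (r - 1) K ∧
      Curv2.deg k X E r - (2 * (Curv2.genus k X : ℤ) - 2) ≤ Curv2.deg k X K (r - 1) := by
  haveI := hX.integral; haveI := hX.like.noetherian
  obtain ⟨W, lam, hW⟩ := exists_isDualizing hX h0 hbig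
  obtain ⟨η, hη⟩ := exists_ne (0 : Coh.HH X E 1)
  haveI : Module.Free k (Coh.HH X E 1) := Module.Free.of_divisionRing k _
  haveI : Module.Projective k (Coh.HH X E 1) := Module.Projective.of_free
  obtain ⟨μ, hμ⟩ := Module.Projective.exists_dual_ne_zero k hη
  obtain ⟨φ, rfl⟩ := hW.exists_hom hX h0 hbig hE μ
  have hφ : φ ≠ 0 := fun h => hμ (by
    show lam (hmap k φ 1 η) = 0
    rw [h, hmap_zero, map_zero])
  have hW1 := (isInvertible_iff_isFinLocFreeOfRank_one W).1 hW.inv
  obtain ⟨rK, rI, dK, dI, hK, hI, hdK, hdI, hd, hr', hle, h0', -, -, -, hlast⟩ := map_data hX hE hW1 φ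
  have h1' : rI = 1 := by
    have : rI ≠ 0 := fun h => hφ (h0'.1 h)
    omega
  have hb := hlast h1'
  rw [(hW.invariants hX h0 hbig).2.2] at hb
  obtain rfl : rK = r - 1 := by omega
  exact ⟨_, kernel.ι φ, inferInstance, hK, by rw [← hdK, hd]; linarith⟩

theorem h1_subsingleton_of_ss (hX : RegCurve k X) (h0 : Module.finrank k (Coh.HH X (Coh.structureModule X) 0) = 1)
    (hbig : HasBigDeg k X) {r : ℕ} (hr : 0 < r) {E : X.Modules} (hE : FlatMod.IsFinLocFreeOfRank r E)
    (hss : SS k E r) (hdeg : (r : ℤ) * (2 * (Curv2.genus k X : ℤ) - 2) < Curv2.deg k X E r) :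
    Subsingleton (Coh.HH X E 1) := by
  by_contra hne
  rw [not_subsingleton_iff_nontrivial] at hne
  obtain ⟨K, i, hi, hK, hd⟩ := exists_big_sub_of_h1 hX h0 hbig hr hE hne
  rcases Nat.eq_zero_or_pos (r - 1) with h | h
  · haveI := hX.integral
    rw [h] at hK hd
    rw [deg_rank_zero hX.like hK] at hd
    have : r = 1 := by omega
    subst this
    push_cast at hdeg
    linarith
  · have h2 := hss K (r - 1) i hi h hK
    push_cast [Nat.cast_sub (show 1 ≤ r by omega)] at h2
    nlinarith [(by exact_mod_cast hr : (0 : ℤ) < r)]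

theorem h1_subsingleton_of_st (hX : RegCurve k X) (h0 : Module.finrank k (Coh.HH X (Coh.structureModule X) 0) = 1)
    (hbig : HasBigDeg k X) {r : ℕ} (hr : 2 ≤ r) {E : X.Modules} (hE : FlatMod.IsFinLocFreeOfRank r E)
    (hst : ST k E r) (hdeg : (r : ℤ) * (2 * (Curv2.genus k X : ℤ) - 2) ≤ Curv2.deg k X E r) :
    Subsingleton (Coh.HH X E 1) := by
  by_contra hne
  rw [not_subsingleton_iff_nontrivial] at hne
  obtain ⟨K, i, hi, hK, hd⟩ := exists_big_sub_of_h1 hX h0 hbig (by omega) hE hne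
  have h2 := hst K (r - 1) i hi (by omega) (by omega) hK
  push_cast [Nat.cast_sub (show 1 ≤ r by omega)] at h2
  nlinarith [(by exact_mod_cast hr : (2 : ℤ) ≤ r)]

theorem h1_subsingleton_of_bound (hX : RegCurve k X) (h0 : Module.finrank k (Coh.HH X (Coh.structureModule X) 0) = 1)
    (hbig : HasBigDeg k X) {r : ℕ} (hr : 0 < r) {E N : X.Modules} (hE : FlatMod.IsFinLocFreeOfRank r E)
    (hN : PicF.IsInvertible N) (C : ℤ)
    (hC : ∀ (G : X.Modules) (n : ℕ) (j : G ⟶ E), Mono j → 0 < n → FlatMod.IsFinLocFreeOfRank n G →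
      Curv2.deg k X G n * (r : ℤ) ≤ (Curv2.deg k X E r + (r : ℤ) * C) * (n : ℤ))
    (hbd : (r : ℤ) * ((r : ℤ) - 1) * C + (r : ℤ) * (2 * (Curv2.genus k X : ℤ) - 2) <
      Curv2.deg k X E r + (r : ℤ) * Curv2.deg k X N 1) :
    Subsingleton (Coh.HH X (CohB1.tensorMod E N) 1) := by
  by_contra hne
  rw [not_subsingleton_iff_nontrivial] at hne
  haveI := hX.integral
  have hN1 := (isInvertible_iff_isFinLocFreeOfRank_one N).1 hN
  have hEN : FlatMod.IsFinLocFreeOfRank r (CohB1.tensorMod E N) := by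
    simpa using isFinLocFreeOfRank_tensor hE hN1
  obtain ⟨K, i, hi, hK, hd⟩ := exists_big_sub_of_h1 hX h0 hbig hr hEN hne
  have hdEN : Curv2.deg k X (CohB1.tensorMod E N) r = Curv2.deg k X E r + r * Curv2.deg k X N 1 := by
    simpa using hX.like.deg_tensor hE hN1
  rw [hdEN] at hd
  rcases Nat.eq_zero_or_pos (r - 1) with h | h
  · rw [h] at hK hd
    rw [deg_rank_zero hX.like hK] at hd
    have : r = 1 := by omega
    subst this
    push_cast at hbd hd
    linarith
  · obtain ⟨N', hN', ⟨e⟩⟩ := exists_inverse hN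
    haveI := hi
    haveI := mono_tensorMap i hN'
    have hN1' := (isInvertible_iff_isFinLocFreeOfRank_one N').1 hN'
    have hK' : FlatMod.IsFinLocFreeOfRank (r - 1) (CohB1.tensorMod K N') := by
      simpa using isFinLocFreeOfRank_tensor hK hN1'
    have h2 := hC _ (r - 1) (tensorMap i (𝟙 N') ≫ (untwist e E).hom) inferInstance h hK'
    have hdK : Curv2.deg k X (CohB1.tensorMod K N') (r - 1) =
        Curv2.deg k X K (r - 1) + ((r - 1 : ℕ) : ℤ) * Curv2.deg k X N' 1 := by
      simpa using hX.like.deg_tensor hK hN1'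
    rw [hdK, hX.like.deg_of_tensor_iso hN hN' e] at h2
    push_cast [Nat.cast_sub (show 1 ≤ r by omega)] at h2
    nlinarith [(by exact_mod_cast hr : (0 : ℤ) < r), Int.natCast_nonneg (Curv2.genus k X)]

end Groth.Agent.VB17
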