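import Groth.Agent.Lib.VB17.Atiyah
import Groth.Agent.Lib.VB17.SmoothDuality

/-!
# Existence of stable and semistable bundles in genus one
-/

set_option linter.style.haveILetI false
set_option autoImplicit false
set_option maxHeartbeats 800000

universe u

open CategoryTheory TopologicalSpace CategoryTheory.Limits AlgebraicGeometry

namespace Groth.Agent.VB17

open Groth.Agent.M1 Groth.Agent.M2 Groth.Agent.CurveCoh17

variable {k : Type u} [Field k] [IsAlgClosed k] {X : Scheme.{u}} [X.Over (Spec (CommRingCat.of k))] [IsIntegral X]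
  [IsProper (X ↘ Spec (CommRingCat.of k))] [Smooth (X ↘ Spec (CommRingCat.of k))]

theorem exists_st_twist (hdim : topologicalKrullDim X = 1) {r : ℕ} {F : X.Modules}
    (hF : FlatMod.IsFinLocFreeOfRank r F) (hst : ST k F r) (m : ℤ) :
    ∃ F' : X.Modules, FlatMod.IsFinLocFreeOfRank r F' ∧ ST k F' r ∧
      Curv2.deg k X F' r = Curv2.deg k X F r + r * m := by
  obtain ⟨hX, -, -⟩ := setup (k := k) (X := X) hdim
  obtain ⟨N, hN, hdN⟩ := exists_invertible_deg hX.like hdim
    (fun x => SmoothReg17.isRegularLocalRing_stalk (X ↘ Spec (CommRingCat.of k)) x) m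
  have hN1 := (isInvertible_iff_isFinLocFreeOfRank_one N).1 hN
  exact ⟨_, by simpa using isFinLocFreeOfRank_tensor hF hN1, st_tensor hX.like hF hN hst,
    by simpa [hdN] using hX.like.deg_tensor hF hN1⟩

theorem exists_st_kernel (hdim : topologicalKrullDim X = 1) (hg : Curv2.genus k X = 1)
    {ρ n : ℕ} {F : X.Modules} (hρ : 0 < ρ) (hF : FlatMod.IsFinLocFreeOfRank ρ F) (hst : ST k F ρ)
    (hn : Curv2.deg k X F ρ = n) (hρn : ρ ≤ n) (h2 : ρ = n → 2 ≤ ρ) :
    ∃ K : X.Modules, FlatMod.IsFinLocFreeOfRank (n - ρ) K ∧ Curv2.deg k X K (n - ρ) = -(n : ℤ) ∧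
      (ρ < n → ST k K (n - ρ)) := by
  obtain ⟨hX, h0, hbig⟩ := setup (k := k) (X := X) hdim
  haveI : JacobsonSpace X := LocallyOfFiniteType.jacobsonSpace (X ↘ Spec (CommRingCat.of k))
  refine exists_kernel_stable hX h0 hbig hg ?_ (fun x hx => pointIdeal_data k hdim hx) hρ hF hst hn hρn h2
  obtain ⟨x, -, hx⟩ := nonempty_inter_closedPoints (Z := (Set.univ : Set X)) Set.univ_nonempty
    isClosed_univ.isLocallyClosed
  exact ⟨x, (mem_closedPoints_iff).1 hx⟩

/-- Rank and degree of a stable bundle are coprime. -/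
theorem isCoprime_of_st (hdim : topologicalKrullDim X = 1) (hg : Curv2.genus k X = 1) :
    ∀ (r : ℕ), 0 < r → ∀ {F : X.Modules}, FlatMod.IsFinLocFreeOfRank r F → ST k F r →
      IsCoprime (Curv2.deg k X F r) (r : ℤ) := by
  intro r
  induction r using Nat.strong_induction_on with
  | _ r ih =>
    intro hr F hF hst
    obtain ⟨hX, -, -⟩ := setup (k := k) (X := X) hdim
    rcases eq_or_ne r 1 with rfl | hr1
    · rw [Nat.cast_one]; exact isCoprime_one_right
    set d := Curv2.deg k X F r with hdef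
    have hs0 := Int.emod_nonneg d (show (r : ℤ) ≠ 0 by omega)
    have hs1 := Int.emod_lt_of_pos d (show (0 : ℤ) < r by omega)
    obtain ⟨s, hs⟩ := Int.eq_ofNat_of_zero_le hs0
    obtain ⟨F', hF', hst', hd'⟩ := exists_st_twist hdim hF hst (1 - d / r)
    have hn : Curv2.deg k X F' r = ((r + s : ℕ) : ℤ) := by
      rw [hd', ← hdef]
      push_cast
      rw [← hs]
      linarith [Int.emod_add_ediv_mul d r]
    obtain ⟨K, hK, hdK, hKst⟩ := exists_st_kernel hdim hg hr hF' hst' hn (by omega) (by omega)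
    simp only [Nat.add_sub_cancel_left] at hK hdK hKst
    rcases Nat.eq_zero_or_pos s with h | h
    · subst h
      rw [deg_rank_zero hX.like hK] at hdK
      push_cast at hdK
      omega
    · have h1 : IsCoprime (-((r + s : ℕ) : ℤ)) (s : ℤ) := hdK ▸ ih s (by omega) h hK (hKst (by omega))
      rw [IsCoprime.neg_left_iff] at h1
      push_cast at h1
      have h2 : IsCoprime (r : ℤ) (s : ℤ) := IsCoprime.of_add_mul_left_left (z := 1) (by simpa using h1)
      have h3 := h2.symm.add_mul_left_left (d / r)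
      rwa [← hs, Int.emod_add_mul_ediv] at h3

/-- Stable bundles exist in every coprime rank and degree. -/
theorem exists_st_of_isCoprime (hdim : topologicalKrullDim X = 1) (hg : Curv2.genus k X = 1) :
    ∀ (r : ℕ), 0 < r → ∀ d : ℤ, IsCoprime d (r : ℤ) →
      ∃ F : X.Modules, FlatMod.IsFinLocFreeOfRank r F ∧ ST k F r ∧ Curv2.deg k X F r = d := by
  intro r
  induction r using Nat.strong_induction_on with
  | _ r ih =>
    intro hr d hd
    rcases eq_or_ne r 1 with rfl | hr1
    · obtain ⟨hX, -, -⟩ := setup (k := k) (X := X) hdim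
      obtain ⟨N, hN, hdN⟩ := exists_invertible_deg hX.like hdim
        (fun x => SmoothReg17.isRegularLocalRing_stalk (X ↘ Spec (CommRingCat.of k)) x) d
      exact ⟨N, (isInvertible_iff_isFinLocFreeOfRank_one N).1 hN, fun G r' i _ h h' _ => by omega, hdN⟩
    have hs0 := Int.emod_nonneg d (show (r : ℤ) ≠ 0 by omega)
    have hs1 := Int.emod_lt_of_pos d (show (0 : ℤ) < r by omega)
    obtain ⟨s, hs⟩ := Int.eq_ofNat_of_zero_le hs0
    have hsr : IsCoprime (s : ℤ) (r : ℤ) := by
      have := hd.add_mul_left_left (-(d / r))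
      rwa [show d + (r : ℤ) * -(d / r) = s by rw [← hs]; linarith [Int.emod_add_ediv_mul d r]] at this
    have hspos : 0 < s := by
      rcases Nat.eq_zero_or_pos s with rfl | h
      · rw [Nat.cast_zero, isCoprime_zero_left, Int.isUnit_iff_natAbs_eq] at hsr
        omega
      · exact h
    have hcop : IsCoprime ((r + (r - s) : ℕ) : ℤ) ((r - s : ℕ) : ℤ) := by
      push_cast [Nat.cast_sub (show s ≤ r by omega)]
      have h1 : IsCoprime (r : ℤ) ((r : ℤ) - s) := by
        have := (hsr.neg_left.add_mul_left_left 1).symm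
        rwa [show -(s : ℤ) + r * 1 = r - s by ring] at this
      simpa using h1.add_mul_left_left 1
    obtain ⟨F, hF, hst, hdF⟩ := ih (r - s) (by omega) (by omega) _ hcop
    obtain ⟨K, hK, hdK, hKst⟩ := exists_st_kernel hdim hg (by omega) hF hst hdF (by omega) (by omega)
    simp only [Nat.add_sub_cancel_right] at hK hdK hKst
    obtain ⟨F', hF', hst', hd'⟩ := exists_st_twist hdim hK (hKst (by omega)) (d / r + 2)
    refine ⟨F', hF', hst', ?_⟩
    rw [hd', hdK]
    push_cast [Nat.cast_sub (show s ≤ r by omega)]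
    rw [← hs]
    linarith [Int.emod_add_ediv_mul d r]

/-- Semistable bundles exist in every rank and degree. -/
theorem exists_ss (hdim : topologicalKrullDim X = 1) (hg : Curv2.genus k X = 1) {r : ℕ} (hr : 0 < r) (d : ℤ) :
    ∃ F : X.Modules, FlatMod.IsFinLocFreeOfRank r F ∧ Curv2.deg k X F r = d ∧ SS k F r := by
  obtain ⟨hX, -, -⟩ := setup (k := k) (X := X) hdim
  haveI := hX.like.noetherian
  have hh : 0 < Int.gcd d r := Int.gcd_pos_of_ne_zero_right _ (by omega)
  obtain ⟨d₀, hd₀⟩ : (Int.gcd d r : ℤ) ∣ d := Int.gcd_dvd_left d r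
  obtain ⟨r₀, hr₀⟩ : Int.gcd d r ∣ r := Int.natCast_dvd_natCast.1 (Int.gcd_dvd_right d r)
  have hr0pos : 0 < r₀ := Nat.pos_of_ne_zero fun h => by subst h; omega
  have hcop : IsCoprime d₀ (r₀ : ℤ) := by
    rw [Int.isCoprime_iff_gcd_eq_one]
    generalize hgd : Int.gcd d r = g at hd₀ hr₀ hh
    rw [hd₀, hr₀, Nat.cast_mul, Int.gcd_mul_left, Int.natAbs_natCast] at hgd
    nlinarith
  obtain ⟨F₀, hF₀, hst₀, hdF₀⟩ := exists_st_of_isCoprime hdim hg r₀ hr0pos d₀ hcop
  have hss₀ := ss_of_st hX hF₀ hst₀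
  have key : ∀ n : ℕ, ∃ F : X.Modules, FlatMod.IsFinLocFreeOfRank ((n + 1) * r₀) F ∧
      Curv2.deg k X F ((n + 1) * r₀) = ((n + 1 : ℕ) : ℤ) * d₀ ∧ SS k F ((n + 1) * r₀) := by
    intro n
    induction n with
    | zero => exact ⟨F₀, by simpa using hF₀, by simpa using hdF₀, by simpa using hss₀⟩
    | succ n ih =>
      obtain ⟨G, hG, hdG, hssG⟩ := ih
      obtain ⟨m, hm⟩ := exists_rank_biprod hX hF₀ hG
      have hS := (ShortComplex.Splitting.ofHasBinaryBiproduct F₀ G).shortExact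
      obtain rfl : m = (n + 1 + 1) * r₀ := by
        rw [rank_add hS hF₀ hm hG]; ring
      have hd : Curv2.deg k X (F₀ ⊞ G) ((n + 1 + 1) * r₀) = ((n + 1 + 1 : ℕ) : ℤ) * d₀ := by
        have h : Curv2.deg k X (F₀ ⊞ G) ((n + 1 + 1) * r₀) = _ := deg_add hX.like hS hF₀ hm hG
        rw [h, show Curv2.deg k X _ r₀ = d₀ from hdF₀, show Curv2.deg k X _ ((n + 1) * r₀) = _ from hdG]
        push_cast; ring
      refine ⟨_, hm, hd, (ss_extension_iff (S := ShortComplex.mk (biprod.inl : F₀ ⟶ F₀ ⊞ G) biprod.snd biprod.inl_snd)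
        hX hS hr0pos (by positivity) (by positivity) hF₀ hm hG ?_ ?_).2 ⟨hss₀, hssG⟩⟩
      · show Curv2.deg k X F₀ r₀ * _ = Curv2.deg k X (F₀ ⊞ G) _ * _
        rw [hd, hdF₀]; push_cast; ring
      · show Curv2.deg k X G _ * _ = Curv2.deg k X (F₀ ⊞ G) _ * _
        rw [hd, hdG]; push_cast; ring
  obtain ⟨h', hh'⟩ : ∃ h', Int.gcd d r = h' + 1 := ⟨_, (Nat.sub_add_cancel hh).symm⟩
  obtain ⟨F, hF, hdF, hss⟩ := key h'
  rw [← hh'] at hdF hF hss
  rw [← hr₀] at hdF hF hss
  exact ⟨F, hF, hdF.trans hd₀.symm, hss⟩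

end Groth.Agent.VB17
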