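import Groth.Agent.Lib.CohMop.Bidual
import Groth.Agent.Lib.VB17.Duality
import Groth.Agent.Lib.VB17.Slope
import Groth.Agent.Lib.VB17.Proper
import Mathlib.Algebra.Homology.DerivedCategory.Ext.ExtClass
import Mathlib.Algebra.Homology.DerivedCategory.Ext.EnoughInjectives

/-!
# Serre duality for extensions of vector bundles on a regular curve

If every map `A → B ⊗ W` vanishes, every extension of `B` by `A` splits.
-/

set_option linter.style.haveILetI false
set_option autoImplicit false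
set_option maxHeartbeats 800000
set_option backward.isDefEq.respectTransparency false
set_option backward.isDefEq.respectTransparency.types false

universe u

open CategoryTheory CategoryTheory.Limits AlgebraicGeometry Abelian

namespace Groth.Agent.VB17

open Groth.Agent.M1 Groth.Agent.M2 Groth.Agent.CurveCoh17

variable {k : Type u} [Field k] {X : Scheme.{u}} [X.Over (Spec (CommRingCat.of k))]

/-- Extensions of `B` by `A` split once `H¹(ℋom(B, A)) = 0`. -/
theorem isSplitEpi_of_h1_ihom {T : ShortComplex X.Modules} (hT : T.ShortExact)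
    (hB : FlatMod.IsFinLocFree T.X₃) (h1 : Subsingleton (Coh.HH X ((CohMop.ihom T.X₃).obj T.X₁) 1)) :
    IsSplitEpi T.g := by
  haveI : HasExt.{u} X.Modules := hasExt_of_enoughInjectives _
  obtain ⟨e⟩ := CohMop.nonempty_ext_addEquiv_HH hB T.X₁ 1
  haveI : Subsingleton (Ext T.X₃ T.X₁ 1) := e.toEquiv.subsingleton
  obtain ⟨x₂, hx⟩ := Ext.covariant_sequence_exact₃ T.X₃ hT (Ext.mk₀ (𝟙 T.X₃)) (n₁ := 1) rfl
    (Subsingleton.elim _ _)
  obtain ⟨s, rfl⟩ := (Ext.mk₀_bijective T.X₃ T.X₂).2 x₂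
  refine IsSplitEpi.mk' ⟨s, (Ext.mk₀_bijective T.X₃ T.X₃).1 ?_⟩
  rw [← hx, Ext.mk₀_comp_mk₀]

/-- `H¹(ℋom(B, A)) = 0` as soon as all maps `A → ℋom(B^∨, W)` vanish. -/
theorem h1_ihom_subsingleton [IsIntegral X] (hX : RegCurve k X)
    (h0 : Module.finrank k (Coh.HH X (Coh.structureModule X) 0) = 1) (hbig : HasBigDeg k X)
    {W : X.Modules} {lam : Module.Dual k (Coh.HH X W 1)} (hW : IsDualizing k W lam)
    {a : ℕ} {A B : X.Modules} (hA : FlatMod.IsFinLocFreeOfRank a A) (hB : FlatMod.IsFinLocFree B)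
    (hz : ∀ f : A ⟶ (CohMop.tenR B).obj W, f = 0) :
    Subsingleton (Coh.HH X ((CohMop.ihom B).obj A) 1) := by
  haveI := hX.like.noetherian
  have hD := CohMop.isFinLocFree_dual hB
  haveI : ModSite.HasSheafHom (O := X.sheaf) B := CohMop.isLeftAdjoint_tenR _
  haveI := CohMop.isIso_bidual hB
  obtain ⟨s, hs⟩ := exists_rank_of_isFinLocFree' hD
  let F := (CohMop.tenR (CohMop.dual B)).obj A
  have hF : FlatMod.IsFinLocFreeOfRank (a * s) F := isFinLocFreeOfRank_tensor hA hs
  let e : F ≅ (CohMop.ihom B).obj A :=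
    (CohMop.tenRIhomIso (CohMop.dual B) hD).app A ≪≫
      { hom := CohMop.ihomMap (CohMop.bidual B) A
        inv := CohMop.ihomMap (inv (CohMop.bidual B)) A
        hom_inv_id := by rw [CohMop.ihomMap_comp, IsIso.inv_hom_id, CohMop.ihomMap_id]
        inv_hom_id := by rw [CohMop.ihomMap_comp, IsIso.hom_inv_id, CohMop.ihomMap_id] }
  suffices h : Subsingleton (Coh.HH X F 1) from (hequiv k e.symm 1).toEquiv.subsingleton
  by_contra hne
  rw [not_subsingleton_iff_nontrivial] at hne
  obtain ⟨v, hv⟩ := exists_ne (0 : Coh.HH X F 1)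
  haveI : Module.Projective k (Coh.HH X F 1) := Module.Projective.of_basis (Module.Basis.ofVectorSpace k _)
  obtain ⟨μ, hμ⟩ := Module.Projective.exists_dual_ne_zero k hv
  obtain ⟨φ, hφ⟩ := hW.exists_hom hX h0 hbig hF μ
  have hφ0 : φ ≠ 0 := fun h => hμ (by rw [hφ, h, hmap_zero', LinearMap.comp_zero, LinearMap.zero_apply])
  let ψ := (CohMop.ihomAdj (CohMop.dual B)).homEquiv A W φ
  let i := (CohMop.tenRIhomIso B hB).app W
  have h' : ψ = 0 := by
    rw [← cancel_mono i.inv, zero_comp]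
    exact hz _
  refine hφ0 ?_
  have h2 : ((CohMop.ihomAdj (CohMop.dual B)).homEquiv A W).symm ψ = φ := Equiv.symm_apply_apply _ _
  haveI := CohMop.isLeftAdjoint_tenR (CohMop.dual B)
  rw [← h2, h', Adjunction.homEquiv_counit]
  simp

/-- The dualizing module of a curve of genus one is trivial. -/
theorem nonempty_dualizing_iso [IsIntegral X] (hX : RegCurve k X)
    (h0 : Module.finrank k (Coh.HH X (Coh.structureModule X) 0) = 1) (hbig : HasBigDeg k X)
    {W : X.Modules} {lam : Module.Dual k (Coh.HH X W 1)} (hW : IsDualizing k W lam)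
    (hg : Curv2.genus k X = 1) : Nonempty (W ≅ Coh.structureModule X) := by
  haveI := hX.like.noetherian
  obtain ⟨hw0, -, hwd⟩ := hW.invariants hX h0 hbig
  rw [hg] at hwd hw0
  haveI : Nontrivial (Coh.HH X W 0) := Module.nontrivial_of_finrank_pos (R := k) (by omega)
  obtain ⟨z, hz⟩ := exists_ne (0 : Coh.HH X W 0)
  have hW1 := (isInvertible_iff_isFinLocFreeOfRank_one W).1 hW.inv
  haveI : Mono (secHom (hh0 W z)) := (mono_iff_stalk _).2 (injective_stalk_secHom hW1 (hh0_ne_zero hz))
  haveI := isIso_of_mono hX ((isInvertible_iff_isFinLocFreeOfRank_one _).1 (PicLoc.isInvertible_structureModule X))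
    hW1 (by rw [deg_structureModule, hwd]; norm_num) (secHom (hh0 W z))
  exact ⟨(asIso (secHom (hh0 W z))).symm⟩

/-- In genus one, extensions split when there is no map from the sub to the quotient. -/
theorem isSplitEpi_of_hom_zero [IsIntegral X] (hX : RegCurve k X)
    (h0 : Module.finrank k (Coh.HH X (Coh.structureModule X) 0) = 1) (hbig : HasBigDeg k X)
    (hg : Curv2.genus k X = 1) {T : ShortComplex X.Modules} (hT : T.ShortExact) {a : ℕ}
    (hA : FlatMod.IsFinLocFreeOfRank a T.X₁) (hB : FlatMod.IsFinLocFree T.X₃)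
    (hz : ∀ f : T.X₁ ⟶ T.X₃, f = 0) : IsSplitEpi T.g := by
  obtain ⟨W, lam, hW⟩ := exists_isDualizing hX h0 hbig
  obtain ⟨j⟩ := nonempty_dualizing_iso hX h0 hbig hW hg
  refine isSplitEpi_of_h1_ihom hT hB (h1_ihom_subsingleton hX h0 hbig hW hA hB fun f => ?_)
  let j' : (CohMop.tenR T.X₃).obj W ≅ T.X₃ := (CohMop.tenR T.X₃).mapIso j ≪≫ tensorLUnit T.X₃
  rw [← cancel_mono j'.hom, zero_comp]
  exact hz _

end Groth.Agent.VB17
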