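import Groth.Agent.Lib.VB17.Proper
import Groth.Agent.Lib.TensorMod.Invertible
import Groth.Agent.Lib.AmpleFin18.PushEuler

/-!
# Pull back of vector bundles along an involution
-/

set_option linter.style.haveILetI false
set_option autoImplicit false

universe u

open CategoryTheory CategoryTheory.Limits AlgebraicGeometry

namespace Groth.Agent.VB17

variable {k : Type u} [Field k] {X : Scheme.{u}} (σ : X ⟶ X) (hσ : σ ≫ σ = 𝟙 X)

/-- Pull back along an involution squares to the identity. -/
noncomputable def involPullIso :
    Scheme.Modules.pullback σ ⋙ Scheme.Modules.pullback σ ≅ 𝟭 X.Modules :=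
  Scheme.Modules.pullbackComp σ σ ≪≫ Scheme.Modules.pullbackCongr hσ ≪≫ Scheme.Modules.pullbackId X

include hσ in
theorem isEquivalence_pullback : (Scheme.Modules.pullback σ).IsEquivalence :=
  (CategoryTheory.Equivalence.mk (Scheme.Modules.pullback σ) (Scheme.Modules.pullback σ)
    (involPullIso σ hσ).symm (involPullIso σ hσ)).isEquivalence_functor

/-- For an involution pull back and direct image agree. -/
noncomputable def involPushIso : Scheme.Modules.pushforward σ ≅ Scheme.Modules.pullback σ :=
  (Scheme.Modules.pullbackPushforwardAdjunction σ).rightAdjointUniq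
    (CategoryTheory.Equivalence.mk (Scheme.Modules.pullback σ) (Scheme.Modules.pullback σ)
      (involPullIso σ hσ).symm (involPullIso σ hσ)).toAdjunction

variable [X.Over (Spec (CommRingCat.of k))]

include hσ in
/-- The degree is invariant under an involution over the base. -/
theorem deg_pullback_invol (hσS : σ ≫ (X ↘ Spec (CommRingCat.of k)) = X ↘ Spec (CommRingCat.of k))
    {n : ℕ} {F : X.Modules} (hF : FlatMod.IsFinLocFreeOfRank n F) :
    Curv2.deg k X ((Scheme.Modules.pullback σ).obj F) n = Curv2.deg k X F n := by
  haveI : IsIso σ := ⟨σ, hσ, hσ⟩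
  haveI : IsAffineHom σ := inferInstance
  have he := AmpleFin18.euler_push σ hσS F
    (M1.isFP_isQCoh (M1.isFP_of_isFinLocFree (M2.isFinLocFree_of_ofRank hF)))
  have e := ((involPushIso σ hσ).app F)
  unfold Curv2.deg
  rw [← CurveCoh17.euler_iso e, he]

end Groth.Agent.VB17
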