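import Groth.Agent.Lib.VB17.TwistBound
import Groth.Agent.Lib.VB17.SmoothDuality
import Groth.Agent.Lib.VB17.Slope
import Groth.Agent.Lib.VB17.Simple
import Groth.Agent.Lib.CurveOm17.CliffordStep

/-!
# `h⁰` of bundles all of whose subbundles have bounded slope; `h¹` through the dualizing module
-/

set_option linter.style.haveILetI false
set_option autoImplicit false
set_option maxHeartbeats 800000

universe u

open CategoryTheory TopologicalSpace CategoryTheory.Limits AlgebraicGeometry

namespace Groth.Agent.VB17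

open Groth.Agent.M1 Groth.Agent.M2 Groth.Agent.CurveCoh17

variable {k : Type u} [Field k] {X : Scheme.{u}} [X.Over (Spec (CommRingCat.of k))] {x : X}

attribute [local instance] stalkMod Curv2.resAlgebra

/-- If every locally free submodule has `deg < t · rank`, then `h⁰ ≤ t · rank`. -/
theorem h0_le_of_subs_lt [IsIntegral X] (hX : CurveLike k X) (hx : IsClosed ({x} : Set X))
    (hI : PicF.IsInvertible
      (ClSub.idealMod (Scheme.IdealSheafData.vanishingIdeal (X := X) (⟨{x}, hx⟩ : Closeds X))))
    (h1 : Module.finrank k (X.residueField x) = 1) :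
    ∀ (t : ℕ) {r : ℕ} {G : X.Modules}, FlatMod.IsFinLocFreeOfRank r G →
      (∀ (F : X.Modules) (r' : ℕ) (i : F ⟶ G), Mono i → 0 < r' → FlatMod.IsFinLocFreeOfRank r' F →
        Curv2.deg k X F r' < r' * t) →
      Module.finrank k (Coh.HH X G 0) ≤ r * t := by
  intro t
  induction t with
  | zero =>
    intro r G hG hss
    haveI : Subsingleton (Coh.HH X G 0) := by
      by_contra hne
      rw [not_subsingleton_iff_nontrivial] at hne
      obtain ⟨z, hz⟩ := exists_ne (0 : Coh.HH X G 0)
      haveI : Mono (secHom (hh0 G z)) := (mono_iff_stalk _).2 (injective_stalk_secHom hG (hh0_ne_zero hz))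
      have h := hss (Coh.structureModule X) 1 (secHom (hh0 G z)) inferInstance one_pos
        ((isInvertible_iff_isFinLocFreeOfRank_one _).1 (PicLoc.isInvertible_structureModule X))
      rw [deg_structureModule] at h
      simp at h
    rw [Module.finrank_zero_of_subsingleton (M := Coh.HH X G 0)]
    omega
  | succ t ih =>
    intro r G hG hss
    have hI1 := (isInvertible_iff_isFinLocFreeOfRank_one _).1 hI
    have hGI : FlatMod.IsFinLocFreeOfRank r (CohB1.tensorMod G (ClSub.idealMod (Scheme.IdealSheafData.vanishingIdeal (X := X) (⟨{x}, hx⟩ : Closeds X)))) := by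
      simpa using isFinLocFreeOfRank_tensor hG hI1
    have hle := h0_le_twist_add (k := k) hX hx hG
    have hih := ih hGI fun F r' i hi h0' hF => by
      obtain ⟨N', hN', ⟨e⟩⟩ := exists_inverse hI
      haveI := hi
      haveI := mono_tensorMap i hN'
      have hN1' := (isInvertible_iff_isFinLocFreeOfRank_one N').1 hN'
      have hF' : FlatMod.IsFinLocFreeOfRank r' (CohB1.tensorMod F N') := by
        simpa using isFinLocFreeOfRank_tensor hF hN1'
      have h := hss (CohB1.tensorMod F N') r' (tensorMap i (𝟙 N') ≫ (untwist e G).hom) inferInstance h0' hF'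
      have d1 : Curv2.deg k X (CohB1.tensorMod F N') r' = Curv2.deg k X F r' + r' * Curv2.deg k X N' 1 := by
        simpa using hX.deg_tensor hF hN1'
      rw [d1, hX.deg_of_tensor_iso hI hN' e, deg_pointIdeal hX hx, h1] at h
      push_cast at h
      linarith
    rw [h1, mul_one] at hle
    rw [Nat.mul_succ]
    omega

/-- A bundle with `H¹ ≠ 0` maps nontrivially to the dualizing module. -/
theorem exists_hom_dualizing [IsAlgClosed k] [IsIntegral X] [IsProper (X ↘ Spec (CommRingCat.of k))]
    [Smooth (X ↘ Spec (CommRingCat.of k))] (hdim : topologicalKrullDim X = 1) :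
    ∃ W : X.Modules, PicF.IsInvertible W ∧ Module.finrank k (Coh.HH X W 0) = Curv2.genus k X ∧
      Curv2.deg k X W 1 = 2 * (Curv2.genus k X : ℤ) - 2 ∧
      ∀ {r : ℕ} {F : X.Modules}, FlatMod.IsFinLocFreeOfRank r F → Nontrivial (Coh.HH X F 1) →
        ∃ φ : F ⟶ W, φ ≠ 0 := by
  obtain ⟨hX, h0, hbig⟩ := setup (k := k) (X := X) hdim
  obtain ⟨W, lam, hW⟩ := exists_dual (k := k) (X := X) hdim
  obtain ⟨hw0, -, hwd⟩ := hW.invariants hX h0 hbig
  refine ⟨W, hW.inv, hw0, hwd, fun {r F} hF hnt => ?_⟩
  haveI := hnt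
  obtain ⟨v, hv⟩ := exists_ne (0 : Coh.HH X F 1)
  haveI : Module.Projective k (Coh.HH X F 1) := Module.Projective.of_basis (Module.Basis.ofVectorSpace k _)
  obtain ⟨μ, hμ⟩ := Module.Projective.exists_dual_ne_zero k hv
  obtain ⟨φ, hφ⟩ := hW.exists_hom hX h0 hbig hF μ
  refine ⟨φ, fun h => hμ ?_⟩
  rw [hφ, h, hmap_zero', LinearMap.comp_zero, LinearMap.zero_apply]

end Groth.Agent.VB17
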